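/-
Rank one pairs of subgroups (Timmesfeld): unipotent subgroups, two-transitivity, normal subgroups,
quadratic modules.
-/
import Mathlib
import Cfsg.Prelude.Def_RootSubgroups

set_option autoImplicit false
set_option linter.unusedSectionVars false

open Cfsg

namespace CfsgLib.RootSub

variable {G : Type*} [Group G]

/-! ### Conjugation of subgroups -/

theorem mem_cj {A : Subgroup G} {g x : G} : x ∈ conjBy A g ↔ g⁻¹ * x * g ∈ A := by
  constructor
  · rintro ⟨a, ha, rfl⟩
    simpa [MulAut.conj_apply, mul_assoc] using ha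
  · intro h
    exact ⟨_, h, by simp [MulAut.conj_apply, mul_assoc]⟩

theorem conj_mem_cj {A : Subgroup G} {a : G} (g : G) (ha : a ∈ A) : g * a * g⁻¹ ∈ conjBy A g :=
  mem_cj.mpr (by simpa [mul_assoc] using ha)

theorem cj_cj (A : Subgroup G) (g h : G) : conjBy (conjBy A g) h = conjBy A (h * g) := by
  ext x; simp [mem_cj, mul_assoc]

theorem cj_one (A : Subgroup G) : conjBy A 1 = A := by
  ext x; simp [mem_cj]

theorem cj_inj {A B : Subgroup G} {g : G} (h : conjBy A g = conjBy B g) : A = B := by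
  have := congrArg (fun X => conjBy X g⁻¹) h
  simpa only [cj_cj, inv_mul_cancel, cj_one] using this

theorem cj_eq_iff {A B : Subgroup G} {g : G} : conjBy A g = B ↔ A = conjBy B g⁻¹ := by
  constructor <;> rintro rfl
  · rw [cj_cj, inv_mul_cancel, cj_one]
  · rw [cj_cj, mul_inv_cancel, cj_one]

theorem cj_eq_self {A : Subgroup G} {g : G} :
    conjBy A g = A ↔ g ∈ Subgroup.normalizer (A : Set G) := by
  rw [Subgroup.mem_normalizer_iff']
  constructor
  · intro h n
    constructor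
    · intro hn
      have : g * (n * g) * g⁻¹ ∈ conjBy A g := conj_mem_cj g hn
      rw [h, show g * (n * g) * g⁻¹ = g * n by group] at this
      exact this
    · intro hn
      have : g * n ∈ conjBy A g := by rw [h]; exact hn
      rw [mem_cj, show g⁻¹ * (g * n) * g = n * g by group] at this
      exact this
  · intro h
    ext x
    rw [mem_cj]
    have := h (g⁻¹ * x)
    simpa [mul_assoc] using this

theorem cj_of_mem {A : Subgroup G} {a : G} (ha : a ∈ A) : conjBy A a = A :=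
  cj_eq_self.mpr (Subgroup.le_normalizer ha)

theorem cj_mono {A B : Subgroup G} (h : A ≤ B) (g : G) : conjBy A g ≤ conjBy B g := Subgroup.map_mono h

theorem cj_sup (A B : Subgroup G) (g : G) : conjBy (A ⊔ B) g = conjBy A g ⊔ conjBy B g :=
  Subgroup.map_sup _ _ _

/-- The isomorphism onto a conjugate. -/
noncomputable def cjEquiv (A : Subgroup G) (g : G) : A ≃* conjBy A g :=
  A.equivMapOfInjective _ (MulAut.conj g).injective

theorem isNilpotent_cj {A : Subgroup G} (g : G) (h : Group.IsNilpotent A) :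
    Group.IsNilpotent (conjBy A g) :=
  Group.nilpotent_of_mulEquiv (cjEquiv A g)

/-! ### Pairs -/

variable {A B : Subgroup G}

theorem pair_cj (h : IsRankOnePair A B) (g : G) : IsRankOnePair (conjBy A g) (conjBy B g) := by
  have key : ∀ {A B : Subgroup G}, RankOneCondition A B → RankOneCondition (conjBy A g) (conjBy B g) := by
    intro A B hc a ha ha1
    have ha' := mem_cj.mp ha
    obtain ⟨b, hb, hb1, he⟩ := hc _ ha' (fun e => ha1 (by
      have := congrArg (fun z => g * z * g⁻¹) e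
      simpa [mul_assoc] using this))
    refine ⟨g * b * g⁻¹, conj_mem_cj g hb, fun e => hb1 (by simpa using e), ?_⟩
    have := congrArg (fun X => conjBy X g) he
    simp only [cj_cj] at this ⊢
    convert this using 2 <;> group
  exact ⟨fun e => h.ne (cj_inj e), isNilpotent_cj g h.nilpotent_left, isNilpotent_cj g h.nilpotent_right,
    key h.cond_left, key h.cond_right⟩

theorem pair_symm (h : IsRankOnePair A B) : IsRankOnePair B A := RankOnePair_symm h

theorem eq_one_of_normalizes (h : IsRankOnePair A B) {a : G} (ha : a ∈ A)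
    (hn : a ∈ Subgroup.normalizer (B : Set G)) : a = 1 := by
  by_contra h1
  obtain ⟨b, hb, -, he⟩ := h.cond_left a ha h1
  rw [cj_eq_self.mpr (inv_mem hn)] at he
  apply h.ne
  apply cj_inj (g := b⁻¹)
  rw [he, cj_of_mem (inv_mem hb)]

theorem inf_eq_bot_left (h : IsRankOnePair A B) : A ⊓ Subgroup.normalizer (B : Set G) = ⊥ :=
  (Subgroup.eq_bot_iff_forall _).mpr fun _ hx => eq_one_of_normalizes h hx.1 hx.2

theorem partner_unique (h : IsRankOnePair A B) {a b b' : G} (hb : b ∈ B) (hb' : b' ∈ B)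
    (e : conjBy A b⁻¹ = conjBy B a⁻¹) (e' : conjBy A b'⁻¹ = conjBy B a⁻¹) : b = b' := by
  have he : conjBy A (b' * b⁻¹) = A := by
    have := congrArg (fun X => conjBy X b') (e.trans e'.symm)
    simpa only [cj_cj, mul_inv_cancel, cj_one] using this
  have := eq_one_of_normalizes (pair_symm h) (mul_mem hb' (inv_mem hb)) (cj_eq_self.mp he)
  rw [mul_inv_eq_one] at this
  exact this.symm

theorem exists_ne_one (h : IsRankOnePair A B) : ∃ a ∈ A, a ≠ 1 := by
  by_contra hc
  push Not at hc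
  have hB : ∀ b ∈ B, b = 1 := fun b hb => by
    by_contra hb1
    obtain ⟨a, ha, ha1, -⟩ := h.cond_right b hb hb1
    exact ha1 (hc a ha)
  exact h.ne (((Subgroup.eq_bot_iff_forall _).mpr hc).trans ((Subgroup.eq_bot_iff_forall _).mpr hB).symm)

theorem mem_unip {C : Subgroup G} :
    C ∈ unipotentSubgroups A B ↔ ∃ x ∈ A ⊔ B, C = conjBy A x := Iff.rfl

theorem left_mem_unip : A ∈ unipotentSubgroups A B := ⟨1, one_mem _, (cj_one A).symm⟩

theorem right_mem_unip (h : IsRankOnePair A B) : B ∈ unipotentSubgroups A B := by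
  obtain ⟨a, ha, ha1⟩ := exists_ne_one h
  obtain ⟨b, hb, -, he⟩ := h.cond_left a ha ha1
  refine ⟨a * b⁻¹, mul_mem (Subgroup.mem_sup_left ha) (Subgroup.mem_sup_right (inv_mem hb)), ?_⟩
  rw [← cj_cj, he, cj_cj, mul_inv_cancel, cj_one]

theorem cj_mem_unip {C : Subgroup G} (hC : C ∈ unipotentSubgroups A B) {x : G} (hx : x ∈ A ⊔ B) :
    conjBy C x ∈ unipotentSubgroups A B := by
  obtain ⟨y, hy, rfl⟩ := hC
  exact ⟨x * y, mul_mem hx hy, cj_cj _ _ _⟩

theorem cj_sup_self {x : G} (hx : x ∈ A ⊔ B) : conjBy (A ⊔ B) x = A ⊔ B := cj_of_mem hx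

theorem le_of_mem_unip {C : Subgroup G} (hC : C ∈ unipotentSubgroups A B) : C ≤ A ⊔ B := by
  obtain ⟨x, hx, rfl⟩ := hC
  exact (cj_mono le_sup_left x).trans (cj_sup_self hx).le

/-- The unipotent subgroups are `A` and the conjugates of `B` under `A`. -/
theorem unip_cases (h : IsRankOnePair A B) {C : Subgroup G} (hC : C ∈ unipotentSubgroups A B) :
    C = A ∨ ∃ a ∈ A, C = conjBy B a := by
  let T : Set (Subgroup G) := {C | C = A ∨ ∃ a ∈ A, C = conjBy B a}
  have hA : ∀ a ∈ A, ∀ C ∈ T, conjBy C a ∈ T := by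
    rintro a ha C (rfl | ⟨a', ha', rfl⟩)
    · exact Or.inl (cj_of_mem ha)
    · exact Or.inr ⟨a * a', mul_mem ha ha', cj_cj _ _ _⟩
  have hT : ∀ C, C ∈ T ↔ C = B ∨ ∃ b ∈ B, C = conjBy A b := by
    have one : ∀ {A B : Subgroup G}, IsRankOnePair A B → ∀ C, (C = A ∨ ∃ a ∈ A, C = conjBy B a) →
        (C = B ∨ ∃ b ∈ B, C = conjBy A b) := by
      intro A B h C
      rintro (rfl | ⟨a, ha, rfl⟩)
      · exact Or.inr ⟨1, one_mem _, (cj_one _).symm⟩
      by_cases ha1 : a = 1
      · exact Or.inl (by rw [ha1, cj_one])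
      obtain ⟨b, hb, -, he⟩ := h.cond_left a⁻¹ (inv_mem ha) (inv_ne_one.mpr ha1)
      rw [inv_inv] at he
      exact Or.inr ⟨b⁻¹, inv_mem hb, he.symm⟩
    exact fun C => ⟨one h C, one (pair_symm h) C⟩
  have hB : ∀ b ∈ B, ∀ C ∈ T, conjBy C b ∈ T := by
    intro b hb C hC
    rw [hT] at hC ⊢
    rcases hC with rfl | ⟨b', hb', rfl⟩
    · exact Or.inl (cj_of_mem hb)
    · exact Or.inr ⟨b * b', mul_mem hb hb', cj_cj _ _ _⟩
  have hX : ∀ x ∈ A ⊔ B, ∀ C ∈ T, conjBy C x ∈ T := by
    intro x hx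
    rw [Subgroup.sup_eq_closure] at hx
    -- closed under the generators and their inverses
    induction hx using Subgroup.closure_induction'' with
    | mem y hy => exact hy.elim (hA y) (hB y)
    | inv_mem y hy => exact hy.elim (fun hy => hA _ (inv_mem hy)) (fun hy => hB _ (inv_mem hy))
    | one => intro C hC; rwa [cj_one]
    | mul y z _ _ ihy ihz => intro C hC; rw [← cj_cj]; exact ihy _ (ihz C hC)
  obtain ⟨x, hx, rfl⟩ := hC
  exact hX x hx A (Or.inl rfl)

theorem unip_symm (h : IsRankOnePair A B) : unipotentSubgroups A B = unipotentSubgroups B A := by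
  have one : ∀ {A B : Subgroup G}, IsRankOnePair A B → unipotentSubgroups A B ⊆ unipotentSubgroups B A := by
    rintro A B h _ ⟨x, hx, rfl⟩
    exact cj_mem_unip (right_mem_unip (pair_symm h)) (sup_comm A B ▸ hx)
  exact Set.Subset.antisymm (one h) (one (pair_symm h))

theorem regular_unique (h : IsRankOnePair A B) {a a' : G} (ha : a ∈ A) (ha' : a' ∈ A)
    (e : conjBy B a = conjBy B a') : a = a' := by
  have he : conjBy B (a'⁻¹ * a) = B := by
    have := congrArg (fun X => conjBy X a'⁻¹) e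
    simpa only [cj_cj, inv_mul_cancel, cj_one] using this
  have := eq_one_of_normalizes h (mul_mem (inv_mem ha') ha) (cj_eq_self.mp he)
  rw [inv_mul_eq_one] at this
  exact this.symm

theorem cjB_ne (h : IsRankOnePair A B) {a : G} (ha : a ∈ A) : conjBy B a ≠ A := fun e => by
  rw [cj_eq_iff, cj_of_mem (inv_mem ha)] at e
  exact h.ne e.symm

theorem exists_three (h : IsRankOnePair A B) :
    ∃ C₁ ∈ unipotentSubgroups A B, ∃ C₂ ∈ unipotentSubgroups A B, ∃ C₃ ∈ unipotentSubgroups A B,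
      C₁ ≠ C₂ ∧ C₁ ≠ C₃ ∧ C₂ ≠ C₃ := by
  obtain ⟨a, ha, ha1⟩ := exists_ne_one h
  refine ⟨A, left_mem_unip, B, right_mem_unip h, conjBy B a,
    cj_mem_unip (right_mem_unip h) (Subgroup.mem_sup_left ha), h.ne, (cjB_ne h ha).symm, fun e => ?_⟩
  exact ha1 (regular_unique h (one_mem _) ha (by rw [cj_one]; exact e)).symm

theorem exists_move_left (h : IsRankOnePair A B) {C : Subgroup G} (hC : C ∈ unipotentSubgroups A B)
    (hne : C ≠ A) : ∃ a ∈ A, C = conjBy B a :=
  (unip_cases h hC).resolve_left hne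

theorem exists_move_pair (h : IsRankOnePair A B) {C D : Subgroup G} (hC : C ∈ unipotentSubgroups A B)
    (hD : D ∈ unipotentSubgroups A B) (hne : C ≠ D) :
    ∃ x ∈ A ⊔ B, conjBy A x = C ∧ conjBy B x = D := by
  obtain ⟨y, hy, rfl⟩ := hC
  have hD' : conjBy D y⁻¹ ∈ unipotentSubgroups A B := cj_mem_unip hD (inv_mem hy)
  obtain ⟨a, ha, he⟩ := exists_move_left h hD' (fun e => hne (by
    rw [cj_eq_iff, inv_inv] at e; exact e.symm))
  refine ⟨y * a, mul_mem hy (Subgroup.mem_sup_left ha), ?_, ?_⟩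
  · rw [← cj_cj, cj_of_mem ha]
  · rw [← cj_cj, ← he, cj_cj, mul_inv_cancel, cj_one]

theorem pair_of_unip (h : IsRankOnePair A B) {C D : Subgroup G} (hC : C ∈ unipotentSubgroups A B)
    (hD : D ∈ unipotentSubgroups A B) (hne : C ≠ D) : IsRankOnePair C D ∧ C ⊔ D = A ⊔ B := by
  obtain ⟨x, hx, rfl, rfl⟩ := exists_move_pair h hC hD hne
  exact ⟨pair_cj h x, by rw [← cj_sup, cj_sup_self hx]⟩

theorem two_transitive (h : IsRankOnePair A B) {C₁ C₂ D₁ D₂ : Subgroup G}
    (h1 : C₁ ∈ unipotentSubgroups A B) (h2 : C₂ ∈ unipotentSubgroups A B)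
    (h3 : D₁ ∈ unipotentSubgroups A B) (h4 : D₂ ∈ unipotentSubgroups A B) (hC : C₁ ≠ C₂) (hD : D₁ ≠ D₂) :
    ∃ x ∈ A ⊔ B, conjBy C₁ x = D₁ ∧ conjBy C₂ x = D₂ := by
  obtain ⟨x, hx, rfl, rfl⟩ := exists_move_pair h h1 h2 hC
  obtain ⟨y, hy, rfl, rfl⟩ := exists_move_pair h h3 h4 hD
  refine ⟨y * x⁻¹, mul_mem hy (inv_mem hx), ?_, ?_⟩ <;>
    rw [cj_cj, mul_assoc, inv_mul_cancel, mul_one]

/-! ### Elements fixing unipotent subgroups, normal subgroups -/

theorem not_centralizes (h : IsRankOnePair A B) (hc : ∀ a ∈ A, ∀ b ∈ B, a * b = b * a) : False := by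
  obtain ⟨a, ha, ha1⟩ := exists_ne_one h
  refine ha1 (eq_one_of_normalizes h ha (Subgroup.centralizer_le_normalizer _ ?_))
  exact Subgroup.mem_centralizer_iff.mpr fun b hb => (hc a ha b hb).symm

/-- An element whose commutators with `A` and `B` are central and that lies in the rank one group. -/
theorem centralizes_of_fixes (h : IsRankOnePair A B) {x : G}
    (hfix : ∀ C ∈ unipotentSubgroups A B, conjBy C x = C) {a : G} (ha : a ∈ A) : x * a = a * x := by
  have hA := hfix A left_mem_unip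
  have hB := hfix B (right_mem_unip h)
  have hBa : conjBy (conjBy B a) x = conjBy B a :=
    hfix _ (cj_mem_unip (right_mem_unip h) (Subgroup.mem_sup_left ha))
  have hmem : a⁻¹ * (x * a * x⁻¹) ∈ A := mul_mem (inv_mem ha) (hA ▸ conj_mem_cj x ha)
  have he : conjBy B (a⁻¹ * (x * a * x⁻¹)) = B := by
    rw [← cj_cj, ← cj_cj (B) x⁻¹ (x * a), show conjBy B x⁻¹ = B by
      rw [cj_eq_iff, inv_inv, hB], ← cj_cj B a x, hBa, cj_cj, inv_mul_cancel, cj_one]
  have := eq_one_of_normalizes h hmem (cj_eq_self.mp he)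
  rw [inv_mul_eq_one] at this
  calc x * a = (x * a * x⁻¹) * x := by group
    _ = a * x := by rw [← this]

theorem commute_sup {x : G} (hA : ∀ a ∈ A, x * a = a * x) (hB : ∀ b ∈ B, x * b = b * x) {y : G}
    (hy : y ∈ A ⊔ B) : x * y = y * x := by
  have hle : A ⊔ B ≤ Subgroup.centralizer ({x} : Set G) := sup_le
    (fun a ha => Subgroup.mem_centralizer_singleton_iff.mpr (hA a ha).symm)
    (fun b hb => Subgroup.mem_centralizer_singleton_iff.mpr (hB b hb).symm)
  exact (Subgroup.mem_centralizer_singleton_iff.mp (hle hy)).symm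

theorem commute_of_fixes (h : IsRankOnePair A B) {x : G}
    (hfix : ∀ C ∈ unipotentSubgroups A B, conjBy C x = C) {y : G} (hy : y ∈ A ⊔ B) : x * y = y * x :=
  commute_sup (fun _ => centralizes_of_fixes h hfix)
    (fun _ => centralizes_of_fixes (pair_symm h) (unip_symm h ▸ hfix)) hy

/-- A subgroup normalised by the rank one group is either central in it or absorbs it with `A`. -/
theorem le_sup_or_commute (h : IsRankOnePair A B) {N : Subgroup G} (hN : N ≤ A ⊔ B)
    (hn : A ⊔ B ≤ Subgroup.normalizer (N : Set G)) :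
    A ⊔ B ≤ N ⊔ A ∨ ∀ x ∈ N, ∀ y ∈ A ⊔ B, x * y = y * x := by
  by_cases hfix : ∀ x ∈ N, conjBy A x = A
  · right
    intro x hx
    refine fun y hy => commute_of_fixes h (fun C hC => ?_) hy
    obtain ⟨z, hz, rfl⟩ := hC
    have hz' : z⁻¹ * x * z ∈ N := (Subgroup.mem_normalizer_iff''.mp (hn hz) x).mp hx
    rw [cj_cj, show x * z = z * (z⁻¹ * x * z) by group, ← cj_cj, hfix _ hz']
  · left
    push Not at hfix
    obtain ⟨x, hx, hxA⟩ := hfix
    have hC : conjBy A x ∈ unipotentSubgroups A B := cj_mem_unip left_mem_unip (hN hx)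
    rw [← (pair_of_unip h hC left_mem_unip hxA).2]
    refine sup_le ?_ le_sup_right
    rintro _ ⟨a, ha, rfl⟩
    exact mul_mem (mul_mem (Subgroup.mem_sup_left hx) (Subgroup.mem_sup_right ha))
      (inv_mem (Subgroup.mem_sup_left hx))

/-- A nilpotent group generated by a subgroup and the commutator subgroup is that subgroup. -/
theorem eq_top_of_sup_commutator {K : Type*} [Group K] [hK : Group.IsNilpotent K] (H : Subgroup K)
    (h : H ⊔ commutator K = ⊤) : H = ⊤ := by
  revert H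
  refine Group.nilpotent_center_quotient_ind
    (P := fun K _ _ => ∀ H : Subgroup K, H ⊔ commutator K = ⊤ → H = ⊤) K ?_ ?_
  · intro K _ _ H _; exact Subsingleton.elim _ _
  · intro K _ _ ih H h
    have hs : Function.Surjective (QuotientGroup.mk' (Subgroup.center K)) :=
      QuotientGroup.mk'_surjective _
    have h' : H.map (QuotientGroup.mk' (Subgroup.center K)) ⊔ commutator (K ⧸ Subgroup.center K) = ⊤ := by
      rw [commutator_def, ← Subgroup.map_top_of_surjective _ hs, ← Subgroup.map_commutator,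
        ← commutator_def, ← Subgroup.map_sup, h, Subgroup.map_top_of_surjective _ hs]
    have hHZ : H ⊔ Subgroup.center K = ⊤ := by
      have := congrArg (Subgroup.comap (QuotientGroup.mk' (Subgroup.center K))) (ih _ h')
      rwa [Subgroup.comap_map_eq, QuotientGroup.ker_mk', Subgroup.comap_top] at this
    have hcomm : commutator K ≤ H := by
      rw [commutator_def, Subgroup.commutator_le]
      intro x _ y _
      obtain ⟨h1, hh1, z1, hz1, rfl⟩ := Subgroup.mem_sup_of_normal_right.mp (hHZ ▸ Subgroup.mem_top x)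
      obtain ⟨h2, hh2, z2, hz2, rfl⟩ := Subgroup.mem_sup_of_normal_right.mp (hHZ ▸ Subgroup.mem_top y)
      rw [Subgroup.mem_center_iff] at hz1 hz2
      rw [commutatorElement_def]
      have : h1 * z1 * (h2 * z2) * (h1 * z1)⁻¹ * (h2 * z2)⁻¹ = h1 * h2 * h1⁻¹ * h2⁻¹ := by
        calc h1 * z1 * (h2 * z2) * (h1 * z1)⁻¹ * (h2 * z2)⁻¹
            = h1 * (z1 * h2) * z2 * z1⁻¹ * h1⁻¹ * z2⁻¹ * h2⁻¹ := by group
          _ = h1 * h2 * (z1 * z2) * z1⁻¹ * h1⁻¹ * z2⁻¹ * h2⁻¹ := by rw [← hz1 h2]; group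
          _ = h1 * h2 * (z2 * h1⁻¹) * z2⁻¹ * h2⁻¹ := by rw [← hz1 z2]; group
          _ = h1 * h2 * h1⁻¹ * h2⁻¹ := by rw [← hz2 h1⁻¹]; group
      rw [this]
      exact mul_mem (mul_mem (mul_mem hh1 hh2) (inv_mem hh1)) (inv_mem hh2)
    rwa [sup_eq_left.mpr hcomm] at h

theorem not_nilpotent (h : IsRankOnePair A B) : ¬ Group.IsNilpotent ↥(A ⊔ B) := by
  intro hnil
  set Y := A ⊔ B with hY
  have hsup : A.subgroupOf Y ⊔ commutator Y = ⊤ := by
    have hN : (A.subgroupOf Y ⊔ commutator Y).Normal :=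
      Subgroup.Normal.of_commutator_le _ le_sup_right
    rw [eq_top_iff]
    rintro ⟨y, hy⟩ -
    have hle : Y ≤ (A.subgroupOf Y ⊔ commutator Y).map Y.subtype := by
      rw [hY]
      refine sup_le (fun a ha => ⟨⟨a, Subgroup.mem_sup_left ha⟩, Subgroup.mem_sup_left ha, rfl⟩) ?_
      intro b hb
      obtain ⟨x, hx, he⟩ := right_mem_unip h
      rw [he, mem_cj] at hb
      refine ⟨⟨x * (x⁻¹ * b * x) * x⁻¹, mul_mem (mul_mem hx (Subgroup.mem_sup_left hb)) (inv_mem hx)⟩,
        hN.conj_mem ⟨_, Subgroup.mem_sup_left hb⟩ (Subgroup.mem_sup_left hb) ⟨x, hx⟩, ?_⟩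
      show x * (x⁻¹ * b * x) * x⁻¹ = b
      group
    obtain ⟨z, hz, he⟩ := hle hy
    have hzy : z = ⟨y, hy⟩ := Subtype.ext he
    exact hzy ▸ hz
  have := eq_top_of_sup_commutator _ hsup
  rw [Subgroup.subgroupOf_eq_top] at this
  obtain ⟨b, hb, hb1⟩ := exists_ne_one (pair_symm h)
  exact hb1 (eq_one_of_normalizes (pair_symm h) hb
    (Subgroup.le_normalizer (this (Subgroup.mem_sup_right hb))))

/-! ### Rank one groups -/

variable {X : Type*} [Group X] {P Q : Subgroup X}

theorem normal_dichotomy (h : IsRankOneGroup X P Q) (N : Subgroup X) [N.Normal] :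
    N ⊔ P = ⊤ ∨ N ≤ Subgroup.center X := by
  rcases le_sup_or_commute h.2 (N := N) (h.1.symm ▸ le_top)
    (by rw [Subgroup.normalizer_eq_top]; exact le_top) with h1 | h1
  · exact Or.inl (top_unique (h.1 ▸ h1))
  · exact Or.inr fun x hx => Subgroup.mem_center_iff.mpr fun y => (h1 x hx y (h.1 ▸ Subgroup.mem_top y)).symm

theorem quotient_nilpotent (h : IsRankOneGroup X P Q) {N : Subgroup X} [N.Normal] (hN : N ⊔ P = ⊤) :
    Group.IsNilpotent (X ⧸ N) := by
  haveI := h.2.nilpotent_left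
  refine Group.nilpotent_of_surjective ((QuotientGroup.mk' N).comp P.subtype) fun q => ?_
  obtain ⟨x, rfl⟩ := QuotientGroup.mk'_surjective N q
  obtain ⟨n, hn, p, hp, rfl⟩ := Subgroup.mem_sup_of_normal_left.mp (hN ▸ Subgroup.mem_top x)
  refine ⟨⟨p, hp⟩, ?_⟩
  simp only [MonoidHom.comp_apply, QuotientGroup.mk'_apply, QuotientGroup.mk_mul, (QuotientGroup.eq_one_iff n).mpr hn, one_mul, Subgroup.coe_subtype]

theorem rank_one_not_nilpotent (h : IsRankOneGroup X P Q) : ¬ Group.IsNilpotent X := fun hX =>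
  not_nilpotent h.2 (by rw [h.1]; exact Group.nilpotent_of_mulEquiv Subgroup.topEquiv.symm)

theorem eq_one_of_mem_center (h : IsRankOnePair A B) {a : G} (ha : a ∈ A)
    (hz : a ∈ Subgroup.center G) : a = 1 :=
  eq_one_of_normalizes h ha (Subgroup.center_le_normalizer _ hz)

/-! ### Quadratic modules -/

variable {V : Type*} [AddCommGroup V] [DistribMulAction X V]

/-- The subgroup of elements acting trivially modulo the common fixed points of `P` and `Q`. -/
def nearTrivial (P Q : Subgroup X) (hgen : P ⊔ Q = ⊤) (V : Type*) [AddCommGroup V] [DistribMulAction X V] :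
    Subgroup X where
  carrier := {x | ∀ v : V, ∀ y : X, y • (x • v - v) = x • v - v}
  one_mem' v y := by simp
  mul_mem' {x z} hx hz v y := by
    have : (x * z) • v - v = (x • (z • v) - z • v) + (z • v - v) := by rw [mul_smul]; abel
    rw [this, smul_add, hx, hz]
  inv_mem' {x} hx v y := by
    have : x⁻¹ • v - v = -(x • (x⁻¹ • v) - x⁻¹ • v) := by rw [smul_inv_smul]; abel
    rw [this, smul_neg, hx]

instance nearTrivial_normal (hgen : P ⊔ Q = ⊤) : (nearTrivial P Q hgen V).Normal := by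
  refine ⟨fun x hx g v y => ?_⟩
  have h1 : (g * x * g⁻¹) • v - v = g • (x • (g⁻¹ • v) - g⁻¹ • v) := by
    rw [smul_sub, smul_inv_smul, mul_smul, mul_smul]
  rw [h1, hx (g⁻¹ • v) g, hx (g⁻¹ • v) y]

variable (hgen : P ⊔ Q = ⊤)

theorem fixed_of_fixed (hgen : P ⊔ Q = ⊤) {v : V} (hP : ∀ p ∈ P, p • v = v) (hQ : ∀ q ∈ Q, q • v = v)
    (y : X) : y • v = v := by
  have hle : P ⊔ Q ≤ MulAction.stabilizer X v := sup_le hP hQ
  exact hle (hgen ▸ Subgroup.mem_top y)

theorem quad_right (h : IsRankOnePair P Q)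
    (hq : ∀ a ∈ P, ∀ a' ∈ P, ∀ v : V, a' • (a • v - v) = a • v - v) :
    ∀ b ∈ Q, ∀ b' ∈ Q, ∀ v : V, b' • (b • v - v) = b • v - v := by
  obtain ⟨x, -, he⟩ := right_mem_unip h
  intro b hb b' hb' v
  rw [he, mem_cj] at hb hb'
  have h1 := hq _ hb _ hb' (x⁻¹ • v)
  have h2 := congrArg (fun w => x • w) h1
  simpa only [smul_sub, ← mul_smul, mul_assoc, mul_inv_cancel_left, mul_inv_cancel, mul_one,
    smul_inv_smul, inv_mul_cancel_left, one_smul] using h2

/-- The fixed point identity behind special pairs. -/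
theorem sub_fixed (hgen : P ⊔ Q = ⊤) (h : IsRankOnePair P Q)
    (hq : ∀ a ∈ P, ∀ a' ∈ P, ∀ v : V, a' • (a • v - v) = a • v - v)
    {a b : X} (ha : a ∈ P) (hb : b ∈ Q) (e : conjBy P b⁻¹ = conjBy Q a⁻¹)
    {w : V} (hw : ∀ p ∈ P, p • w = w) (y : X) :
    y • (w - (a • (b • w - w) - (b • w - w))) = w - (a • (b • w - w) - (b • w - w)) := by
  have hqQ := quad_right h hq
  refine fixed_of_fixed hgen (fun p hp => ?_) (fun q hq' => ?_) y
  · rw [smul_sub, hw p hp, hq a ha p hp]
  · -- `a • b⁻¹ • w` is fixed by `Q`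
    have hbi : b⁻¹ • w - w = -(b • w - w) := by
      have h2 := hqQ b hb b⁻¹ (inv_mem hb) w
      rw [smul_sub, inv_smul_smul] at h2
      rw [← h2]; abel
    have h1 : q • (a • b⁻¹ • w) = a • b⁻¹ • w := by
      have hm : a⁻¹ * q * a ∈ conjBy P b⁻¹ := by
        rw [e]; simpa [mem_cj, mul_assoc] using hq'
      rw [mem_cj, inv_inv] at hm
      have h3 := congrArg (fun v => a • b⁻¹ • v) (hw _ hm)
      simpa [← mul_smul, mul_assoc] using h3
    have h2 : w - (a • (b • w - w) - (b • w - w)) = a • b⁻¹ • w + (b • w - w) := by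
      have h4 : b⁻¹ • w = w - (b • w - w) := by
        rw [sub_eq_add_neg w, ← hbi, add_sub_cancel]
      rw [h4, smul_sub a w, hw a ha]; abel
    rw [h2, smul_add, h1, hqQ b hb q hq']

/-- `b⁻¹ a b` and `a⁻¹ b⁻¹ a` differ by an element acting trivially modulo the fixed points. -/
theorem special_mem_nearTrivial (hgen : P ⊔ Q = ⊤) (h : IsRankOnePair P Q)
    (hq : ∀ a ∈ P, ∀ a' ∈ P, ∀ v : V, a' • (a • v - v) = a • v - v)
    {a b : X} (ha : a ∈ P) (hb : b ∈ Q) (e : conjBy P b⁻¹ = conjBy Q a⁻¹) :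
    (b⁻¹ * a * b) * (a⁻¹ * b⁻¹ * a)⁻¹ ∈ nearTrivial P Q hgen V := by
  have hqQ := quad_right h hq
  have e' : conjBy Q a⁻¹ = conjBy P b⁻¹ := e.symm
  let ρ : X →* AddMonoid.End V := DistribMulAction.toAddMonoidEnd X V
  have hρ : ∀ (x : X) (v : V), ρ x v = x • v := fun _ _ => rfl
  set α : AddMonoid.End V := ρ a - 1 with hα
  set β : AddMonoid.End V := ρ b - 1 with hβ
  have hαv : ∀ v, α v = a • v - v := fun v => rfl
  have hβv : ∀ v, β v = b • v - v := fun v => rfl
  have hαα : α * α = 0 := by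
    ext v
    show α (α v) = 0
    rw [hαv, hαv, hq a ha a ha v, sub_self]
  have hββ : β * β = 0 := by
    ext v
    show β (β v) = 0
    rw [hβv, hβv, hqQ b hb b hb v, sub_self]
  have ea : ρ a = 1 + α := by rw [hα]; abel
  have eb : ρ b = 1 + β := by rw [hβ]; abel
  have inv_eq : ∀ (x : X) (γ : AddMonoid.End V), ρ x = 1 + γ → γ * γ = 0 → ρ x⁻¹ = 1 - γ := by
    intro x γ hx hγ
    calc ρ x⁻¹ = ρ x⁻¹ * ((1 + γ) * (1 - γ)) := by
          rw [show (1 + γ) * (1 - γ) = 1 - γ * γ by noncomm_ring, hγ, sub_zero, mul_one]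
      _ = 1 - γ := by rw [← mul_assoc, ← hx, ← map_mul, inv_mul_cancel, map_one, one_mul]
  intro v y
  set d := a⁻¹ * b⁻¹ * a
  set c := b⁻¹ * a * b
  set u := d⁻¹ • v
  have h0 : (c * d⁻¹) • v - v = c • u - d • u := by
    rw [mul_smul, show d • u = v from smul_inv_smul d v]
  have h1 : ρ c - ρ d = (α - α * β * α) + (β - β * α * β) := by
    simp only [c, d, map_mul, inv_eq a α ea hαα, inv_eq b β eb hββ, ea, eb]
    noncomm_ring [hαα, hββ]
  have h2 : c • u - d • u = (α u - α (β (α u))) + (β u - β (α (β u))) := by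
    rw [← hρ c, ← hρ d, ← show (ρ c - ρ d) u = ρ c u - ρ d u from rfl, h1]
    rfl
  have f1 : y • (α u - α (β (α u))) = α u - α (β (α u)) := by
    rw [hαv, hβv, hαv]
    exact sub_fixed hgen h hq ha hb e (fun p hp => hq a ha p hp u) y
  have f2 : y • (β u - β (α (β u))) = β u - β (α (β u)) := by
    rw [hβv, hαv, hβv]
    exact sub_fixed (sup_comm P Q ▸ hgen) (pair_symm h) hqQ hb ha e' (fun q hq' => hqQ b hb q hq' u) y
  rw [h0, h2, smul_add, f1, f2]

/-- If the action is not quadratic, `nearTrivial` is central. -/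
theorem nearTrivial_le_center (h : IsRankOneGroup X P Q)
    (hq : ∀ a ∈ P, ∀ a' ∈ P, ∀ v : V, a' • (a • v - v) = a • v - v)
    (hX : ∃ x y : X, ∃ v : V, y • (x • v - v) ≠ x • v - v) :
    nearTrivial P Q h.1 V ≤ Subgroup.center X := by
  have hqQ := quad_right h.2 hq
  refine (normal_dichotomy h _).resolve_left fun hcon => ?_
  -- both `P` and `Q` would fix every commutator
  have key : ∀ (x : X) (v : V), (∀ p ∈ P, p • (x • v - v) = x • v - v) := by
    intro x v p hp
    obtain ⟨m, hm, a, ha, rfl⟩ := Subgroup.mem_sup_of_normal_left.mp (hcon ▸ Subgroup.mem_top x)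
    have : (m * a) • v - v = (m • (a • v) - a • v) + (a • v - v) := by rw [mul_smul]; abel
    rw [this, smul_add, hm, hq a ha p hp]
  obtain ⟨g, -, he⟩ := right_mem_unip h.2
  obtain ⟨x, y, v, hne⟩ := hX
  refine hne (fixed_of_fixed h.1 (key x v) (fun q hq' => ?_) y)
  rw [he, mem_cj] at hq'
  have h3 := congrArg (fun w => g • w) (key (g⁻¹ * x * g) (g⁻¹ • v) _ hq')
  simpa [smul_sub, ← mul_smul, mul_assoc] using h3

theorem special_of_quadratic (h : IsRankOneGroup X P Q)
    (hq : ∀ a ∈ P, ∀ a' ∈ P, ∀ v : V, a' • (a • v - v) = a • v - v)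
    (hX : ∃ x y : X, ∃ v : V, y • (x • v - v) ≠ x • v - v) : IsSpecialRankOnePair P Q := by
  refine ⟨h.2, fun a ha _ b hb _ e => ?_⟩
  have hz := nearTrivial_le_center h hq hX (special_mem_nearTrivial h.1 h.2 hq ha hb e)
  have hc : b⁻¹ * a * b ∈ conjBy Q a⁻¹ := e ▸ (by simpa [mem_cj, mul_assoc] using ha)
  have hd : (a⁻¹ * b⁻¹ * a) ∈ conjBy Q a⁻¹ := by
    simpa [mem_cj, mul_assoc] using inv_mem hb
  have := eq_one_of_mem_center (pair_cj (pair_symm h.2) a⁻¹) (mul_mem hc (inv_mem hd)) hz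
  rwa [mul_inv_eq_one] at this

end CfsgLib.RootSub
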