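/-
Unipotent subgroups of `GL(M)`: nilpotency, unipotent normal products, and conjugation invariant families
with pairwise unipotent joins.
-/
import Mathlib
import Cfsg.Prelude.Def_RootSubgroups
import Cfsg.Agent.Lib.RootSub.RankOne

set_option autoImplicit false
set_option linter.unusedSectionVars false

open Cfsg

namespace CfsgLib.RootSub.Unip

variable {k : Type*} [Field k] {M : Type*} [AddCommGroup M] [Module k M]

local notation "GLM" => LinearMap.GeneralLinearGroup k M

/-- `g - 1`. -/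
def dm (g : GLM) : Module.End k M := (g : Module.End k M) - 1

theorem dm_one : dm (1 : GLM) = 0 := by simp [dm]

theorem dm_mul (g h : GLM) : dm (g * h) = dm g + dm h + dm g * dm h := by
  simp only [dm, Units.val_mul]
  noncomm_ring

theorem dm_inv (g : GLM) : dm g⁻¹ = -(dm g) + -(dm g * dm g⁻¹) := by
  have h := dm_mul g g⁻¹
  rw [mul_inv_cancel, dm_one] at h
  rw [← sub_eq_zero]
  calc dm g⁻¹ - (-(dm g) + -(dm g * dm g⁻¹)) = dm g + dm g⁻¹ + dm g * dm g⁻¹ := by abel
    _ = 0 := h.symm

theorem flatMap_single {α β : Type*} (f : α → β) (l : List α) : (l.flatMap fun a => [f a]) = l.map f := by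
  induction l <;> simp_all

theorem isUnip_iff {U : Subgroup GLM} : IsUnipotentOn U ↔
    ∃ n : ℕ, ∀ l : List GLM, (∀ g ∈ l, g ∈ U) → l.length = n → (l.map dm).prod = 0 := by
  constructor <;> rintro ⟨n, hn⟩ <;> refine ⟨n, fun l hl hlen => ?_⟩
  · have h1 := hn l hl hlen
    simp [List.map_map, Function.comp_def, flatMap_single] at h1
    exact h1
  · have h1 := hn l hl hlen
    simp [List.map_map, Function.comp_def, flatMap_single]
    exact h1

/-- The span of the products of `j` elements `g - 1`. -/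
def pw (U : Subgroup GLM) (j : ℕ) : Submodule k (Module.End k M) :=
  Submodule.span k {x | ∃ l : List GLM, (∀ g ∈ l, g ∈ U) ∧ l.length = j ∧ x = (l.map dm).prod}

theorem unip_iff {U : Subgroup GLM} : IsUnipotentOn U ↔ ∃ n, pw U n = ⊥ := by
  rw [isUnip_iff]
  constructor
  · rintro ⟨n, hn⟩
    refine ⟨n, Submodule.span_eq_bot.mpr ?_⟩
    rintro x ⟨l, hl, hlen, rfl⟩
    exact hn l hl hlen
  · rintro ⟨n, hn⟩
    exact ⟨n, fun l hl hlen => (Submodule.span_eq_bot.mp hn) _ ⟨l, hl, hlen, rfl⟩⟩

theorem prod_mem {U : Subgroup GLM} (l : List GLM) (hl : ∀ g ∈ l, g ∈ U) :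
    (l.map dm).prod ∈ pw U l.length := Submodule.subset_span ⟨l, hl, rfl, rfl⟩

theorem dm_mem {U : Subgroup GLM} {g : GLM} (hg : g ∈ U) : dm g ∈ pw U 1 := by
  have := prod_mem (U := U) [g] (by simpa using hg)
  simpa using this

theorem mul_dm {U : Subgroup GLM} {j : ℕ} {x : Module.End k M} (hx : x ∈ pw U j) {g : GLM} (hg : g ∈ U) :
    x * dm g ∈ pw U (j + 1) := by
  induction hx using Submodule.span_induction with
  | mem y hy =>
    obtain ⟨l, hl, hlen, rfl⟩ := hy
    refine Submodule.subset_span ⟨l ++ [g], ?_, by simp [hlen], by simp⟩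
    intro a ha
    rcases List.mem_append.mp ha with h | h
    · exact hl a h
    · exact (List.mem_singleton.mp h) ▸ hg
  | zero => rw [zero_mul]; exact zero_mem _
  | add a b _ _ ha hb => rw [add_mul]; exact add_mem ha hb
  | smul c a _ ha => rw [smul_mul_assoc]; exact Submodule.smul_mem _ c ha

theorem mul_pw {U : Subgroup GLM} {i j : ℕ} {x y : Module.End k M} (hx : x ∈ pw U i) (hy : y ∈ pw U j) :
    x * y ∈ pw U (i + j) := by
  induction hy using Submodule.span_induction with
  | mem z hz =>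
    obtain ⟨l, hl, hlen, rfl⟩ := hz
    subst hlen
    induction l using List.reverseRecOn with
    | nil => simpa using hx
    | append_singleton l g ih =>
      have hl' : ∀ a ∈ l, a ∈ U := fun a ha => hl a (by simp [ha])
      have := mul_dm (ih hl') (hl g (by simp))
      rw [mul_assoc] at this
      simpa [add_assoc] using this
  | zero => rw [mul_zero]; exact zero_mem _
  | add a b _ _ ha hb => rw [mul_add]; exact add_mem ha hb
  | smul c a _ ha => rw [mul_smul_comm]; exact Submodule.smul_mem _ c ha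

theorem pw_succ_le {U : Subgroup GLM} {j : ℕ} (hj : 1 ≤ j) : pw U (j + 1) ≤ pw U j := by
  refine Submodule.span_le.mpr ?_
  rintro x ⟨l, hl, hlen, rfl⟩
  obtain _ | ⟨a, _ | ⟨b, rest⟩⟩ := l
  · simp at hlen
  · simp at hlen; omega
  have ha : a ∈ U := hl a (by simp)
  have hb : b ∈ U := hl b (by simp)
  have hr : ∀ g ∈ rest, g ∈ U := fun g hg => hl g (by simp [hg])
  have e : dm a * dm b = dm (a * b) - dm a - dm b := by rw [dm_mul]; abel
  have hlen' : rest.length + 1 = j := by simp at hlen; omega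
  have key : ∀ g ∈ U, dm g * (rest.map dm).prod ∈ pw U j := fun g hg => by
    have := mul_pw (dm_mem hg) (prod_mem rest hr)
    rwa [add_comm, hlen'] at this
  simp only [List.map_cons, List.prod_cons, ← mul_assoc, e, sub_mul, SetLike.mem_coe]
  exact sub_mem (sub_mem (key _ (mul_mem ha hb)) (key _ ha)) (key _ hb)

theorem pw_anti {U : Subgroup GLM} {i j : ℕ} (hi : 1 ≤ i) (hij : i ≤ j) : pw U j ≤ pw U i := by
  induction hij with
  | refl => exact le_rfl
  | step h ih => exact le_trans (pw_succ_le (le_trans hi h)) ih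

theorem pw_mono {U V : Subgroup GLM} (h : U ≤ V) (j : ℕ) : pw U j ≤ pw V j :=
  Submodule.span_mono fun _ ⟨l, hl, h2, h3⟩ => ⟨l, fun g hg => h (hl g hg), h2, h3⟩

theorem unip_mono {U V : Subgroup GLM} (h : U ≤ V) (hV : IsUnipotentOn V) : IsUnipotentOn U := by
  obtain ⟨n, hn⟩ := isUnip_iff.mp hV
  exact isUnip_iff.mpr ⟨n, fun l hl => hn l fun g hg => h (hl g hg)⟩

theorem unip_bot : IsUnipotentOn (⊥ : Subgroup GLM) := by
  refine isUnip_iff.mpr ⟨1, fun l hl hlen => ?_⟩
  obtain ⟨g, rfl⟩ := List.length_eq_one_iff.mp hlen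
  have : g = 1 := Subgroup.mem_bot.mp (hl g (by simp))
  subst this
  simp [dm_one]

/-- The elements of `U` congruent to one modulo `pw U j`. -/
def cong (U : Subgroup GLM) (j : ℕ) (hj : 1 ≤ j) : Subgroup GLM where
  carrier := {g | g ∈ U ∧ dm g ∈ pw U j}
  one_mem' := ⟨one_mem _, dm_one (k := k) (M := M) ▸ zero_mem _⟩
  mul_mem' := fun {a b} ha hb => ⟨mul_mem ha.1 hb.1, by
    rw [dm_mul]
    exact add_mem (add_mem ha.2 hb.2) (pw_succ_le hj (mul_dm ha.2 hb.1))⟩
  inv_mem' := fun {a} ha => ⟨inv_mem ha.1, by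
    rw [dm_inv]
    exact add_mem (neg_mem ha.2) (neg_mem (pw_succ_le hj (mul_dm ha.2 (inv_mem ha.1))))⟩

theorem isNilpotent_of_unip {U : Subgroup GLM} (hU : IsUnipotentOn U) : Group.IsNilpotent U := by
  obtain ⟨n, hn⟩ := unip_iff.mp hU
  have key : ∀ i : ℕ, U.lowerCentralSeries i ≤ cong U (i + 1) (by omega) := by
    intro i
    induction i with
    | zero => exact fun g hg => ⟨hg, dm_mem hg⟩
    | succ i ih =>
      rw [Subgroup.lowerCentralSeries_succ, Subgroup.commutator_le]
      intro g hg h hh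
      obtain ⟨hgU, hgd⟩ := ih hg
      refine ⟨?_, ?_⟩
      · rw [commutatorElement_def]
        exact mul_mem (mul_mem (mul_mem hgU hh) (inv_mem hgU)) (inv_mem hh)
      · have e : dm (g * h * g⁻¹ * h⁻¹) = (dm g * dm h - dm h * dm g) * (1 + dm (g⁻¹ * h⁻¹)) := by
          have e1 : (dm g * dm h - dm h * dm g) = dm (g * h) - dm (h * g) := by
            rw [dm_mul, dm_mul]; abel
          rw [e1]
          simp only [dm, Units.val_mul, sub_sub_sub_cancel_right, add_sub_cancel, sub_mul]
          have c1 : (h : Module.End k M) * g * ((g⁻¹ : GLM) * (h⁻¹ : GLM)) = 1 := by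
            rw [← Units.val_mul, ← Units.val_mul, ← Units.val_mul, show h * g * (g⁻¹ * h⁻¹) = 1 by group,
              Units.val_one]
          rw [c1]
          noncomm_ring
        have h1 : dm g * dm h - dm h * dm g ∈ pw U (i + 1 + 1) := by
          refine sub_mem (mul_dm hgd hh) ?_
          have := mul_pw (dm_mem hh) hgd
          rwa [add_comm 1 (i + 1)] at this
        rw [commutatorElement_def, e, mul_add, mul_one]
        exact add_mem h1 (pw_succ_le (by omega) (mul_dm h1 (mul_mem (inv_mem hgU) (inv_mem hh))))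
  rw [Subgroup.isNilpotent_iff_lowerCentralSeries]
  refine ⟨n, (Subgroup.eq_bot_iff_forall _).mpr fun g hg => ?_⟩
  have h1 : dm g ∈ pw U n := by
    rcases Nat.eq_zero_or_pos n with h0 | h0
    · subst h0
      have h2 : (1 : Module.End k M) ∈ pw U 0 := Submodule.subset_span ⟨[], by simp, rfl, by simp⟩
      rw [hn, Submodule.mem_bot] at h2
      rw [hn, Submodule.mem_bot, ← mul_one (dm g), h2, mul_zero]
    · exact pw_anti h0 (by omega) ((key n hg).2)
  rw [hn, Submodule.mem_bot, dm, sub_eq_zero] at h1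
  exact Units.ext h1

/-- A unipotent group normalized by a unipotent group: the product is unipotent. -/
theorem unip_sup {K L : Subgroup GLM} (hK : IsUnipotentOn K) (hL : IsUnipotentOn L)
    (hn : L ≤ Subgroup.normalizer (K : Set GLM)) : IsUnipotentOn (K ⊔ L) := by
  obtain ⟨n, hn'⟩ := isUnip_iff.mp hK
  obtain ⟨m, hm⟩ := isUnip_iff.mp hL
  let V : ℕ → Submodule k M := fun j =>
    ⨅ (l : List GLM) (_ : (∀ g ∈ l, g ∈ K) ∧ l.length = j), LinearMap.ker ((l.map dm).prod)
  have memV : ∀ {j : ℕ} {v : M}, v ∈ V j ↔ ∀ l : List GLM, (∀ g ∈ l, g ∈ K) → l.length = j → (l.map dm).prod v = 0 := by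
    intro j v
    simp only [V, Submodule.mem_iInf, LinearMap.mem_ker, and_imp]
  have hKV : ∀ {j : ℕ} {v : M} {g : GLM}, g ∈ K → v ∈ V (j + 1) → dm g v ∈ V j := by
    intro j v g hg hv
    refine memV.mpr fun l hl hlen => ?_
    have := memV.mp hv (l ++ [g]) (by
      intro a ha
      rcases List.mem_append.mp ha with h | h
      · exact hl a h
      · exact (List.mem_singleton.mp h) ▸ hg) (by simp [hlen])
    rwa [List.map_append, List.prod_append, List.map_singleton, List.prod_singleton] at this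
  have hLV : ∀ {j : ℕ} {v : M} {h : GLM}, h ∈ L → v ∈ V j → (h : Module.End k M) v ∈ V j := by
    intro j v h hh hv
    refine memV.mpr fun l hl hlen => ?_
    have e : ∀ l : List GLM, (l.map dm).prod * (h : Module.End k M) =
        (h : Module.End k M) * ((l.map fun g => h⁻¹ * g * h).map dm).prod := by
      intro l
      induction l with
      | nil => simp
      | cons a l ih =>
        have ea : dm a * (h : Module.End k M) = (h : Module.End k M) * dm (h⁻¹ * a * h) := by
          simp only [dm, Units.val_mul, sub_mul, mul_sub, one_mul, mul_one, ← mul_assoc, Units.mul_inv,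
            one_mul]
        rw [List.map_cons, List.prod_cons, List.map_cons, List.map_cons, List.prod_cons,
          mul_assoc (dm a), ih, ← mul_assoc (dm a), ea, mul_assoc (h : Module.End k M)]
    have h2 := congrArg (fun f : Module.End k M => f v) (e l)
    simp only [Module.End.mul_apply] at h2
    rw [h2, memV.mp hv _ ?_ (by simp [hlen]), map_zero]
    intro g hg
    obtain ⟨a, ha, rfl⟩ := List.mem_map.mp hg
    exact ((Subgroup.mem_normalizer_iff''.mp (hn hh)) a).mp (hl a ha)
  have hVle : ∀ j, ∀ v ∈ V j, v ∈ V (j + 1) := by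
    intro j v hv
    refine memV.mpr fun l hl hlen => ?_
    obtain _ | ⟨a, rest⟩ := l
    · simp at hlen
    · simp only [List.map_cons, List.prod_cons, Module.End.mul_apply]
      rw [memV.mp hv rest (fun g hg => hl g (by simp [hg])) (by simpa using hlen), map_zero]
  have step : ∀ (l : List GLM), (∀ g ∈ l, g ∈ K ⊔ L) → ∀ j, ∀ v ∈ V (j + 1),
      ∃ l' : List GLM, (∀ g ∈ l', g ∈ L) ∧ l'.length = l.length ∧
        (l.map dm).prod v - (l'.map dm).prod v ∈ V j := by
    intro l
    induction l with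
    | nil => intro _ j v _; exact ⟨[], by simp, rfl, by simp⟩
    | cons a l ih =>
      intro hl j v hv
      obtain ⟨l', h1, h2, h3⟩ := ih (fun g hg => hl g (by simp [hg])) j v hv
      obtain ⟨x, hx, y, hy, rfl⟩ : ∃ x ∈ K, ∃ y ∈ L, x * y = a := by
        have h4 := hl a (by simp)
        rw [← SetLike.mem_coe, Subgroup.coe_mul_of_right_le_normalizer_left K L hn, Set.mem_mul] at h4
        exact h4
      refine ⟨y :: l', ?_, by simp [h2], ?_⟩
      · intro g hg
        rcases List.mem_cons.mp hg with h | h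
        · exact h ▸ hy
        · exact h1 g h
      simp only [List.map_cons, List.prod_cons, Module.End.mul_apply]
      set u := (l.map dm).prod v
      set u' := (l'.map dm).prod v
      have hu : u ∈ V (j + 1) := by
        have hu' : u' ∈ V (j + 1) := by
          have : ∀ l' : List GLM, (∀ g ∈ l', g ∈ L) → (l'.map dm).prod v ∈ V (j + 1) := by
            intro l'
            induction l' with
            | nil => intro _; simpa using hv
            | cons b l' ih' =>
              intro hb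
              simp only [List.map_cons, List.prod_cons, Module.End.mul_apply]
              have h5 := ih' fun g hg => hb g (by simp [hg])
              exact sub_mem (hLV (hb b (by simp)) h5) (by simpa [dm] using h5)
          exact this l' h1
        have := add_mem (hVle j _ h3) hu'
        simpa using this
      have e : dm (x * y) u - dm y u' = dm x ((y : Module.End k M) u) + dm y (u - u') := by
        simp only [dm, LinearMap.sub_apply, Units.val_mul, Module.End.mul_apply, Module.End.one_apply, map_sub]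
        abel
      rw [e]
      exact add_mem (hKV hx (hLV hy hu)) (sub_mem (hLV hy h3) (by simpa using h3))
  have drop : ∀ l : List GLM, (∀ g ∈ l, g ∈ K ⊔ L) → l.length = m → ∀ j, ∀ v ∈ V (j + 1),
      (l.map dm).prod v ∈ V j := by
    intro l hl hlen j v hv
    obtain ⟨l', h1, h2, h3⟩ := step l hl j v hv
    rw [hm l' h1 (h2.trans hlen), LinearMap.zero_apply, sub_zero] at h3
    exact h3
  refine isUnip_iff.mpr ⟨n * m, fun l hl hlen => ?_⟩
  have main : ∀ (j : ℕ) (l : List GLM), (∀ g ∈ l, g ∈ K ⊔ L) → l.length = j * m → ∀ v ∈ V j,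
      (l.map dm).prod v = 0 := by
    intro j
    induction j with
    | zero =>
      intro l _ _ v hv
      have := memV.mp hv [] (by simp) rfl
      rw [List.map_nil, List.prod_nil, Module.End.one_apply] at this
      rw [this, map_zero]
    | succ j ih =>
      intro l hl hlen v hv
      rw [Nat.succ_mul] at hlen
      rw [← List.take_append_drop (j * m) l, List.map_append, List.prod_append, Module.End.mul_apply]
      refine ih (l.take (j * m)) (fun g hg => hl g (List.mem_of_mem_take hg)) (by simp; omega) _ ?_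
      exact drop (l.drop (j * m)) (fun g hg => hl g (List.mem_of_mem_drop hg)) (by simp; omega) j v hv
  refine LinearMap.ext fun v => ?_
  rw [LinearMap.zero_apply]
  exact main n l hl hlen v (memV.mpr fun l' h1 h2 => by rw [hn' l' h1 h2]; rfl)

/-- The members of `W` congruent to one modulo the span of `⨆ X`. -/
def cl (W X : Set (Subgroup GLM)) : Set (Subgroup GLM) :=
  {A | A ∈ W ∧ ∀ a ∈ A, dm a ∈ pw (⨆ B ∈ X, B) 1}

theorem subset_cl {W X : Set (Subgroup GLM)} (hX : X ⊆ W) : X ⊆ cl W X := fun A hA =>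
  ⟨hX hA, fun _ ha => dm_mem (Subgroup.mem_iSup_of_mem A (Subgroup.mem_iSup_of_mem hA ha))⟩

theorem cl_unip {W X : Set (Subgroup GLM)} (hX : IsUnipotentOn (⨆ B ∈ X, B)) :
    IsUnipotentOn (⨆ B ∈ cl W X, B) := by
  set U := ⨆ B ∈ X, B
  obtain ⟨n, hn⟩ := unip_iff.mp hX
  refine isUnip_iff.mpr ⟨n + 1, fun l hl hlen => ?_⟩
  have hdm : ∀ g ∈ ⨆ B ∈ cl W X, B, dm g ∈ pw U 1 := by
    intro g hg
    have hg' : g ∈ Subgroup.closure (⋃ B ∈ cl W X, (B : Set GLM)) := by
      have hle : (⨆ B ∈ cl W X, B) ≤ Subgroup.closure (⋃ B ∈ cl W X, (B : Set GLM)) :=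
        iSup₂_le fun B hB x hx => Subgroup.subset_closure (Set.mem_biUnion hB hx)
      exact hle hg
    have h2 : ∀ x y : Module.End k M, x ∈ pw U 1 → y ∈ pw U 1 → x + y + x * y ∈ pw U 1 := fun x y hx hy =>
      add_mem (add_mem hx hy) (pw_succ_le le_rfl (mul_pw hx hy))
    clear hg
    induction hg' using Subgroup.closure_induction'' with
    | mem x hx =>
      obtain ⟨B, hB, hxB⟩ := Set.mem_iUnion₂.mp hx
      exact hB.2 x hxB
    | inv_mem x hx =>
      obtain ⟨B, hB, hxB⟩ := Set.mem_iUnion₂.mp hx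
      exact hB.2 _ (inv_mem hxB)
    | one => rw [dm_one]; exact zero_mem _
    | mul x y hx hy ihx ihy => rw [dm_mul]; exact h2 _ _ ihx ihy
  have : ∀ l : List GLM, (∀ g ∈ l, g ∈ ⨆ B ∈ cl W X, B) → (l.map dm).prod ∈ pw U l.length := by
    intro l
    induction l with
    | nil => intro _; exact prod_mem [] (by simp)
    | cons a l ih =>
      intro hl
      rw [List.map_cons, List.prod_cons, List.length_cons, add_comm]
      exact mul_pw (hdm a (hl a (by simp))) (ih fun g hg => hl g (by simp [hg]))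
  have h1 := this l hl
  rw [hlen] at h1
  rcases Nat.eq_zero_or_pos n with h0 | h0
  · subst h0
    have h2 : (1 : Module.End k M) ∈ pw U 0 := Submodule.subset_span ⟨[], by simp, rfl, by simp⟩
    rw [hn, Submodule.mem_bot] at h2
    rw [← mul_one ((l.map dm).prod), h2, mul_zero]
  · have := pw_anti h0 (Nat.le_succ n) h1
    rwa [hn, Submodule.mem_bot] at this

variable [FiniteDimensional k M]

/-- A family with pairwise unipotent joins, closed under conjugation by a group containing it. -/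
theorem unip_family {G : Subgroup GLM} {W : Set (Subgroup GLM)} (hWG : ∀ A ∈ W, A ≤ G)
    (hWW : ∀ A ∈ W, ∀ B ∈ W, IsUnipotentOn (A ⊔ B)) (hWconj : ∀ A ∈ W, ∀ g ∈ G, conjBy A g ∈ W) :
    IsUnipotentOn (⨆ A ∈ W, A) := by
  classical
  let Good : Set (Subgroup GLM) → Prop := fun X => X ⊆ W ∧ IsUnipotentOn (⨆ A ∈ X, A)
  let Maxi : Set (Subgroup GLM) → Prop := fun X => Good X ∧ ∀ Y, Good Y → X ⊆ Y → Y ⊆ X
  let r : Set (Subgroup GLM) → ℕ := fun X => Module.finrank k (pw (⨆ A ∈ X, A) 1)
  have hb : ∀ X, r X ≤ Module.finrank k (Module.End k M) := fun X => Submodule.finrank_le _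
  have goodcl : ∀ X, Good X → Good (cl W X) := fun X hX => ⟨fun A hA => hA.1, cl_unip hX.2⟩
  have mono : ∀ X Y : Set (Subgroup GLM), X ⊆ Y → pw (⨆ A ∈ X, A) 1 ≤ pw (⨆ A ∈ Y, A) 1 :=
    fun X Y h => pw_mono (biSup_mono h) 1
  have exmax : ∀ X, Good X → ∃ Y, Maxi Y ∧ X ⊆ Y := by
    intro X hX
    set P : ℕ → Prop := fun d => ∃ Y, Good Y ∧ X ⊆ Y ∧ r Y = d
    have hne : P (r X) := ⟨X, hX, subset_rfl, rfl⟩
    obtain ⟨Y, hY, hXY, hr⟩ := Nat.findGreatest_spec (hb X) hne
    refine ⟨cl W Y, ⟨goodcl Y hY, fun Z hZ hYZ A hA => ⟨hZ.1 hA, fun a ha => ?_⟩⟩, hXY.trans (subset_cl hY.1)⟩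
    have hYZ' : Y ⊆ Z := (subset_cl hY.1).trans hYZ
    have hd : r Z ≤ r Y := by
      rw [hr]; exact Nat.le_findGreatest (hb Z) ⟨Z, hZ, hXY.trans hYZ', rfl⟩
    rw [Submodule.eq_of_le_of_finrank_le (mono Y Z hYZ') hd]
    exact dm_mem (Subgroup.mem_iSup_of_mem A (Subgroup.mem_iSup_of_mem hA ha))
  have maxcl : ∀ X, Maxi X → ∀ Z, Z ⊆ X → cl W Z ⊆ X := fun X hX Z hZ =>
    (fun A hA => (hX.2 _ (goodcl X hX.1) (subset_cl hX.1.1)) ⟨hA.1, fun a ha => mono Z X hZ (hA.2 a ha)⟩)
  -- normalizers grow inside a maximal set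
  have grow : ∀ X, Maxi X → ∀ Z : Set (Subgroup GLM), Z ⊆ X → cl W Z ⊆ Z → ¬ X ⊆ Z →
      ∃ A ∈ X, A ∉ Z ∧ A ≤ Subgroup.normalizer ((⨆ B ∈ Z, B : Subgroup GLM) : Set GLM) := by
    intro X hX Z hZX hclZ hne
    by_contra hcon
    push Not at hcon
    set U := ⨆ B ∈ X, B
    set T := ⨆ B ∈ Z, B
    set N := Subgroup.normalizer (T : Set GLM) ⊓ U
    have hUG : U ≤ G := iSup₂_le fun B hB => hWG B (hX.1.1 hB)
    have hTU : T ≤ U := biSup_mono hZX
    have hmem : ∀ A ∈ X, A ≤ U := fun A hA => le_iSup₂ (f := fun A (_ : A ∈ X) => A) A hA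
    have hZT : ∀ A ∈ Z, A ≤ T := fun A hA => le_iSup₂ (f := fun A (_ : A ∈ Z) => A) A hA
    have key : ∀ g ∈ U, conjBy N g = N → g ∈ N := by
      intro g hg hgN
      have stab : ∀ g ∈ U, conjBy N g = N → conjBy T g ≤ T := by
        intro g hg hgN
        rw [conjBy, Subgroup.map_iSup]
        refine iSup_le fun C => ?_
        rw [Subgroup.map_iSup]
        refine iSup_le fun hC => hZT _ ?_
        have hCU : conjBy C g ≤ U := by
          have := cj_mono (hmem C (hZX hC)) g
          rwa [cj_of_mem hg] at this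
        have hCX : conjBy C g ∈ X := by
          refine maxcl X hX X subset_rfl ⟨hWconj C (hX.1.1 (hZX hC)) g (hUG hg), fun a ha => dm_mem (hCU ha)⟩
        by_contra hn
        refine hcon _ hCX hn (le_trans (le_of_le_of_eq ?_ hgN) (inf_le_left : N ≤ _))
        exact cj_mono (le_inf (le_trans (hZT C hC) Subgroup.le_normalizer) (hmem C (hZX hC))) g
      refine ⟨cj_eq_self.mp (le_antisymm (stab g hg hgN) ?_), hg⟩
      have h2 := stab g⁻¹ (inv_mem hg) (cj_eq_iff.mp hgN).symm
      have := cj_mono h2 g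
      rwa [cj_cj, mul_inv_cancel, cj_one] at this
    have hNU : N = U := by
      haveI := isNilpotent_of_unip (U := U) hX.1.2
      have hnc : NormalizerCondition U := Group.normalizerCondition_of_isNilpotent
      have h1 := (normalizerCondition_iff_only_full_group_self_normalizing.mp hnc) (N.subgroupOf U) ?_
      · exact le_antisymm inf_le_right (Subgroup.subgroupOf_eq_top.mp h1)
      refine le_antisymm (fun x hx => ?_) Subgroup.le_normalizer
      refine Subgroup.mem_subgroupOf.mpr (key _ x.2 (cj_eq_self.mpr ?_))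
      rw [Subgroup.mem_normalizer_iff] at hx ⊢
      intro y
      constructor
      · intro hy
        exact (hx ⟨y, (inf_le_right : N ≤ U) hy⟩).mp hy
      · intro hy
        have hyU : y ∈ U := by
          have := mul_mem (mul_mem (inv_mem x.2) ((inf_le_right : N ≤ U) hy)) x.2
          simpa [mul_assoc] using this
        exact (hx ⟨y, hyU⟩).mpr hy
    apply hne
    intro A hA
    by_contra hAZ
    exact hcon A hA hAZ ((hmem A hA).trans (hNU.ge.trans inf_le_left))
  obtain ⟨X, hX, -⟩ := exmax ∅ ⟨Set.empty_subset _, by simpa using unip_bot⟩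
  -- there is only one maximal set
  have uniq : ∀ Y, Maxi Y → Y = X := by
    by_contra hcon
    push Not at hcon
    obtain ⟨Y₀, hY₀, hYX₀⟩ := hcon
    set P : ℕ → Prop := fun d => ∃ Y Y', Maxi Y ∧ Maxi Y' ∧ Y ≠ Y' ∧ r (Y ∩ Y') = d
    have hne : P (r (Y₀ ∩ X)) := ⟨Y₀, X, hY₀, hX, hYX₀, rfl⟩
    obtain ⟨Y, Y', hY, hY', hYY, hr⟩ := Nat.findGreatest_spec (hb _) hne
    set Z := Y ∩ Y'
    have hclZ : cl W Z ⊆ Z := fun A hA =>
      ⟨maxcl Y hY Z Set.inter_subset_left hA, maxcl Y' hY' Z Set.inter_subset_right hA⟩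
    have h1 : ¬ Y ⊆ Z := fun h => hYY (subset_antisymm (h.trans Set.inter_subset_right)
      (hY.2 Y' hY'.1 (h.trans Set.inter_subset_right)))
    have h2 : ¬ Y' ⊆ Z := fun h => hYY (subset_antisymm (hY'.2 Y hY.1 (h.trans Set.inter_subset_left))
      (h.trans Set.inter_subset_left))
    obtain ⟨A, hA, hAZ, hAn⟩ := grow Y hY Z Set.inter_subset_left hclZ h1
    obtain ⟨B, hB, hBZ, hBn⟩ := grow Y' hY' Z Set.inter_subset_right hclZ h2
    have hgood : Good (Z ∪ {A, B}) := by
      refine ⟨Set.union_subset (Set.inter_subset_left.trans hY.1.1) ?_, ?_⟩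
      · rintro C (rfl | rfl)
        exacts [hY.1.1 hA, hY'.1.1 hB]
      · have hZu : IsUnipotentOn (⨆ C ∈ Z, C) := unip_mono (biSup_mono Set.inter_subset_left) hY.1.2
        rw [iSup_union, iSup_pair]
        exact unip_sup hZu (hWW A (hY.1.1 hA) B (hY'.1.1 hB)) (sup_le hAn hBn)
    obtain ⟨Z', hZ', hsub⟩ := exmax _ hgood
    have hAZ' : A ∈ Z' := hsub (Or.inr (Or.inl rfl))
    have hBZ' : B ∈ Z' := hsub (Or.inr (Or.inr rfl))
    have hYZ' : Y ≠ Z' := fun e => hBZ ⟨e ▸ hBZ', hB⟩
    have hge : r (Y ∩ Z') ≤ r Z := by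
      rw [hr]
      exact Nat.le_findGreatest (hb _) ⟨Y, Z', hY, hZ', hYZ', rfl⟩
    have hsubZ : Z ⊆ Y ∩ Z' := fun C hC => ⟨hC.1, hsub (Or.inl hC)⟩
    apply hAZ
    apply hclZ
    refine ⟨hY.1.1 hA, fun a ha => ?_⟩
    rw [Submodule.eq_of_le_of_finrank_le (mono Z (Y ∩ Z') hsubZ) hge]
    exact dm_mem (Subgroup.mem_iSup_of_mem A (Subgroup.mem_iSup_of_mem (show A ∈ Y ∩ Z' from ⟨hA, hAZ'⟩) ha))
  refine unip_mono (iSup₂_le fun A hA => ?_) hX.1.2
  obtain ⟨Y, hY, hsub⟩ := exmax {A} ⟨Set.singleton_subset_iff.mpr hA, by simpa using hWW A hA A hA⟩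
  exact le_iSup₂_of_le A (uniq Y hY ▸ hsub rfl) le_rfl

end CfsgLib.RootSub.Unip
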