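/-
The unitriangular subgroups of `SL₂(k)` form a special rank one pair with abelian unipotent subgroups.
-/
import Mathlib
import Cfsg.Prelude.Def_RootSubgroups
import Cfsg.Agent.Lib.RootSub.RankOne

set_option autoImplicit false
set_option linter.unusedSectionVars false

open Cfsg Matrix

namespace CfsgLib.RootSub.Unitri

variable (k : Type*) [Field k]

variable {k}

/-- Upper unitriangular matrices. -/
def upm (x : k) : SpecialLinearGroup (Fin 2) k := ⟨!![1, x; 0, 1], by simp [Matrix.det_fin_two_of]⟩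

/-- Lower unitriangular matrices. -/
def lom (x : k) : SpecialLinearGroup (Fin 2) k := ⟨!![1, 0; x, 1], by simp [Matrix.det_fin_two_of]⟩

theorem upm_coe (x : k) : (upm x : Matrix (Fin 2) (Fin 2) k) = !![1, x; 0, 1] := rfl

theorem lom_coe (x : k) : (lom x : Matrix (Fin 2) (Fin 2) k) = !![1, 0; x, 1] := rfl

theorem upm_mul (x y : k) : upm x * upm y = upm (x + y) := by
  ext i j
  fin_cases i <;> fin_cases j <;>
    simp [upm_coe, SpecialLinearGroup.coe_mul, Matrix.mul_apply, Fin.sum_univ_two, add_comm]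

theorem lom_mul (x y : k) : lom x * lom y = lom (x + y) := by
  ext i j
  fin_cases i <;> fin_cases j <;>
    simp [lom_coe, SpecialLinearGroup.coe_mul, Matrix.mul_apply, Fin.sum_univ_two]

theorem upm_zero : upm (0 : k) = 1 := by
  ext i j
  fin_cases i <;> fin_cases j <;> simp [upm_coe]

theorem lom_zero : lom (0 : k) = 1 := by
  ext i j
  fin_cases i <;> fin_cases j <;> simp [lom_coe]

theorem upm_inv (x : k) : (upm x)⁻¹ = upm (-x) := by
  rw [inv_eq_iff_mul_eq_one, upm_mul, add_neg_cancel, upm_zero]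

theorem lom_inv (x : k) : (lom x)⁻¹ = lom (-x) := by
  rw [inv_eq_iff_mul_eq_one, lom_mul, add_neg_cancel, lom_zero]

theorem mem_upper {g : SpecialLinearGroup (Fin 2) k} : g ∈ upperUnipotentSL2 k ↔ ∃ x, g = upm x := by
  constructor
  · intro hg
    rw [upperUnipotentSL2] at hg
    induction hg using Subgroup.closure_induction with
    | mem y hy =>
      refine ⟨y.1 0 1, ?_⟩
      ext i j
      fin_cases i <;> fin_cases j <;> simp [upm_coe, hy.1, hy.2.1, hy.2.2]
    | one => exact ⟨0, upm_zero.symm⟩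
    | mul a b _ _ ha hb =>
      obtain ⟨x, rfl⟩ := ha
      obtain ⟨y, rfl⟩ := hb
      exact ⟨x + y, upm_mul x y⟩
    | inv a _ ha =>
      obtain ⟨x, rfl⟩ := ha
      exact ⟨-x, upm_inv x⟩
  · rintro ⟨x, rfl⟩
    exact Subgroup.subset_closure ⟨by simp [upm_coe], by simp [upm_coe], by simp [upm_coe]⟩

theorem mem_lower {g : SpecialLinearGroup (Fin 2) k} : g ∈ lowerUnipotentSL2 k ↔ ∃ x, g = lom x := by
  constructor
  · intro hg
    rw [lowerUnipotentSL2] at hg
    induction hg using Subgroup.closure_induction with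
    | mem y hy =>
      refine ⟨y.1 1 0, ?_⟩
      ext i j
      fin_cases i <;> fin_cases j <;> simp [lom_coe, hy.1, hy.2.1, hy.2.2]
    | one => exact ⟨0, lom_zero.symm⟩
    | mul a b _ _ ha hb =>
      obtain ⟨x, rfl⟩ := ha
      obtain ⟨y, rfl⟩ := hb
      exact ⟨x + y, lom_mul x y⟩
    | inv a _ ha =>
      obtain ⟨x, rfl⟩ := ha
      exact ⟨-x, lom_inv x⟩
  · rintro ⟨x, rfl⟩
    exact Subgroup.subset_closure ⟨by simp [lom_coe], by simp [lom_coe], by simp [lom_coe]⟩

theorem comm_upper : IsMulCommutative (upperUnipotentSL2 k) := by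
  refine ⟨⟨fun a b => Subtype.ext ?_⟩⟩
  obtain ⟨x, hx⟩ := mem_upper.mp a.2
  obtain ⟨y, hy⟩ := mem_upper.mp b.2
  simp only [Subgroup.coe_mul, hx, hy, upm_mul, add_comm]

theorem comm_lower : IsMulCommutative (lowerUnipotentSL2 k) := by
  refine ⟨⟨fun a b => Subtype.ext ?_⟩⟩
  obtain ⟨x, hx⟩ := mem_lower.mp a.2
  obtain ⟨y, hy⟩ := mem_lower.mp b.2
  simp only [Subgroup.coe_mul, hx, hy, lom_mul, add_comm]

theorem flip_eq {c x : k} (hxc : x * c = 1) (s : k) :
    (upm x)⁻¹ * lom s * upm x = (lom c)⁻¹ * upm (-(x * x * s)) * lom c := by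
  rw [upm_inv, lom_inv]
  ext i j
  fin_cases i <;> fin_cases j <;>
    simp [upm_coe, lom_coe, SpecialLinearGroup.coe_mul, Matrix.mul_apply, Fin.sum_univ_two] <;>
    first
    | linear_combination (s * x) * hxc
    | linear_combination -(s * x) * hxc
    | linear_combination (-s * x * c - s) * hxc
    | linear_combination (s * x * c + s) * hxc
    | ring

theorem cj_flip {c x : k} (hxc : x * c = 1) :
    conjBy (lowerUnipotentSL2 k) (upm x)⁻¹ = conjBy (upperUnipotentSL2 k) (lom c)⁻¹ := by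
  have hx : x ≠ 0 := left_ne_zero_of_mul (hxc.symm ▸ one_ne_zero)
  ext g
  rw [mem_cj, mem_cj, inv_inv, inv_inv, mem_lower, mem_upper]
  constructor
  · rintro ⟨s, hs⟩
    refine ⟨-(x * x * s), ?_⟩
    have hg : g = (upm x)⁻¹ * lom s * upm x := by rw [← hs]; group
    rw [hg, flip_eq hxc]; group
  · rintro ⟨t, ht⟩
    refine ⟨-(t / (x * x)), ?_⟩
    have hg : g = (lom c)⁻¹ * upm t * lom c := by rw [← ht]; group
    have ht' : t = -(x * x * -(t / (x * x))) := by field_simp
    rw [ht', ← flip_eq hxc] at hg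
    rw [hg]; group

theorem flip_unique {c x : k} (h : conjBy (lowerUnipotentSL2 k) (upm x)⁻¹ = conjBy (upperUnipotentSL2 k) (lom c)⁻¹) :
    x * c = 1 := by
  have h1 : (lom c)⁻¹ * upm 1 * lom c ∈ conjBy (lowerUnipotentSL2 k) (upm x)⁻¹ := by
    rw [h]
    have := conj_mem_cj (lom c)⁻¹ (mem_upper.mpr ⟨(1 : k), rfl⟩)
    rwa [inv_inv] at this
  rw [mem_cj, inv_inv, mem_lower] at h1
  obtain ⟨s, hs⟩ := h1
  rw [lom_inv, upm_inv] at hs
  have he := congrArg (fun g : SpecialLinearGroup (Fin 2) k => g.1 0 1) hs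
  simp [upm_coe, lom_coe, SpecialLinearGroup.coe_mul, Matrix.mul_apply, Fin.sum_univ_two] at he
  have h2 : (x * c - 1) ^ 2 = 0 := by linear_combination he
  exact sub_eq_zero.mp (pow_eq_zero_iff (two_ne_zero) |>.mp h2)

theorem lom_ne_one {c : k} (hc : c ≠ 0) : lom c ≠ 1 := fun e => hc (by
  have := congrArg (fun g : SpecialLinearGroup (Fin 2) k => g.1 1 0) e
  simpa [lom_coe] using this)

theorem upm_ne_one {c : k} (hc : c ≠ 0) : upm c ≠ 1 := fun e => hc (by
  have := congrArg (fun g : SpecialLinearGroup (Fin 2) k => g.1 0 1) e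
  simpa [upm_coe] using this)

theorem pair : IsRankOnePair (lowerUnipotentSL2 k) (upperUnipotentSL2 k) where
  ne := fun e => by
    have h1 : upm (1 : k) ∈ lowerUnipotentSL2 k := e ▸ mem_upper.mpr ⟨1, rfl⟩
    obtain ⟨s, hs⟩ := mem_lower.mp h1
    have := congrArg (fun g : SpecialLinearGroup (Fin 2) k => g.1 0 1) hs
    simp [upm_coe, lom_coe] at this
  nilpotent_left := by
    haveI := comm_lower (k := k)
    open IsMulCommutative in infer_instance
  nilpotent_right := by
    haveI := comm_upper (k := k)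
    open IsMulCommutative in infer_instance
  cond_left := by
    intro a ha ha1
    obtain ⟨c, rfl⟩ := mem_lower.mp ha
    have hc : c ≠ 0 := fun e => ha1 (e ▸ lom_zero)
    exact ⟨upm c⁻¹, mem_upper.mpr ⟨_, rfl⟩, upm_ne_one (inv_ne_zero hc), cj_flip (inv_mul_cancel₀ hc)⟩
  cond_right := by
    intro b hb hb1
    obtain ⟨x, rfl⟩ := mem_upper.mp hb
    have hx : x ≠ 0 := fun e => hb1 (e ▸ upm_zero)
    exact ⟨lom x⁻¹, mem_lower.mpr ⟨_, rfl⟩, lom_ne_one (inv_ne_zero hx), (cj_flip (mul_inv_cancel₀ hx)).symm⟩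

theorem special : IsSpecialRankOnePair (lowerUnipotentSL2 k) (upperUnipotentSL2 k) := by
  refine ⟨pair, fun a ha _ b hb _ e => ?_⟩
  obtain ⟨c, rfl⟩ := mem_lower.mp ha
  obtain ⟨x, rfl⟩ := mem_upper.mp hb
  have hxc := flip_unique e
  rw [flip_eq hxc, upm_inv]
  congr 3
  linear_combination -x * hxc

theorem generate : lowerUnipotentSL2 k ⊔ upperUnipotentSL2 k = ⊤ := by
  rw [eq_top_iff]
  intro g _
  have hl : ∀ x : k, lom x ∈ lowerUnipotentSL2 k ⊔ upperUnipotentSL2 k := fun x =>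
    Subgroup.mem_sup_left (mem_lower.mpr ⟨x, rfl⟩)
  have hu : ∀ x : k, upm x ∈ lowerUnipotentSL2 k ⊔ upperUnipotentSL2 k := fun x =>
    Subgroup.mem_sup_right (mem_upper.mpr ⟨x, rfl⟩)
  have gen : ∀ g : SpecialLinearGroup (Fin 2) k, g.1 1 0 ≠ 0 →
      g ∈ lowerUnipotentSL2 k ⊔ upperUnipotentSL2 k := by
    intro g hc
    have hd := g.2
    rw [Matrix.det_fin_two] at hd
    have e : g = upm ((g.1 0 0 - 1) / g.1 1 0) * lom (g.1 1 0) * upm ((g.1 1 1 - 1) / g.1 1 0) := by
      ext i j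
      fin_cases i <;> fin_cases j <;>
        simp [upm_coe, lom_coe, SpecialLinearGroup.coe_mul, Matrix.mul_apply, Fin.sum_univ_two] <;>
        (try field_simp) <;> first | linear_combination hd | linear_combination -hd | ring
    rw [e]
    exact mul_mem (mul_mem (hu _) (hl _)) (hu _)
  by_cases hc : g.1 1 0 = 0
  · have hd := g.2
    rw [Matrix.det_fin_two, hc, mul_zero, sub_zero] at hd
    have h2 : (g * lom 1).1 1 0 ≠ 0 := by
      have h3 : (g * lom 1).1 1 0 = g.1 1 1 := by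
        simp [lom_coe, SpecialLinearGroup.coe_mul, Matrix.mul_apply, Fin.sum_univ_two, hc]
      rw [h3]
      exact right_ne_zero_of_mul (hd.symm ▸ one_ne_zero)
    have := mul_mem (gen _ h2) (inv_mem (hl 1))
    rwa [mul_inv_cancel_right] at this
  · exact gen g hc

end CfsgLib.RootSub.Unitri
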