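/-
Sets of abstract root subgroups (Timmesfeld): members inside rank one groups, trivial intersections,
commutator partitions.
-/
import Mathlib
import Cfsg.Prelude.Def_RootSubgroups
import Cfsg.Agent.Lib.RootSub.RankOne

set_option autoImplicit false
set_option linter.unusedSectionVars false

open Cfsg
open scoped commutatorElement

namespace CfsgLib.RootSub

variable {G : Type*} [Group G] {S : Set (Subgroup G)}

theorem comm_mul_self (a b : G) : a * b * a⁻¹ = ⁅a, b⁆ * b := by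
  rw [commutatorElement_def]; group

/-- The three cases for two members. -/
theorem member_cases (hS : IsRootSubgroupSet S) {A B : Subgroup G} (hA : A ∈ S) (hB : B ∈ S) :
    (∀ a ∈ A, ∀ b ∈ B, a * b = b * a) ∨ IsRankOnePair A B ∨ RootCommutatorCase S A B := by
  rcases hS.pair A hA B hB with h | h
  · refine Or.inl fun a ha b hb => ?_
    have h1 : ⁅a, b⁆ ∈ ⁅A, B⁆ := Subgroup.commutator_mem_commutator ha hb
    rw [h, Subgroup.mem_bot, commutatorElement_eq_one_iff_mul_comm] at h1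
    exact h1
  · exact Or.inr h

theorem comm_sup_abelian {A B : Subgroup G} [IsMulCommutative A] [IsMulCommutative B]
    (h : ∀ a ∈ A, ∀ b ∈ B, a * b = b * a) {x y : G} (hx : x ∈ A ⊔ B) (hy : y ∈ A ⊔ B) :
    x * y = y * x := by
  have hA : ∀ {a a' : G}, a ∈ A → a' ∈ A → a * a' = a' * a := fun ha ha' =>
    congrArg Subtype.val (mul_comm' (⟨_, ha⟩ : A) ⟨_, ha'⟩)
  have hB : ∀ {a a' : G}, a ∈ B → a' ∈ B → a * a' = a' * a := fun ha ha' =>
    congrArg Subtype.val (mul_comm' (⟨_, ha⟩ : B) ⟨_, ha'⟩)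
  refine commute_sup (fun a ha => ?_) (fun b hb => ?_) hy
  · exact (commute_sup (fun a' ha' => hA ha ha') (fun b hb => h a ha b hb) hx).symm
  · exact (commute_sup (fun a ha => (h a ha b hb).symm) (fun b' hb' => hB hb hb') hx).symm

theorem not_pair_of_commuting {A B C : Subgroup G} [IsMulCommutative A] [IsMulCommutative B]
    (h : ∀ a ∈ A, ∀ b ∈ B, a * b = b * a) {A' B' : Subgroup G} (hp : IsRankOnePair A' B')
    (hA : A' ≤ A ⊔ B) (hB : B' ≤ A ⊔ B) : False :=
  not_centralizes hp fun a ha b hb => comm_sup_abelian h (hA ha) (hB hb)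

/-- A non-identity unipotent element does not send the partner to a commuting subgroup. -/
theorem cj_not_commute (hS : IsRootSubgroupSet S) {A P : Subgroup G} (hP : P ∈ S)
    (h : IsRankOnePair A P) {a : G} (ha : a ∈ A) (ha1 : a ≠ 1) :
    ¬ ∀ p ∈ P, ∀ p' ∈ conjBy P a, p * p' = p' * p := by
  intro hc
  haveI := hS.commutative P hP
  haveI := hS.commutative _ (hS.conj_mem P hP a)
  have hne : P ≠ conjBy P a := fun e => ha1 (eq_one_of_normalizes h ha (cj_eq_self.mp e.symm))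
  have hp := pair_of_unip h (right_mem_unip h)
    (cj_mem_unip (right_mem_unip h) (Subgroup.mem_sup_left ha)) hne
  exact not_pair_of_commuting (C := P) hc hp.1 le_sup_left le_sup_right

/-- If `A` is in the commutator case with `B`, conjugates of `B` under `A` commute with `B`. -/
theorem commCase_cj (hS : IsRootSubgroupSet S) {A B : Subgroup G} (hB : B ∈ S)
    (h : RootCommutatorCase S A B) {a : G} (ha : a ∈ A) :
    ∀ b ∈ B, ∀ b' ∈ conjBy B a, b * b' = b' * b := by
  intro b hb b' hb'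
  haveI := hS.commutative B hB
  rw [mem_cj] at hb'
  obtain ⟨b₀, hb₀, rfl⟩ : ∃ b₀ ∈ B, a * b₀ * a⁻¹ = b' := ⟨_, hb', by group⟩
  have hk := h.2.1 _ (Subgroup.commutator_mem_commutator ha hb₀) b (Subgroup.mem_sup_right hb)
  have hbb : b * b₀ = b₀ * b := congrArg Subtype.val (mul_comm' (⟨b, hb⟩ : B) ⟨b₀, hb₀⟩)
  rw [comm_mul_self]
  calc b * (⁅a, b₀⁆ * b₀) = (⁅a, b₀⁆ * b) * b₀ := by rw [← mul_assoc, ← hk]
    _ = ⁅a, b₀⁆ * b₀ * b := by rw [mul_assoc, hbb, ← mul_assoc]

theorem commCase_symm {A B : Subgroup G} (h : RootCommutatorCase S A B) : RootCommutatorCase S B A := by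
  obtain ⟨h1, h2, h3, h4⟩ := h
  have flip : ∀ {X Y : Subgroup G} (f : G → G) (g : G → G),
      Subgroup.closure (f '' (X : Set G)) = Y → (∀ x ∈ X, g x = (f x)⁻¹) →
      Subgroup.closure (g '' (X : Set G)) = Y := by
    intro X Y f g hf hg
    rw [← hf, ← Subgroup.closure_inv (f '' (X : Set G))]
    congr 1
    rw [← Set.image_inv_eq_inv, Set.image_image]
    exact Set.image_congr hg
  rw [RootCommutatorCase, Subgroup.commutator_comm B A, sup_comm B A]
  exact ⟨h1, h2, fun b hb hb1 => flip _ _ (h4 b hb hb1) (fun a _ => by group),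
    fun a ha ha1 => flip _ _ (h3 a ha ha1) (fun b _ => by group)⟩

/-- A member with a rank one partner is not in the commutator case with it, nor commutes with it. -/
theorem eq_of_pair (hS : IsRootSubgroupSet S) {A P : Subgroup G} (hP : P ∈ S) (h : IsRankOnePair A P)
    {B : Subgroup G} (hB : B ∈ S) {x : G} (hx : x ∈ A) (hx1 : x ≠ 1) (hxB : x ∈ B) : A = B := by
  rcases member_cases hS hB hP with hc | hp | hk
  · exact absurd (eq_one_of_normalizes h hx (Subgroup.centralizer_le_normalizer _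
      (Subgroup.mem_centralizer_iff.mpr fun p hp => (hc x hxB p hp).symm))) hx1
  · obtain ⟨p, hp', -, e⟩ := h.cond_left x⁻¹ (inv_mem hx) (inv_ne_one.mpr hx1)
    obtain ⟨p', hp'', -, e'⟩ := hp.cond_left x⁻¹ (inv_mem hxB) (inv_ne_one.mpr hx1)
    -- `B` is a unipotent subgroup of the rank one group of `A` and `P`
    have hBU : B ∈ unipotentSubgroups A P := by
      have : B = conjBy A (p' * p⁻¹) := by
        rw [← cj_cj, e, ← e', cj_cj, mul_inv_cancel, cj_one]
      exact this ▸ cj_mem_unip left_mem_unip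
        (Subgroup.mem_sup_right (mul_mem hp'' (inv_mem hp')))
    by_contra hne
    exact hx1 (eq_one_of_normalizes (pair_of_unip h left_mem_unip hBU hne).1 hx
      (Subgroup.le_normalizer hxB))
  · exact absurd (commCase_cj hS hP hk hxB) (cj_not_commute hS hP h hx hx1)

theorem trivial_intersection (hS : IsRootSubgroupSet S) {A : Subgroup G}
    (hA : ¬ IsIsolatedIn (FAdj S) S A) (hAS : A ∈ S) {B : Subgroup G} (hB : B ∈ S) :
    A ⊓ B = ⊥ ∨ A = B := by
  obtain ⟨P, hP⟩ : ∃ P, IsRankOnePair A P ∧ P ∈ S := by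
    by_contra hc
    push Not at hc
    exact hA ⟨hAS, fun P => ⟨fun h => hc P h.2.2 h.2.1, fun h => hc P (pair_symm h.2.2) h.1⟩⟩
  by_cases h : A ⊓ B = ⊥
  · exact Or.inl h
  · obtain ⟨x, hx, hx1⟩ := Subgroup.bot_or_exists_ne_one (A ⊓ B) |>.resolve_left h
    exact Or.inr (eq_of_pair hS hP.2 hP.1 hB hx.1 hx1 hx.2)

theorem exists_partner {A : Subgroup G} (hA : ¬ IsIsolatedIn (FAdj S) S A) (hAS : A ∈ S) :
    ∃ P ∈ S, IsRankOnePair A P := by
  by_contra hc
  push Not at hc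
  exact hA ⟨hAS, fun P => ⟨fun h => hc P h.2.1 h.2.2, fun h => hc P h.1 (pair_symm h.2.2)⟩⟩

/-- No member other than a unipotent subgroup lies in a rank one group of two members. -/
theorem mem_unip_of_le (hS : IsRootSubgroupSet S) {C D : Subgroup G} (hC : C ∈ S) (hD : D ∈ S)
    (h : IsRankOnePair C D) {A : Subgroup G} (hA : A ∈ S) (hle : A ≤ C ⊔ D)
    (hnc : ∃ a ∈ A, ∃ y ∈ C ⊔ D, a * y ≠ y * a) : A ∈ unipotentSubgroups C D := by
  have hUS : ∀ E ∈ unipotentSubgroups C D, E ∈ S := fun E ⟨x, _, hx⟩ => hx ▸ hS.conj_mem C hC x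
  by_cases hp : ∃ E ∈ unipotentSubgroups C D, IsRankOnePair A E
  · obtain ⟨E, hE, hpE⟩ := hp
    obtain ⟨a, ha, ha1⟩ := exists_ne_one hpE
    obtain ⟨g, hg, -, e⟩ := hpE.cond_left a ha ha1
    have h1 : conjBy A g⁻¹ ∈ unipotentSubgroups C D := e ▸ cj_mem_unip hE (inv_mem (hle ha))
    have h2 := cj_mem_unip h1 (le_of_mem_unip hE hg)
    rwa [cj_cj, mul_inv_cancel, cj_one] at h2
  exfalso
  push Not at hp
  obtain ⟨a, ha, y, hy, hay⟩ := hnc
  refine hay (commute_of_fixes h (fun E hE => ?_) hy)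
  rcases member_cases hS hA (hUS E hE) with hc | hr | hk
  · exact cj_eq_self.mpr (Subgroup.centralizer_le_normalizer _
      (Subgroup.mem_centralizer_iff.mpr fun e he => (hc a ha e he).symm))
  · exact absurd hr (hp E hE)
  · by_contra hne
    haveI := hS.commutative E (hUS E hE)
    haveI := hS.commutative _ (hS.conj_mem E (hUS E hE) a)
    exact not_pair_of_commuting (C := E) (commCase_cj hS (hUS E hE) hk ha)
      (pair_of_unip h hE (cj_mem_unip hE (hle ha)) (Ne.symm hne)).1 le_sup_left le_sup_right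

theorem containment (hS : IsRootSubgroupSet S) {A B C D : Subgroup G} (hA : A ∈ S) (hC : C ∈ S)
    (hB : B ∈ rankOnePartners S A) (hD : D ∈ rankOnePartners S C) (hle : A ⊔ B ≤ C ⊔ D) :
    A ⊔ B = C ⊔ D ∧ C ∈ unipotentSubgroups A B ∧ D ∈ unipotentSubgroups A B := by
  have hnc : ∀ {A B : Subgroup G}, IsRankOnePair A B → B ≤ C ⊔ D →
      ∃ a ∈ A, ∃ y ∈ C ⊔ D, a * y ≠ y * a := by
    intro A B h hB'
    by_contra hcon
    push Not at hcon
    exact not_centralizes h fun a ha b hb => hcon a ha b (hB' hb)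
  have hAU := mem_unip_of_le hS hC hD.1 hD.2 hA (le_sup_left.trans hle) (hnc hB.2 (le_sup_right.trans hle))
  have hBU := mem_unip_of_le hS hC hD.1 hD.2 hB.1 (le_sup_right.trans hle)
    (hnc (pair_symm hB.2) (le_sup_left.trans hle))
  obtain ⟨x, hx, e1, e2⟩ := exists_move_pair hD.2 hAU hBU hB.2.ne
  have heq := (pair_of_unip hD.2 hAU hBU hB.2.ne).2
  have hx' : x⁻¹ ∈ A ⊔ B := heq.symm ▸ inv_mem hx
  refine ⟨heq, ?_, ?_⟩
  · have := cj_mem_unip (left_mem_unip (A := A) (B := B)) hx'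
    rwa [← e1, cj_cj, inv_mul_cancel, cj_one, e1] at this
  · have := cj_mem_unip (right_mem_unip hB.2) hx'
    rwa [← e2, cj_cj, inv_mul_cancel, cj_one, e2] at this

theorem central_translate (hS : IsRootSubgroupSet S) {A B : Subgroup G} (hA : A ∈ S)
    (hB : B ∈ rankOnePartners S A) {z : G}
    (hz : z ∈ Subgroup.centralizer ((A ⊔ B : Subgroup G) : Set G)) (hz1 : z ≠ 1) {a : G} (ha : a ∈ A)
    (ha1 : a ≠ 1) : z * a ∉ rootElements S := by
  rintro ⟨hza, A', hA', hmem⟩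
  rw [Subgroup.mem_centralizer_iff] at hz
  have hcz : conjBy B z = B := cj_eq_self.mpr (Subgroup.centralizer_le_normalizer _
    (Subgroup.mem_centralizer_iff.mpr fun b hb => hz b (Subgroup.mem_sup_right hb)))
  have hBa : conjBy B (z * a) = conjBy B a := by
    rw [← hz a (Subgroup.mem_sup_left ha), ← cj_cj, hcz]
  rcases member_cases hS hA' hB.1 with hc | hp | hk
  · refine ha1 (eq_one_of_normalizes hB.2 ha (cj_eq_self.mp ?_))
    rw [← hBa, cj_eq_self]
    exact Subgroup.centralizer_le_normalizer _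
      (Subgroup.mem_centralizer_iff.mpr fun b hb => (hc _ hmem b hb).symm)
  · obtain ⟨b, hb, -, e⟩ := hB.2.cond_left a⁻¹ (inv_mem ha) (inv_ne_one.mpr ha1)
    obtain ⟨b', hb', -, e'⟩ := hp.cond_left (z * a)⁻¹ (inv_mem hmem) (inv_ne_one.mpr hza)
    rw [inv_inv] at e e'
    have hU : A' ∈ unipotentSubgroups A B := by
      have : A' = conjBy A (b' * b⁻¹) := by
        rw [← cj_cj, e, ← hBa, ← e', cj_cj, mul_inv_cancel, cj_one]
      exact this ▸ cj_mem_unip left_mem_unip (Subgroup.mem_sup_right (mul_mem hb' (inv_mem hb)))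
    have hfixA : ∀ a' ∈ A, z * a' = a' * z := fun a' ha' => (hz a' (Subgroup.mem_sup_left ha')).symm
    have hzaN : z * a ∈ Subgroup.normalizer (A : Set G) :=
      mul_mem (Subgroup.centralizer_le_normalizer _
        (Subgroup.mem_centralizer_iff.mpr fun a' ha' => (hfixA a' ha').symm)) (Subgroup.le_normalizer ha)
    by_cases hne : A' = A
    · subst hne
      have hzA : z ∈ A' := by simpa using mul_mem hmem (inv_mem ha)
      exact hz1 (eq_one_of_normalizes hB.2 hzA (cj_eq_self.mp hcz))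
    · exact hza (eq_one_of_normalizes (pair_of_unip hB.2 hU left_mem_unip hne).1 hmem hzaN)
  · exact cj_not_commute hS hB.1 hB.2 ha ha1 (hBa ▸ commCase_cj hS hB.1 hk hmem)

/-! ### Commutators of members -/

theorem le_normalizer_commutator (A B : Subgroup G) :
    A ≤ Subgroup.normalizer ((⁅A, B⁆ : Subgroup G) : Set G) := by
  have key : ∀ a' ∈ A, ∀ k ∈ ⁅A, B⁆, a' * k * a'⁻¹ ∈ ⁅A, B⁆ := by
    intro a' ha' k hk
    have hle : ⁅A, B⁆ ≤ Subgroup.comap (MulAut.conj a').toMonoidHom ⁅A, B⁆ := by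
      rw [Subgroup.commutator_le]
      intro a ha b hb
      rw [Subgroup.mem_comap]
      show a' * ⁅a, b⁆ * a'⁻¹ ∈ ⁅A, B⁆
      rw [show a' * ⁅a, b⁆ * a'⁻¹ = ⁅a' * a, b⁆ * ⁅a', b⁆⁻¹ by simp only [commutatorElement_def]; group]
      exact mul_mem (Subgroup.commutator_mem_commutator (mul_mem ha' ha) hb)
        (inv_mem (Subgroup.commutator_mem_commutator ha' hb))
    exact hle hk
  intro a ha
  rw [Subgroup.mem_normalizer_iff]
  intro k
  refine ⟨key a ha k, fun h => ?_⟩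
  simpa [mul_assoc] using key a⁻¹ (inv_mem ha) _ h

theorem commCase_of_mem (hS : IsRootSubgroupSet S) {A B : Subgroup G} (hA : A ∈ S) (hB : B ∈ S)
    (hC : ⁅A, B⁆ ∈ S) : RootCommutatorCase S A B := by
  rcases hS.pair A hA B hB with h | h | h
  · exact absurd h (hS.ne_bot _ hC)
  · exfalso
    have hn : A ⊔ B ≤ Subgroup.normalizer ((⁅A, B⁆ : Subgroup G) : Set G) := by
      rw [sup_le_iff]
      exact ⟨le_normalizer_commutator A B, Subgroup.commutator_comm B A ▸ le_normalizer_commutator B A⟩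
    have hle : ⁅A, B⁆ ≤ A ⊔ B := by
      rw [Subgroup.commutator_le]
      intro a ha b hb
      rw [commutatorElement_def]
      exact mul_mem (mul_mem (mul_mem (Subgroup.mem_sup_left ha) (Subgroup.mem_sup_right hb))
        (inv_mem (Subgroup.mem_sup_left ha))) (inv_mem (Subgroup.mem_sup_right hb))
    haveI := hS.commutative _ hC
    rcases le_sup_or_commute h hle hn with h1 | h1
    · -- all unipotent subgroups would normalise the member
      have hU : ⁅A, B⁆ ∈ unipotentSubgroups A B := mem_unip_of_le hS hA hB h hC hle (by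
        by_contra hcon
        push Not at hcon
        have hle2 : A ⊔ B ≤ Subgroup.centralizer ((⁅A, B⁆ : Subgroup G) : Set G) :=
          fun y hy => Subgroup.mem_centralizer_iff.mpr fun k hk => hcon k hk y hy
        exact not_centralizes h fun a ha b hb => by
          haveI := hS.commutative A hA
          refine comm_sup_abelian (A := ⁅A, B⁆) (B := A) (fun k hk a' ha' => ?_) (le_sup_right (a := ⁅A, B⁆) ha)
            (h1 (Subgroup.mem_sup_right hb))
          exact Subgroup.mem_centralizer_iff.mp (hle2 (Subgroup.mem_sup_left ha')) k hk)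
      obtain ⟨E, hE, hne⟩ : ∃ E ∈ unipotentSubgroups A B, E ≠ ⁅A, B⁆ := by
        obtain ⟨C₁, h1', C₂, h2', -, -, hne, -⟩ := exists_three h
        by_cases e : C₁ = ⁅A, B⁆
        · exact ⟨C₂, h2', fun e2 => hne (e.trans e2.symm)⟩
        · exact ⟨C₁, h1', e⟩
      obtain ⟨x, hx, he⟩ := hE
      obtain ⟨w, hw, he'⟩ := hU
      apply hne
      calc E = conjBy A x := he
        _ = conjBy ⁅A, B⁆ (x * w⁻¹) := by
          rw [he', cj_cj, mul_assoc, inv_mul_cancel, mul_one]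
        _ = ⁅A, B⁆ := cj_eq_self.mpr (hn (mul_mem hx (inv_mem hw)))
    · haveI := hS.commutative B hB
      haveI := hS.commutative A hA
      -- a commutator subgroup central in the rank one group makes it nilpotent
      refine cj_not_commute hS hB h (exists_ne_one h).choose_spec.1 (exists_ne_one h).choose_spec.2
        fun b hb b' hb' => ?_
      rw [mem_cj] at hb'
      set a := (exists_ne_one h).choose
      obtain ⟨b₀, hb₀, rfl⟩ : ∃ b₀ ∈ B, a * b₀ * a⁻¹ = b' := ⟨_, hb', by group⟩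
      have hk := h1 _ (Subgroup.commutator_mem_commutator (exists_ne_one h).choose_spec.1 hb₀) b
        (Subgroup.mem_sup_right hb)
      have hbb : b * b₀ = b₀ * b := congrArg Subtype.val (mul_comm' (⟨b, hb⟩ : B) ⟨b₀, hb₀⟩)
      rw [comm_mul_self]
      calc b * (⁅a, b₀⁆ * b₀) = (⁅a, b₀⁆ * b) * b₀ := by rw [← mul_assoc, ← hk]
        _ = ⁅a, b₀⁆ * b₀ * b := by rw [mul_assoc, hbb, ← mul_assoc]
  · exact h

section CommCase

variable {A B : Subgroup G}

theorem comm_right_mul (h : RootCommutatorCase S A B) {a b b' : G} (ha : a ∈ A) (hb : b ∈ B) (hb' : b' ∈ B) :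
    ⁅a, b * b'⁆ = ⁅a, b⁆ * ⁅a, b'⁆ := by
  have := h.2.1 _ (Subgroup.commutator_mem_commutator ha hb') b (Subgroup.mem_sup_right hb)
  calc ⁅a, b * b'⁆ = ⁅a, b⁆ * (b * ⁅a, b'⁆ * b⁻¹) := by simp only [commutatorElement_def]; group
    _ = ⁅a, b⁆ * ⁅a, b'⁆ := by rw [← this]; group

theorem comm_left_mul (h : RootCommutatorCase S A B) {a a' b : G} (ha : a ∈ A) (ha' : a' ∈ A) (hb : b ∈ B) :
    ⁅a * a', b⁆ = ⁅a', b⁆ * ⁅a, b⁆ := by
  have := h.2.1 _ (Subgroup.commutator_mem_commutator ha' hb) a (Subgroup.mem_sup_left ha)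
  calc ⁅a * a', b⁆ = (a * ⁅a', b⁆ * a⁻¹) * ⁅a, b⁆ := by simp only [commutatorElement_def]; group
    _ = ⁅a', b⁆ * ⁅a, b⁆ := by rw [← this]; group

/-- The homomorphism `b ↦ ⁅a, b⁆`. -/
def commHom (h : RootCommutatorCase S A B) {a : G} (ha : a ∈ A) : B →* G where
  toFun b := ⁅a, (b : G)⁆
  map_one' := by simp [commutatorElement_def]
  map_mul' b b' := comm_right_mul h ha b.2 b'.2

theorem commHom_range (h : RootCommutatorCase S A B) {a : G} (ha : a ∈ A) (ha1 : a ≠ 1) :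
    (commHom h ha).range = ⁅A, B⁆ := by
  rw [← h.2.2.1 a ha ha1]
  refine le_antisymm ?_ ((Subgroup.closure_le _).mpr ?_)
  · rintro _ ⟨b, rfl⟩
    exact Subgroup.subset_closure ⟨b, b.2, rfl⟩
  · rintro _ ⟨b, hb, rfl⟩
    exact ⟨⟨b, hb⟩, rfl⟩

theorem comm_eq (h : RootCommutatorCase S A B) {a : G} (ha : a ∈ A) (ha1 : a ≠ 1) {c : G}
    (hc : c ∈ ⁅A, B⁆) : ∃ b ∈ B, ⁅a, b⁆ = c := by
  rw [← commHom_range h ha ha1] at hc
  obtain ⟨b, rfl⟩ := hc
  exact ⟨b, b.2, rfl⟩

variable (hS : IsRootSubgroupSet S) {P : Subgroup G} (hP : P ∈ S) (hAP : IsRankOnePair A P)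
  (hA : A ∈ S) (hB : B ∈ S) (h : RootCommutatorCase S A B)

include hS hP hAP h

theorem ne_commutator : A ≠ ⁅A, B⁆ := by
  intro e
  have : ∀ a ∈ A, ∀ b ∈ B, ⁅a, b⁆ = 1 := fun a ha b hb => by
    rw [commutatorElement_eq_one_iff_mul_comm]
    exact h.2.1 a (e ▸ ha) b (Subgroup.mem_sup_right hb)
  apply hS.ne_bot _ h.1
  rw [eq_bot_iff, Subgroup.commutator_le]
  exact fun a ha b hb => Subgroup.mem_bot.mpr (this a ha b hb)

include hA hB

theorem comm_ne_one {a b : G} (ha : a ∈ A) (ha1 : a ≠ 1) (hb : b ∈ B) (hb1 : b ≠ 1) : ⁅a, b⁆ ≠ 1 := by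
  intro e
  rw [commutatorElement_eq_one_iff_mul_comm] at e
  have hfix : conjBy A b = A := by
    refine (eq_of_pair hS hP hAP (hS.conj_mem A hA b) ha ha1 ?_).symm
    rw [mem_cj, mul_assoc, e, inv_mul_cancel_left]
    exact ha
  have htriv : ∀ a' ∈ A, a' * b * a'⁻¹ * b⁻¹ = 1 := by
    intro a' ha'
    by_contra hne
    refine ne_commutator hS hP hAP h (eq_of_pair hS hP hAP h.1 (x := a' * b * a'⁻¹ * b⁻¹) ?_ hne
      (Subgroup.commutator_mem_commutator ha' hb))
    have := conj_mem_cj b (inv_mem ha')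
    rw [hfix] at this
    simpa [mul_assoc] using mul_mem ha' this
  apply hS.ne_bot _ h.1
  rw [← h.2.2.2 b hb hb1, eq_bot_iff, Subgroup.closure_le]
  rintro _ ⟨a', ha', rfl⟩
  exact Subgroup.mem_bot.mpr (htriv a' ha')

/-- Members of the root set in the central part are translated out of the root elements. -/
theorem commutator_no_fixed {c : G} (hc : c ∈ ⁅A, B⁆) (hc1 : c ≠ 1) {p : G} (hp : p ∈ P) (hp1 : p ≠ 1) :
    c * p ≠ p * c := by
  intro ecp
  obtain ⟨a0, ha0, ha01, e0⟩ := hAP.cond_right p hp hp1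
  -- `A^p = P^{a0}`, both conjugation exponents inverted
  obtain ⟨b, hb, hbc⟩ := comm_eq h (inv_mem ha0) (inv_ne_one.mpr ha01) (inv_mem hc)
  have hca : c * a0⁻¹ = a0⁻¹ * c := h.2.1 c hc _ (Subgroup.mem_sup_left (inv_mem ha0))
  -- the element `c * a0⁻¹` lies in a member
  set A' := conjBy A b with hA'
  have hmem : c * a0⁻¹ ∈ A' := by
    rw [hA', mem_cj]
    have e2 : b * a0⁻¹ * b⁻¹ = ⁅a0⁻¹, b⁆⁻¹ * a0⁻¹ := by simp only [commutatorElement_def]; group
    rw [hbc, inv_inv] at e2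
    rw [← e2]; simpa [mul_assoc] using inv_mem ha0
  have hAS' : A' ∈ S := hS.conj_mem A hA b
  have hne1 : c * a0⁻¹ ≠ 1 := fun e => by
    have hcA : c ∈ A := by rw [mul_inv_eq_one.mp e]; exact ha0
    exact ne_commutator hS hP hAP h (eq_of_pair hS hP hAP h.1 hcA hc1 hc)
  have hA'ne : A' ≠ A := fun e => by
    have hcA : c ∈ A := by simpa [inv_mul_cancel_right] using mul_mem (show c * a0⁻¹ ∈ A from e ▸ hmem) ha0
    exact ne_commutator hS hP hAP h (eq_of_pair hS hP hAP h.1 hcA hc1 hc)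
  have hcA0 : ∀ a ∈ A, c * a = a * c := fun a ha => h.2.1 c hc a (Subgroup.mem_sup_left ha)
  rcases member_cases hS hAS' hP with hcm | hr | hk
  · have h1 := hcm _ hmem p hp
    have h2 : a0⁻¹ * p = p * a0⁻¹ := by
      apply mul_left_cancel (a := c)
      rw [← mul_assoc, h1, ← mul_assoc, ← mul_assoc, ecp]
    have h3 : p ∈ conjBy P a0⁻¹ := by
      rw [mem_cj, inv_inv]
      have : a0 * p * a0⁻¹ = p := by rw [mul_assoc, ← h2]; group
      rw [this]; exact hp
    exact ha01 (inv_eq_one.mp (eq_one_of_normalizes hAP (inv_mem ha0) (cj_eq_self.mp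
      (eq_of_pair hS hA (pair_symm hAP) (hS.conj_mem P hP _) hp hp1 h3).symm)))
  · -- then `c * a0⁻¹` normalises `A` from a different unipotent subgroup
    obtain ⟨p', hp', -, e'⟩ := hr.cond_left (c * a0⁻¹)⁻¹ (inv_mem hmem) (inv_ne_one.mpr hne1)
    rw [inv_inv] at e'
    have hAc : conjBy A c = A := cj_eq_self.mpr (Subgroup.centralizer_le_normalizer _
      (Subgroup.mem_centralizer_iff.mpr fun a ha => (hcA0 a ha).symm))
    have e1 : conjBy P (c * a0⁻¹) = conjBy A p⁻¹ := by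
      rw [← cj_cj, e0, cj_cj,
        show c * p⁻¹ = p⁻¹ * c from by
          calc c * p⁻¹ = p⁻¹ * (p * c) * p⁻¹ := by group
            _ = p⁻¹ * c := by rw [← ecp]; group, ← cj_cj, hAc]
    have hU : A' ∈ unipotentSubgroups A P := by
      have : A' = conjBy A (p' * p⁻¹) := by
        rw [← cj_cj, ← e1, ← e', cj_cj, mul_inv_cancel, cj_one]
      exact this ▸ cj_mem_unip left_mem_unip (Subgroup.mem_sup_right (mul_mem hp' (inv_mem hp)))
    exact hne1 (eq_one_of_normalizes (pair_of_unip hAP hU left_mem_unip hA'ne).1 hmem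
      (mul_mem (cj_eq_self.mp hAc) (Subgroup.le_normalizer (inv_mem ha0))))
  · -- a conjugate of `p` would centralise `P`
    have hy : p ∈ conjBy P c := by
      rw [mem_cj, mul_assoc, ← ecp, inv_mul_cancel_left]; exact hp
    have hy' : a0⁻¹ * p * a0 ∈ conjBy P (c * a0⁻¹) := by
      rw [mem_cj]
      have : (c * a0⁻¹)⁻¹ * (a0⁻¹ * p * a0) * (c * a0⁻¹) = p := by
        rw [hca]
        calc (a0⁻¹ * c)⁻¹ * (a0⁻¹ * p * a0) * (a0⁻¹ * c) = c⁻¹ * (p * c) := by group
          _ = p := by rw [← ecp, inv_mul_cancel_left]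
      rw [this]; exact hp
    have hcent : ∀ q ∈ P, (a0⁻¹ * p * a0) * q = q * (a0⁻¹ * p * a0) := fun q hq =>
      (commCase_cj hS hP hk hmem q hq _ hy').symm
    have hne : conjBy P a0⁻¹ ≠ P := fun e =>
      ha01 (inv_eq_one.mp (eq_one_of_normalizes hAP (inv_mem ha0) (cj_eq_self.mp e)))
    have hpair := (pair_of_unip hAP (cj_mem_unip (right_mem_unip hAP)
      (Subgroup.mem_sup_left (inv_mem ha0))) (right_mem_unip hAP) hne).1
    have := eq_one_of_normalizes hpair (a := a0⁻¹ * p * a0) (by simpa [mem_cj, mul_assoc] using hp)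
      (Subgroup.centralizer_le_normalizer _ (Subgroup.mem_centralizer_iff.mpr fun q hq => (hcent q hq).symm))
    exact hp1 (by
      calc p = a0 * (a0⁻¹ * p * a0) * a0⁻¹ := by group
        _ = 1 := by rw [this]; group)

theorem eq_commutator {E : Subgroup G} (hE : E ∈ S) (hle : E ≤ ⁅A, B⁆) : E = ⁅A, B⁆ := by
  obtain ⟨x, hx, hx1⟩ := (Subgroup.bot_or_exists_ne_one E).resolve_left (hS.ne_bot _ hE)
  rcases member_cases hS h.1 hP with h1 | h1 | h1
  · exact absurd (h1 x (hle hx)) (fun hh => by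
      obtain ⟨p, hp, hp1⟩ := exists_ne_one (pair_symm hAP)
      exact commutator_no_fixed hS hP hAP hA hB h (hle hx) hx1 hp hp1 (hh p hp))
  · exact (eq_of_pair hS hP h1 hE (hle hx) hx1 hx).symm
  rcases member_cases hS hE hP with h2 | h2 | h2
  · exfalso
    obtain ⟨p, hp, hp1⟩ := exists_ne_one (pair_symm hAP)
    exact commutator_no_fixed hS hP hAP hA hB h (hle hx) hx1 hp hp1 (h2 x hx p hp)
  · exact eq_of_pair hS hP h2 h.1 hx hx1 (hle hx)
  refine le_antisymm hle fun c hc => ?_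
  obtain ⟨p, hp, hp1⟩ := exists_ne_one (pair_symm hAP)
  have hKeq : ⁅E, P⁆ = ⁅⁅A, B⁆, P⁆ := (h2.2.2.1 x hx hx1).symm.trans (h1.2.2.1 x (hle hx) hx1)
  have hrange : ⁅c, p⁆ ∈ ⁅E, P⁆ := hKeq.symm ▸ Subgroup.commutator_mem_commutator hc hp
  obtain ⟨e, he, hee⟩ : ∃ e ∈ E, ⁅p, e⁆ = ⁅p, c⁆ := by
    refine comm_eq (commCase_symm h2) hp hp1 ?_
    rw [← commutatorElement_inv, Subgroup.commutator_comm]
    exact inv_mem hrange
  have h3 : ⁅c * e⁻¹, p⁆ = 1 := by
    rw [comm_left_mul h1 hc (inv_mem (hle he)) hp]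
    have h4 := comm_left_mul h1 (inv_mem (hle he)) (hle he) hp
    rw [inv_mul_cancel, show ⁅(1 : G), p⁆ = 1 by simp [commutatorElement_def]] at h4
    have h5 : ⁅e, p⁆ = ⁅c, p⁆ := by rw [← commutatorElement_inv, hee, commutatorElement_inv]
    rw [eq_inv_of_mul_eq_one_right h4.symm, h5, inv_mul_cancel]
  rw [commutatorElement_eq_one_iff_mul_comm] at h3
  have h6 : c * e⁻¹ = 1 := by
    by_contra hne
    exact commutator_no_fixed hS hP hAP hA hB h (mul_mem hc (inv_mem (hle he))) hne hp hp1 h3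
  rw [mul_inv_eq_one] at h6
  exact h6 ▸ he

omit hP hAP hB in
theorem mem_sup_commutator {x : G} (hx : x ∈ A ⊔ ⁅A, B⁆) :
    x ∈ ⁅A, B⁆ ∨ ∃ b ∈ B, x ∈ conjBy A b := by
  have hle : A ≤ Subgroup.normalizer ((⁅A, B⁆ : Subgroup G) : Set G) := fun a ha =>
    Subgroup.centralizer_le_normalizer _ (Subgroup.mem_centralizer_iff.mpr fun k hk =>
      h.2.1 k hk a (Subgroup.mem_sup_left ha))
  obtain ⟨a, ha, k, hk, rfl⟩ : ∃ a ∈ A, ∃ k ∈ ⁅A, B⁆, a * k = x := by
    rw [← SetLike.mem_coe, Subgroup.coe_mul_of_left_le_normalizer_right A _ hle] at hx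
    exact hx
  by_cases ha1 : a = 1
  · subst ha1; left; rwa [one_mul]
  right
  obtain ⟨b, hb, e⟩ := comm_eq h ha ha1 (inv_mem hk)
  refine ⟨b, hb, ?_⟩
  have : a * k = b * a * b⁻¹ := by
    rw [← h.2.1 k hk a (Subgroup.mem_sup_left ha), ← inv_inv k, ← e]
    simp only [commutatorElement_def]; group
  rw [this]
  exact conj_mem_cj b ha

omit hP hAP hA hB in
theorem cj_le_sup {b : G} (hb : b ∈ B) : conjBy A b ≤ A ⊔ ⁅A, B⁆ := by
  rintro _ ⟨a, ha, rfl⟩
  have : b * a * b⁻¹ = ⁅a, b⁆⁻¹ * a := by simp only [commutatorElement_def]; group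
  show b * a * b⁻¹ ∈ _
  rw [this]
  exact mul_mem (inv_mem (Subgroup.mem_sup_right (Subgroup.commutator_mem_commutator ha hb)))
    (Subgroup.mem_sup_left ha)

theorem cj_commutator {b : G} (hb : b ∈ B) : conjBy ⁅A, B⁆ b = ⁅A, B⁆ :=
  cj_eq_self.mpr (Subgroup.centralizer_le_normalizer _ (Subgroup.mem_centralizer_iff.mpr fun k hk =>
    h.2.1 k hk b (Subgroup.mem_sup_right hb)))

theorem membersIn_eq :
    membersIn S (A ⊔ ⁅A, B⁆) = (fun b : G => conjBy A b) '' (B : Set G) ∪ {⁅A, B⁆} := by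
  ext E
  constructor
  · rintro ⟨hE, hle⟩
    by_cases hin : E ≤ ⁅A, B⁆
    · exact Or.inr (eq_commutator hS hP hAP hA hB h hE hin)
    obtain ⟨x, hx, hxC⟩ := SetLike.not_le_iff_exists.mp hin
    obtain ⟨b, hb, hxb⟩ := (mem_sup_commutator hS hA h (hle hx)).resolve_left hxC
    have hx1 : x ≠ 1 := fun e => hxC (e ▸ one_mem _)
    exact Or.inl ⟨b, hb, eq_of_pair hS (hS.conj_mem P hP b) (pair_cj hAP b) hE hxb hx1 hx⟩
  · rintro (⟨b, hb, rfl⟩ | rfl)
    · exact ⟨hS.conj_mem A hA b, cj_le_sup hS h hb⟩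
    · exact ⟨h.1, le_sup_right⟩

theorem partition_sup : IsSubgroupPartition (A ⊔ ⁅A, B⁆) (membersIn S (A ⊔ ⁅A, B⁆)) := by
  refine ⟨fun C hC => hC.2, fun x hx _ => ?_, fun C hC D hD hne => ?_⟩
  · rcases mem_sup_commutator hS hA h hx with h1 | ⟨b, hb, h1⟩
    · exact ⟨_, ⟨h.1, le_sup_right⟩, h1⟩
    · exact ⟨_, ⟨hS.conj_mem A hA b, cj_le_sup hS h hb⟩, h1⟩
  · by_contra hbot
    obtain ⟨y, hy, hy1⟩ := (Subgroup.bot_or_exists_ne_one (C ⊓ D)).resolve_left hbot
    rw [membersIn_eq hS hP hAP hA hB h] at hC hD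
    rcases hC with ⟨b, hb, rfl⟩ | hC
    · exact hne (eq_of_pair hS (hS.conj_mem P hP b) (pair_cj hAP b)
        (by rcases hD with ⟨b', _, rfl⟩ | hD'
            · exact hS.conj_mem A hA b'
            · rw [Set.mem_singleton_iff.mp hD']; exact h.1) hy.1 hy1 hy.2)
    · rcases hD with ⟨b, hb, rfl⟩ | hD
      · exact hne (eq_of_pair hS (hS.conj_mem P hP b) (pair_cj hAP b)
          (by rw [Set.mem_singleton_iff.mp hC]; exact h.1) hy.2 hy1 hy.1).symm
      · exact hne ((Set.mem_singleton_iff.mp hC).trans (Set.mem_singleton_iff.mp hD).symm)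

theorem mem_linePartners : A ∈ linePartners S ⁅A, B⁆ := by
  refine ⟨⟨hA, ne_commutator hS hP hAP h, ?_⟩, ?_⟩
  · rw [eq_bot_iff, Subgroup.commutator_le]
    intro k hk a ha
    rw [Subgroup.mem_bot, commutatorElement_eq_one_iff_mul_comm]
    exact h.2.1 k hk a (Subgroup.mem_sup_left ha)
  · rw [sup_comm]; exact partition_sup hS hP hAP hA hB h

end CommCase

end CfsgLib.RootSub
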