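/-
Two members of a set of root subgroups away from the rank one partners of a third one.
-/
import Mathlib
import Cfsg.Prelude.Def_RootSubgroups
import Cfsg.Agent.Lib.RootSub.RankOne
import Cfsg.Agent.Lib.RootSub.RootSet

set_option autoImplicit false
set_option linter.unusedSectionVars false

open Cfsg
open scoped commutatorElement

namespace CfsgLib.RootSub

variable {G : Type*} [Group G] {S : Set (Subgroup G)}

theorem nonpair_comm (hS : IsRootSubgroupSet S) {B P : Subgroup G} (hB : B ∈ S) (hP : P ∈ S)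
    (hn : ¬ IsRankOnePair B P) {k : G} (hk : k ∈ ⁅B, P⁆) {p : G} (hp : p ∈ P) : k * p = p * k := by
  rcases member_cases hS hB hP with h | h | h
  · have : k ∈ (⊥ : Subgroup G) := by
      refine ((Subgroup.commutator_le).mpr fun b hb q hq => ?_) hk
      rw [Subgroup.mem_bot, commutatorElement_eq_one_iff_mul_comm]
      exact h b hb q hq
    rw [Subgroup.mem_bot.mp this, one_mul, mul_one]
  · exact absurd h hn
  · exact h.2.1 k hk p (Subgroup.mem_sup_right hp)

/-- An element of a member with a rank one partner `P` is not a product of commuting elements of two members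
having no rank one pair with `P`. -/
theorem two_nonpair (hS : IsRootSubgroupSet S) {A P B C : Subgroup G} (hP : P ∈ S)
    (hAP : IsRankOnePair A P) (hB : B ∈ S) (hC : C ∈ S) {a b c : G} (ha : a ∈ A) (ha1 : a ≠ 1)
    (hb : b ∈ B) (hc : c ∈ C) (habc : a = b * c) (hBP : ¬ IsRankOnePair B P) (hCP : ¬ IsRankOnePair C P) :
    False := by
  haveI := hS.commutative P hP
  have hPP : ∀ p ∈ P, ∀ q ∈ P, p * q = q * p := fun p hp q hq =>
    congrArg Subtype.val (mul_comm' (⟨p, hp⟩ : P) ⟨q, hq⟩)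
  have hne : P ≠ conjBy P a := fun e => ha1 (eq_one_of_normalizes hAP ha (cj_eq_self.mp e.symm))
  have hp0 := (pair_of_unip hAP (right_mem_unip hAP)
    (cj_mem_unip (right_mem_unip hAP) (Subgroup.mem_sup_left ha)) hne).1
  have hXY : IsRankOnePair (conjBy P b⁻¹) (conjBy P c) := by
    have h := pair_cj hp0 b⁻¹
    rwa [cj_cj, habc, inv_mul_cancel_left] at h
  -- the commutator element of a conjugated element
  have form : ∀ {g x : G}, x ∈ conjBy P g → ∃ p ∈ P, x = ⁅g, p⁆ * p := by
    intro g x hx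
    rw [mem_cj] at hx
    exact ⟨_, hx, by rw [← comm_mul_self]; group⟩
  have kB : ∀ p ∈ P, ⁅b⁻¹, p⁆ ∈ ⁅B, P⁆ := fun p hp => Subgroup.commutator_mem_commutator (inv_mem hb) hp
  have kC : ∀ p ∈ P, ⁅c, p⁆ ∈ ⁅C, P⁆ := fun p hp => Subgroup.commutator_mem_commutator hc hp
  have key : ∀ q ∈ P, ∀ p ∈ P, ∀ k ∈ ⁅C, P⁆, k * ⁅⁅b⁻¹, q⁆, ⁅c, p⁆⁆ = ⁅⁅b⁻¹, q⁆, ⁅c, p⁆⁆ * k := by
    intro q hq p hp k hk
    by_cases h1 : ⁅b⁻¹, q⁆ = 1
    · rw [h1, commutatorElement_one_left, one_mul, mul_one]
    by_cases h2 : ⁅c, p⁆ = 1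
    · rw [h2, commutatorElement_one_right, one_mul, mul_one]
    have memK : ∀ {X : Subgroup G}, X ∈ S → ¬ IsRankOnePair X P → ∀ {z : G}, z ∈ ⁅X, P⁆ → z ≠ 1 → ⁅X, P⁆ ∈ S := by
      intro X hX hn z hz hz1
      rcases member_cases hS hX hP with h | h | h
      · refine absurd (Subgroup.mem_bot.mp (((Subgroup.commutator_le).mpr fun u hu v hv => ?_) hz)) hz1
        rw [Subgroup.mem_bot, commutatorElement_eq_one_iff_mul_comm]
        exact h u hu v hv
      · exact absurd h hn
      · exact h.1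
    have hKB := memK hB hBP (kB q hq) h1
    have hKC := memK hC hCP (kC p hp) h2
    rcases member_cases hS hKB hKC with h | h | h
    · rw [commutatorElement_eq_one_iff_mul_comm.mpr (h _ (kB q hq) _ (kC p hp)), one_mul, mul_one]
    · exfalso
      have hqc : q ∈ Subgroup.centralizer ((⁅B, P⁆ ⊔ ⁅C, P⁆ : Subgroup G) : Set G) := by
        rw [Subgroup.mem_centralizer_iff]
        intro x hx
        exact (commute_sup (x := q) (fun k hk => (nonpair_comm hS hB hP hBP hk hq).symm)
          (fun k hk => (nonpair_comm hS hC hP hCP hk hq).symm) hx).symm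
      have hq1 : q ≠ 1 := fun e => h1 (by rw [e, commutatorElement_one_right])
      refine central_translate hS hKB ⟨hKC, h⟩ hqc hq1 (kB q hq) h1 ⟨?_, conjBy P b⁻¹, hS.conj_mem P hP _, ?_⟩
      · rw [← nonpair_comm hS hB hP hBP (kB q hq) hq, ← comm_mul_self]
        exact fun e => hq1 (conj_eq_one_iff.mp e)
      · rw [← nonpair_comm hS hB hP hBP (kB q hq) hq, ← comm_mul_self]
        exact conj_mem_cj _ hq
    · exact (h.2.1 _ (Subgroup.commutator_mem_commutator (kB q hq) (kC p hp)) k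
        (Subgroup.mem_sup_right hk)).symm
  obtain ⟨y, hy, hy1⟩ := exists_ne_one hXY
  refine cj_not_commute hS (hS.conj_mem P hP c) hXY hy hy1 ?_
  intro x hx x' hx'
  haveI := hS.commutative _ (hS.conj_mem P hP c)
  have hXc : ∀ u ∈ conjBy P c, ∀ v ∈ conjBy P c, u * v = v * u := fun u hu v hv =>
    congrArg Subtype.val (mul_comm' (⟨u, hu⟩ : ↥(conjBy P c)) ⟨v, hv⟩)
  obtain ⟨x₀, hx₀, rfl⟩ : ∃ x₀ ∈ conjBy P c, y * x₀ * y⁻¹ = x' := ⟨_, mem_cj.mp hx', by group⟩
  obtain ⟨p₀, hp₀, e₀⟩ := form hx₀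
  obtain ⟨p', hp', e'⟩ := form hx
  obtain ⟨q, hq, ey⟩ := form hy
  set k := ⁅c, p₀⁆ with hk
  set k' := ⁅b⁻¹, q⁆ with hk'
  set m := ⁅k', k⁆ with hm
  have c1 : k' * p₀ = p₀ * k' := nonpair_comm hS hB hP hBP (kB q hq) hp₀
  have c3 : k * q = q * k := nonpair_comm hS hC hP hCP (kC p₀ hp₀) hq
  have c4 : q * p₀ = p₀ * q := hPP q hq p₀ hp₀
  have hyx : y * x₀ * y⁻¹ = m * x₀ := by
    rw [ey, e₀, hm, commutatorElement_def]
    calc k' * q * (k * p₀) * (k' * q)⁻¹ = k' * (q * k) * (p₀ * q⁻¹) * k'⁻¹ := by group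
      _ = k' * k * (q * p₀ * q⁻¹) * k'⁻¹ := by rw [← c3]; group
      _ = k' * k * (p₀ * k'⁻¹) := by rw [c4, mul_inv_cancel_right]; group
      _ = k' * k * (k'⁻¹ * p₀) := by rw [(show Commute k' p₀ from c1).inv_left.symm.eq]
      _ = k' * k * k'⁻¹ * k⁻¹ * (k * p₀) := by group
  have hmk : ∀ z ∈ ⁅C, P⁆, z * m = m * z := fun z hz => key q hq p₀ hp₀ z hz
  have hmp : p' * m = m * p' := by
    have d1 : Commute p' k' := (nonpair_comm hS hB hP hBP (kB q hq) hp').symm
    have d2 : Commute p' k := (nonpair_comm hS hC hP hCP (kC p₀ hp₀) hp').symm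
    rw [hm, commutatorElement_def]
    exact ((d1.mul_right d2).mul_right d1.inv_right).mul_right d2.inv_right
  have hmx : x * m = m * x := by
    rw [e']
    exact Commute.mul_left (hmk _ (kC p' hp')) hmp
  rw [hyx, ← mul_assoc, hmx, mul_assoc, hXc x hx x₀ hx₀, ← mul_assoc]

theorem fadj_symm {A B : Subgroup G} (h : FAdj S A B) : FAdj S B A := ⟨h.2.1, h.1, pair_symm h.2.2⟩

theorem reach_symm {A B : Subgroup G} (h : Relation.ReflTransGen (FAdj S) A B) :
    Relation.ReflTransGen (FAdj S) B A := by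
  induction h with
  | refl => exact Relation.ReflTransGen.refl
  | tail _ hbc ih => exact (Relation.ReflTransGen.single (fadj_symm hbc)).trans ih

theorem fadj_cj (hS : IsRootSubgroupSet S) (g : G) {A B : Subgroup G} (h : FAdj S A B) :
    FAdj S (conjBy A g) (conjBy B g) := ⟨hS.conj_mem A h.1 g, hS.conj_mem B h.2.1 g, pair_cj h.2.2 g⟩

theorem reach_cj (hS : IsRootSubgroupSet S) (g : G) {A B : Subgroup G} (h : Relation.ReflTransGen (FAdj S) A B) :
    Relation.ReflTransGen (FAdj S) (conjBy A g) (conjBy B g) := by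
  induction h with
  | refl => exact Relation.ReflTransGen.refl
  | tail _ hbc ih => exact ih.tail (fadj_cj hS g hbc)

/-- Conjugation by an element of a member stays in the component of a non-isolated member. -/
theorem reach_cj_member (hS : IsRootSubgroupSet S) {A P X : Subgroup G} (hAP : FAdj S A P) (hX : X ∈ S)
    {x : G} (hx : x ∈ X) : Relation.ReflTransGen (FAdj S) A (conjBy A x) := by
  rcases member_cases hS hAP.1 hX with h | h | h
  · rw [cj_eq_self.mpr (Subgroup.centralizer_le_normalizer _ (Subgroup.mem_centralizer_iff.mpr fun a ha => h a ha x hx))]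
  · by_cases e : A = conjBy A x
    · rw [← e]
    · exact Relation.ReflTransGen.single ⟨hAP.1, hS.conj_mem A hAP.1 x,
        (pair_of_unip h left_mem_unip (cj_mem_unip left_mem_unip (Subgroup.mem_sup_right hx)) e).1⟩
  · obtain ⟨a, ha, ha1⟩ := exists_ne_one hAP.2.2
    have hk : ⁅x, a⁆ ∈ ⁅A, X⁆ := by
      rw [Subgroup.commutator_comm]
      exact Subgroup.commutator_mem_commutator hx ha
    have hA' : x * a * x⁻¹ ∈ conjBy A x := conj_mem_cj x ha
    have hA'S := hS.conj_mem A hAP.1 x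
    by_cases h1 : IsRankOnePair (conjBy A x) P
    · exact (Relation.ReflTransGen.single hAP).tail ⟨hAP.2.1, hA'S, pair_symm h1⟩
    have h2 : IsRankOnePair ⁅A, X⁆ P := by
      by_contra hn
      refine two_nonpair hS hAP.2.1 hAP.2.2 h.1 hA'S ha ha1 (inv_mem hk) hA' ?_ hn h1
      rw [comm_mul_self, inv_mul_cancel_left]
    have hK : Relation.ReflTransGen (FAdj S) A ⁅A, X⁆ :=
      (Relation.ReflTransGen.single hAP).tail ⟨hAP.2.1, h.1, pair_symm h2⟩
    have hfix : conjBy ⁅A, X⁆ x = ⁅A, X⁆ := cj_eq_self.mpr (Subgroup.centralizer_le_normalizer _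
      (Subgroup.mem_centralizer_iff.mpr fun k hk => h.2.1 k hk x (Subgroup.mem_sup_right hx)))
    have h3 := reach_cj hS x hK
    rw [hfix] at h3
    exact hK.trans (reach_symm h3)

/-- The component of a non-isolated member is invariant under conjugation. -/
theorem reach_cj_all (hS : IsRootSubgroupSet S) (g : G) : ∀ {A P : Subgroup G}, FAdj S A P →
    Relation.ReflTransGen (FAdj S) A (conjBy A g) := by
  have hg : g ∈ Subgroup.closure (⋃ A ∈ S, (A : Set G)) := by
    have hle : (⨆ A ∈ S, A) ≤ Subgroup.closure (⋃ A ∈ S, (A : Set G)) :=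
      iSup₂_le fun A hA x hx => Subgroup.subset_closure (Set.mem_biUnion hA hx)
    exact hle (by rw [hS.generates]; exact Subgroup.mem_top g)
  induction hg using Subgroup.closure_induction'' with
  | mem x hx =>
    intro A P h
    obtain ⟨X, hX, hxX⟩ := Set.mem_iUnion₂.mp hx
    exact reach_cj_member hS h hX hxX
  | inv_mem x hx =>
    intro A P h
    obtain ⟨X, hX, hxX⟩ := Set.mem_iUnion₂.mp hx
    exact reach_cj_member hS h hX (inv_mem hxX)
  | one => intro A P h; rw [cj_one]
  | mul x y _ _ hx hy =>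
    intro A P h
    have h2 := hx (fadj_cj hS y h)
    rw [cj_cj] at h2
    exact (hy h).trans h2

end CfsgLib.RootSub
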