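/-
Opposite commutator partners: the rank one pair they form and its natural module.
-/
import Mathlib
import Cfsg.Prelude.Def_RootSubgroups
import Cfsg.Agent.Lib.RootSub.RankOne
import Cfsg.Agent.Lib.RootSub.RootSet

set_option autoImplicit false
set_option linter.unusedSectionVars false

open Cfsg
open scoped commutatorElement

namespace CfsgLib.RootSub

variable {G : Type*} [Group G] {S : Set (Subgroup G)}

/-- No element of a member in the commutator case centralizes the other member. -/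
theorem eq_one_of_comm_all (hS : IsRootSubgroupSet S) {A B : Subgroup G} (h : RootCommutatorCase S A B) {a : G}
    (ha : a ∈ A) (hc : ∀ b ∈ B, a * b = b * a) : a = 1 := by
  by_contra ha1
  apply hS.ne_bot _ h.1
  rw [← h.2.2.1 a ha ha1, eq_bot_iff, Subgroup.closure_le]
  rintro _ ⟨b, hb, rfl⟩
  change a * b * a⁻¹ * b⁻¹ ∈ (⊥ : Subgroup G)
  rw [Subgroup.mem_bot, hc b hb]
  group

/-- The elements of `N` centralizing `U`. -/
def fixedIn (N U : Subgroup G) : Subgroup G := N ⊓ Subgroup.centralizer (U : Set G)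

theorem fixedIn_cj (N U : Subgroup G) {x : G} (hx : conjBy N x = N) :
    fixedIn N (conjBy U x) = conjBy (fixedIn N U) x := by
  ext y
  rw [mem_cj]
  unfold fixedIn
  simp only [Subgroup.mem_inf, Subgroup.mem_centralizer_iff]
  constructor
  · rintro ⟨h1, h2⟩
    refine ⟨mem_cj.mp (hx.symm ▸ h1), fun u hu => ?_⟩
    have h3 := h2 _ (conj_mem_cj x hu)
    calc u * (x⁻¹ * y * x) = x⁻¹ * ((x * u * x⁻¹) * y) * x := by group
      _ = x⁻¹ * y * x * u := by rw [h3]; group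
  · rintro ⟨h1, h2⟩
    refine ⟨by rw [← hx, mem_cj]; exact h1, fun u hu => ?_⟩
    have h3 := h2 _ (mem_cj.mp hu)
    calc u * y = x * ((x⁻¹ * u * x) * (x⁻¹ * y * x)) * x⁻¹ := by group
      _ = y * u := by rw [h3]; group

variable {A B D : Subgroup G} (hS : IsRootSubgroupSet S) (hA : A ∈ S) (hB : B ∈ S)
  (hC : ⁅A, B⁆ ∈ S) (hD : D ∈ S) (hDC : ⁅D, ⁅A, B⁆⁆ = A)
include hS hA hB hC hD hDC

theorem opp_case : RootCommutatorCase S A B ∧ RootCommutatorCase S D ⁅A, B⁆ :=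
  ⟨commCase_of_mem hS hA hB hC, commCase_of_mem hS hD hC (by rw [hDC]; exact hA)⟩

theorem opp_comm {a c : G} (ha : a ∈ A) (hc : c ∈ ⁅A, B⁆) : a * c = c * a :=
  ((opp_case hS hA hB hC hD hDC).1.2.1 c hc a (Subgroup.mem_sup_left ha)).symm

theorem opp_comm_D {a d : G} (ha : a ∈ A) (hd : d ∈ D) : a * d = d * a :=
  (opp_case hS hA hB hC hD hDC).2.2.1 a (by rw [hDC]; exact ha) d (Subgroup.mem_sup_left hd)

theorem opp_comm_B {c b : G} (hc : c ∈ ⁅A, B⁆) (hb : b ∈ B) : c * b = b * c :=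
  (opp_case hS hA hB hC hD hDC).1.2.1 c hc b (Subgroup.mem_sup_right hb)

theorem opp_inter {x : G} (hx : x ∈ A) (hx' : x ∈ ⁅A, B⁆) : x = 1 :=
  eq_one_of_comm_all hS (opp_case hS hA hB hC hD hDC).1 hx
    fun _ hb => opp_comm_B hS hA hB hC hD hDC hx' hb

theorem opp_decomp {x : G} (hx : x ∈ A ⊔ ⁅A, B⁆) : ∃ a ∈ A, ∃ c ∈ ⁅A, B⁆, a * c = x := by
  have hle : A ≤ Subgroup.normalizer ((⁅A, B⁆ : Subgroup G) : Set G) := le_normalizer_commutator A B
  rw [← SetLike.mem_coe, Subgroup.coe_mul_of_left_le_normalizer_right A _ hle] at hx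
  exact hx

theorem fixed_D : fixedIn (A ⊔ ⁅A, B⁆) D = A := by
  refine le_antisymm (fun x hx => ?_) (le_inf le_sup_left fun a ha =>
    Subgroup.mem_centralizer_iff.mpr fun d hd => (opp_comm_D hS hA hB hC hD hDC ha hd).symm)
  obtain ⟨hxN, hxc⟩ := hx
  obtain ⟨a, ha, c, hc, rfl⟩ := opp_decomp hS hA hB hC hD hDC hxN
  have hc1 : c = 1 := by
    refine eq_one_of_comm_all hS (commCase_symm (opp_case hS hA hB hC hD hDC).2) hc fun d hd => ?_
    have h1 := Subgroup.mem_centralizer_iff.mp hxc d hd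
    have h2 := opp_comm_D hS hA hB hC hD hDC ha hd
    apply mul_left_cancel (a := a)
    rw [← mul_assoc, ← h1, ← mul_assoc, ← mul_assoc, h2]
  rw [hc1, mul_one]; exact ha

theorem fixed_B : fixedIn (A ⊔ ⁅A, B⁆) B = ⁅A, B⁆ := by
  refine le_antisymm (fun x hx => ?_) (le_inf le_sup_right fun c hc =>
    Subgroup.mem_centralizer_iff.mpr fun b hb => (opp_comm_B hS hA hB hC hD hDC hc hb).symm)
  obtain ⟨hxN, hxc⟩ := hx
  obtain ⟨a, ha, c, hc, rfl⟩ := opp_decomp hS hA hB hC hD hDC hxN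
  have ha1 : a = 1 := by
    refine eq_one_of_comm_all hS (opp_case hS hA hB hC hD hDC).1 ha fun b hb => ?_
    have h1 := Subgroup.mem_centralizer_iff.mp hxc b hb
    have h2 := opp_comm_B hS hA hB hC hD hDC hc hb
    apply mul_right_cancel (b := c)
    rw [mul_assoc a b c, ← h2, ← mul_assoc a c b, ← h1, mul_assoc b a c]
  rw [ha1, one_mul]; exact hc

theorem opp_cj_B {b : G} (hb : b ∈ B) : conjBy (A ⊔ ⁅A, B⁆) b = A ⊔ ⁅A, B⁆ := by
  have h : ∀ b ∈ B, conjBy (A ⊔ ⁅A, B⁆) b ≤ A ⊔ ⁅A, B⁆ := fun b hb => by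
    rw [cj_sup, sup_le_iff]
    refine ⟨cj_le_sup hS (opp_case hS hA hB hC hD hDC).1 hb, le_of_eq_of_le (cj_eq_self.mpr
      (Subgroup.centralizer_le_normalizer _ (Subgroup.mem_centralizer_iff.mpr fun k hk =>
        opp_comm_B hS hA hB hC hD hDC hk hb))) le_sup_right⟩
  refine le_antisymm (h b hb) ?_
  have h2 := cj_mono (h b⁻¹ (inv_mem hb)) b
  rwa [cj_cj, mul_inv_cancel, cj_one] at h2

theorem opp_cj_D {d : G} (hd : d ∈ D) : conjBy (A ⊔ ⁅A, B⁆) d = A ⊔ ⁅A, B⁆ := by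
  have h : ∀ d ∈ D, conjBy (A ⊔ ⁅A, B⁆) d ≤ A ⊔ ⁅A, B⁆ := fun d hd => by
    rw [cj_sup, sup_le_iff]
    refine ⟨le_of_eq_of_le (cj_eq_self.mpr (Subgroup.centralizer_le_normalizer _
      (Subgroup.mem_centralizer_iff.mpr fun a ha => opp_comm_D hS hA hB hC hD hDC ha hd))) le_sup_left, ?_⟩
    intro y hy
    rw [mem_cj] at hy
    have h1 := Subgroup.commutator_mem_commutator hd hy
    rw [hDC] at h1
    have e : y = ⁅d, d⁻¹ * y * d⁆ * (d⁻¹ * y * d) := by rw [← comm_mul_self]; group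
    rw [e]
    exact mul_mem (Subgroup.mem_sup_left h1) (Subgroup.mem_sup_right hy)
  refine le_antisymm (h d hd) ?_
  have h2 := cj_mono (h d⁻¹ (inv_mem hd)) d
  rwa [cj_cj, mul_inv_cancel, cj_one] at h2

theorem opp_cj {x : G} (hx : x ∈ B ⊔ D) : conjBy (A ⊔ ⁅A, B⁆) x = A ⊔ ⁅A, B⁆ := by
  have hle : B ⊔ D ≤ Subgroup.normalizer ((A ⊔ ⁅A, B⁆ : Subgroup G) : Set G) := sup_le
    (fun b hb => cj_eq_self.mp (opp_cj_B hS hA hB hC hD hDC hb))
    (fun d hd => cj_eq_self.mp (opp_cj_D hS hA hB hC hD hDC hd))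
  exact cj_eq_self.mpr (hle hx)

theorem fixed_conj {x : G} (hx : x ∈ B ⊔ D) :
    fixedIn (A ⊔ ⁅A, B⁆) (conjBy D x) = conjBy A x := by
  rw [fixedIn_cj _ _ (opp_cj hS hA hB hC hD hDC hx), fixed_D hS hA hB hC hD hDC]

/-- The two opposite members form a rank one pair. -/
theorem opp_pair : IsRankOnePair B D := by
  -- otherwise the conjugates of `D` under `B` commute with `D`
  by_contra hn
  have hcom : ∀ b ∈ B, ∀ d ∈ D, ∀ d' ∈ conjBy D b, d * d' = d' * d := by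
    intro b hb d hd d' hd'
    haveI := hS.commutative D hD
    rcases member_cases hS hB hD with h | h | h
    · rw [cj_eq_self.mpr (Subgroup.centralizer_le_normalizer _
        (Subgroup.mem_centralizer_iff.mpr fun e he => (h b hb e he).symm))] at hd'
      exact congrArg Subtype.val (mul_comm' (⟨d, hd⟩ : D) ⟨d', hd'⟩)
    · exact absurd h hn
    · exact commCase_cj hS hD h hb d hd d' hd'
  have hk := (opp_case hS hA hB hC hD hDC).1
  have hj := commCase_symm (opp_case hS hA hB hC hD hDC).2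
  -- every `b` fixes `A` pointwise
  apply hS.ne_bot _ hC
  rw [eq_bot_iff, Subgroup.commutator_le]
  intro y hy b hb
  rw [Subgroup.mem_bot]
  by_contra hyb
  -- the set of elements of `A` lying in the conjugate by `b`
  have hall : A ≤ conjBy A b := by
    have hc1 : ⁅y, b⁆⁻¹ ∈ ⁅A, B⁆ := inv_mem (Subgroup.commutator_mem_commutator hy hb)
    refine le_of_eq_of_le (b := Subgroup.closure ((fun d : G => ⁅y, b⁆⁻¹ * d * ⁅y, b⁆⁻¹⁻¹ * d⁻¹) '' (D : Set G))) ?_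
      ((Subgroup.closure_le _).mpr ?_)
    · rw [hj.2.2.1 _ hc1 (inv_ne_one.mpr hyb), Subgroup.commutator_comm, hDC]
    rintro _ ⟨d, hd, rfl⟩
    set c := ⁅y, b⁆⁻¹ with hcdef
    have hx : b * y * b⁻¹ = c * y := by simp only [hcdef, commutatorElement_def]; group
    have hmem : c * y ∈ conjBy A b := hx ▸ conj_mem_cj b hy
    have hfix := fixed_conj hS hA hB hC hD hDC (x := b) (Subgroup.mem_sup_left hb)
    have hdmem : d * (c * y) * d⁻¹ ∈ conjBy A b := by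
      rw [← hfix]
      refine ⟨?_, Subgroup.mem_centralizer_iff.mpr fun u hu => ?_⟩
      · have h1 := conj_mem_cj d (show c * y ∈ A ⊔ ⁅A, B⁆ from
          mul_mem (Subgroup.mem_sup_right hc1) (Subgroup.mem_sup_left hy))
        rwa [opp_cj_D hS hA hB hC hD hDC hd] at h1
      · have h1 : c * y ∈ fixedIn (A ⊔ ⁅A, B⁆) (conjBy D b) := hfix.symm ▸ hmem
        have h2 := Subgroup.mem_centralizer_iff.mp h1.2 u hu
        have h3 := hcom b hb d hd u hu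
        calc u * (d * (c * y) * d⁻¹) = (u * d) * (c * y) * d⁻¹ := by group
          _ = d * (u * (c * y)) * d⁻¹ := by rw [← h3]; group
          _ = d * (c * y) * (u * d⁻¹) := by rw [h2]; group
          _ = d * (c * y) * (d⁻¹ * u) := by rw [(show Commute d u from h3).inv_left.eq]
          _ = d * (c * y) * d⁻¹ * u := by group
    have e : c * d * c⁻¹ * d⁻¹ = (c * y) * (d * (c * y) * d⁻¹)⁻¹ := by
      have hdy : y * d = d * y := opp_comm_D hS hA hB hC hD hDC hy hd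
      calc c * d * c⁻¹ * d⁻¹ = c * (d * y) * y⁻¹ * c⁻¹ * d⁻¹ := by group
        _ = c * (y * d) * y⁻¹ * c⁻¹ * d⁻¹ := by rw [hdy]
        _ = _ := by group
    show c * d * c⁻¹ * d⁻¹ ∈ conjBy A b
    rw [e]
    exact mul_mem hmem (inv_mem hdmem)
  have h1 := hall hy
  rw [mem_cj] at h1
  apply hyb
  have h2 : ⁅y, b⁆ = y * (b * y * b⁻¹)⁻¹ := by simp only [commutatorElement_def]; group
  have h3 : b * y * b⁻¹ ∈ A := by
    have h4 := hall
    by_contra hne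
    have hcA : ⁅y⁻¹, b⁻¹⁆ = 1 := opp_inter hS hA hB hC hD hDC
      (by rw [show ⁅y⁻¹, b⁻¹⁆ = y⁻¹ * (b⁻¹ * y * b) by simp only [commutatorElement_def]; group]
          exact mul_mem (inv_mem hy) h1)
      (Subgroup.commutator_mem_commutator (inv_mem hy) (inv_mem hb))
    rw [commutatorElement_eq_one_iff_mul_comm] at hcA
    apply hne
    have h5 : b * y = y * b := by
      have := congrArg (fun z => (z)⁻¹) hcA
      simpa [mul_inv_rev] using this
    rwa [h5, mul_inv_cancel_right]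
  exact opp_inter hS hA hB hC hD hDC (by rw [h2]; exact mul_mem hy (inv_mem h3))
    (Subgroup.commutator_mem_commutator hy hb)

theorem unip_B_cases {U : Subgroup G} (hU : U ∈ unipotentSubgroups B D) :
    U = B ∨ ∃ b ∈ B, U = conjBy D b := unip_cases (opp_pair hS hA hB hC hD hDC) hU

theorem fixed_unip_mem {U : Subgroup G} (hU : U ∈ unipotentSubgroups B D) :
    fixedIn (A ⊔ ⁅A, B⁆) U ≠ ⊥ := by
  rcases unip_B_cases hS hA hB hC hD hDC hU with h | ⟨b, hb, h⟩ <;> rw [h]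
  · rw [fixed_B hS hA hB hC hD hDC]; exact hS.ne_bot _ hC
  · rw [fixed_conj hS hA hB hC hD hDC (Subgroup.mem_sup_left hb)]
    exact hS.ne_bot _ (hS.conj_mem A hA b)

theorem fixed_inter {U V : Subgroup G} (hU : U ∈ unipotentSubgroups B D) (hV : V ∈ unipotentSubgroups B D)
    (hne : U ≠ V) : fixedIn (A ⊔ ⁅A, B⁆) U ⊓ fixedIn (A ⊔ ⁅A, B⁆) V = ⊥ := by
  have h := opp_pair hS hA hB hC hD hDC
  obtain ⟨x, hx, rfl, rfl⟩ := exists_move_pair h hU hV hne
  rw [fixedIn_cj _ _ (opp_cj hS hA hB hC hD hDC hx), fixedIn_cj _ _ (opp_cj hS hA hB hC hD hDC hx),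
    fixed_B hS hA hB hC hD hDC, fixed_D hS hA hB hC hD hDC, eq_bot_iff]
  intro y hy
  rw [Subgroup.mem_bot]
  have h1 := opp_inter hS hA hB hC hD hDC (mem_cj.mp hy.2) (mem_cj.mp hy.1)
  calc y = x * (x⁻¹ * y * x) * x⁻¹ := by group
    _ = 1 := by rw [h1]; group

theorem orbit_eq_image :
    {E | ∃ x ∈ B ⊔ D, E = conjBy A x} = fixedIn (A ⊔ ⁅A, B⁆) '' unipotentSubgroups B D := by
  have h := opp_pair hS hA hB hC hD hDC
  ext E
  constructor
  · rintro ⟨x, hx, rfl⟩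
    exact ⟨_, cj_mem_unip (right_mem_unip h) hx, fixed_conj hS hA hB hC hD hDC hx⟩
  · rintro ⟨U, hU, rfl⟩
    rw [unip_symm h] at hU
    obtain ⟨x, hx, rfl⟩ := hU
    rw [sup_comm] at hx
    exact ⟨x, hx, fixed_conj hS hA hB hC hD hDC hx⟩

/-- An element of the rank one group centralizing its natural module is central in it. -/
theorem opp_central {x : G} (hx : x ∈ B ⊔ D) (hxc : ∀ n ∈ A ⊔ ⁅A, B⁆, x * n = n * x) {y : G} (hy : y ∈ B ⊔ D) :
    x * y = y * x := by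
  refine commute_of_fixes (opp_pair hS hA hB hC hD hDC) (fun U hU => ?_) hy
  by_contra hne
  have hint := fixed_inter hS hA hB hC hD hDC (cj_mem_unip hU hx) hU hne
  refine fixed_unip_mem hS hA hB hC hD hDC hU ?_
  have hfix : fixedIn (A ⊔ ⁅A, B⁆) (conjBy U x) = fixedIn (A ⊔ ⁅A, B⁆) U := by
    rw [fixedIn_cj _ _ (opp_cj hS hA hB hC hD hDC hx), cj_eq_self]
    exact Subgroup.centralizer_le_normalizer _ (Subgroup.mem_centralizer_iff.mpr fun z hz =>
      (hxc z ((show fixedIn (A ⊔ ⁅A, B⁆) U ≤ A ⊔ ⁅A, B⁆ from inf_le_left) hz)).symm)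
  rwa [hfix, inf_idem] at hint

/-- Opposite commutator partners form a special rank one pair. -/
theorem opp_special : IsSpecialRankOnePair D B := by
  have hp := opp_pair hS hA hB hC hD hDC
  refine ⟨pair_symm hp, fun a ha _ b hb _ e => ?_⟩
  set K := ⁅A, B⁆ with hKdef
  haveI := hS.commutative A hA
  haveI := hS.commutative K hC
  have hN : ∀ {u v : G}, u ∈ A ⊔ K → v ∈ A ⊔ K → u * v = v * u := fun hu hv =>
    comm_sup_abelian (A := A) (B := K) (fun u hu v hv => opp_comm hS hA hB hC hD hDC hu hv) hu hv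
  have hbK : ∀ k ∈ K, b * k = k * b := fun k hk => (opp_comm_B hS hA hB hC hD hDC hk hb).symm
  have haE : ∀ c ∈ A, a * c = c * a := fun c hc => (opp_comm_D hS hA hB hC hD hDC hc ha).symm
  have hal : ∀ k ∈ K, ⁅a, k⁆ ∈ A := fun k hk => by
    have := Subgroup.commutator_mem_commutator ha hk
    rwa [hKdef, hDC] at this
  have hbe : ∀ c ∈ A, ⁅b, c⁆ ∈ K := fun c hc => by
    rw [hKdef, Subgroup.commutator_comm]; exact Subgroup.commutator_mem_commutator hb hc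
  -- the two conjugates of the fixed subgroups agree
  have hEK : conjBy A b⁻¹ = conjBy K a⁻¹ := by
    rw [← fixed_conj hS hA hB hC hD hDC (x := b⁻¹) (Subgroup.mem_sup_left (inv_mem hb)), e,
      fixedIn_cj _ _ (opp_cj_D hS hA hB hC hD hDC (inv_mem ha)), fixed_B hS hA hB hC hD hDC]
  have hab : ∀ c ∈ A, ⁅a, ⁅b, c⁆⁆ = c := by
    intro c hc
    have h1 : b⁻¹ * c * b ∈ conjBy K a⁻¹ := by
      rw [← hEK]; simpa using conj_mem_cj b⁻¹ hc
    rw [mem_cj, inv_inv] at h1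
    have e1 : b⁻¹ * c * b = ⁅b, c⁆⁻¹ * c := by
      have h := hbK ⁅b, c⁆⁻¹ (inv_mem (hbe c hc))
      calc b⁻¹ * c * b = b⁻¹ * (⁅b, c⁆⁻¹ * (b * c * b⁻¹)) * b := by rw [commutatorElement_def]; group
        _ = b⁻¹ * (⁅b, c⁆⁻¹ * b) * c := by group
        _ = b⁻¹ * (b * ⁅b, c⁆⁻¹) * c := by rw [h]
        _ = _ := by group
    have e2 : a * (⁅b, c⁆⁻¹ * c) * a⁻¹ = (⁅a, ⁅b, c⁆⁆ * ⁅b, c⁆)⁻¹ * c := by
      rw [← comm_mul_self]
      calc a * (⁅b, c⁆⁻¹ * c) * a⁻¹ = (a * ⁅b, c⁆ * a⁻¹)⁻¹ * (a * c * a⁻¹) := by group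
        _ = _ := by rw [haE c hc, mul_inv_cancel_right]
    rw [e1, e2] at h1
    have h2 : ⁅a, ⁅b, c⁆⁆⁻¹ * c ∈ K := by
      have h3 := mul_mem (hbe c hc) h1
      have e3 : ⁅b, c⁆ * ((⁅a, ⁅b, c⁆⁆ * ⁅b, c⁆)⁻¹ * c) = ⁅a, ⁅b, c⁆⁆⁻¹ * c := by group
      rwa [e3] at h3
    exact inv_mul_eq_one.mp (opp_inter hS hA hB hC hD hDC (mul_mem (inv_mem (hal _ (hbe c hc))) hc) h2)
  have hba : ∀ k ∈ K, ⁅b, ⁅a, k⁆⁆ = k := by
    intro k hk
    have h1 : a⁻¹ * k * a ∈ conjBy A b⁻¹ := by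
      rw [hEK]; simpa using conj_mem_cj a⁻¹ hk
    rw [mem_cj, inv_inv] at h1
    have e1 : a⁻¹ * k * a = ⁅a, k⁆⁻¹ * k := by
      have h := haE ⁅a, k⁆⁻¹ (inv_mem (hal k hk))
      calc a⁻¹ * k * a = a⁻¹ * (⁅a, k⁆⁻¹ * (a * k * a⁻¹)) * a := by rw [commutatorElement_def]; group
        _ = a⁻¹ * (⁅a, k⁆⁻¹ * a) * k := by group
        _ = a⁻¹ * (a * ⁅a, k⁆⁻¹) * k := by rw [h]
        _ = _ := by group
    have e2 : b * (⁅a, k⁆⁻¹ * k) * b⁻¹ = (⁅b, ⁅a, k⁆⁆ * ⁅a, k⁆)⁻¹ * k := by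
      rw [← comm_mul_self]
      calc b * (⁅a, k⁆⁻¹ * k) * b⁻¹ = (b * ⁅a, k⁆ * b⁻¹)⁻¹ * (b * k * b⁻¹) := by group
        _ = _ := by rw [hbK k hk, mul_inv_cancel_right]
    rw [e1, e2] at h1
    have h2 : ⁅b, ⁅a, k⁆⁆⁻¹ * k ∈ A := by
      have h3 := mul_mem (hal k hk) h1
      have e3 : ⁅a, k⁆ * ((⁅b, ⁅a, k⁆⁆ * ⁅a, k⁆)⁻¹ * k) = ⁅b, ⁅a, k⁆⁆⁻¹ * k := by group
      rwa [e3] at h3
    exact inv_mul_eq_one.mp (opp_inter hS hA hB hC hD hDC h2 (mul_mem (inv_mem (hbe _ (hal k hk))) hk))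
  -- actions of the generators on the module
  have hbc : ∀ c ∈ A, b * c * b⁻¹ = ⁅b, c⁆ * c := fun c _ => comm_mul_self b c
  have hbic : ∀ c ∈ A, b⁻¹ * c * b = ⁅b, c⁆⁻¹ * c := fun c hc => by
    have h := hbK ⁅b, c⁆⁻¹ (inv_mem (hbe c hc))
    calc b⁻¹ * c * b = b⁻¹ * (⁅b, c⁆⁻¹ * (b * c * b⁻¹)) * b := by rw [commutatorElement_def]; group
      _ = b⁻¹ * (⁅b, c⁆⁻¹ * b) * c := by group
      _ = b⁻¹ * (b * ⁅b, c⁆⁻¹) * c := by rw [h]
      _ = _ := by group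
  have haik : ∀ k ∈ K, a⁻¹ * k * a = ⁅a, k⁆⁻¹ * k := fun k hk => by
    have h := haE ⁅a, k⁆⁻¹ (inv_mem (hal k hk))
    calc a⁻¹ * k * a = a⁻¹ * (⁅a, k⁆⁻¹ * (a * k * a⁻¹)) * a := by rw [commutatorElement_def]; group
      _ = a⁻¹ * (⁅a, k⁆⁻¹ * a) * k := by group
      _ = a⁻¹ * (a * ⁅a, k⁆⁻¹) * k := by rw [h]
      _ = _ := by group
  set x := b⁻¹ * a * b with hx
  set y := a⁻¹ * b⁻¹ * a with hy
  have mN : ∀ {c}, c ∈ A → c ∈ A ⊔ K := fun h => Subgroup.mem_sup_left h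
  have mK : ∀ {c}, c ∈ K → c ∈ A ⊔ K := fun h => Subgroup.mem_sup_right h
  have hE' : ∀ c ∈ A, x * c * x⁻¹ = y * c * y⁻¹ := by
    intro c hc
    set k := ⁅b, c⁆ with hk
    have hkK : k ∈ K := hbe c hc
    have hak : a * k * a⁻¹ = c * k := by rw [comm_mul_self, hk, hab c hc]
    have h1 : x * c * x⁻¹ = c * (k⁻¹ * c) := by
      calc x * c * x⁻¹ = b⁻¹ * (a * (b * c * b⁻¹) * a⁻¹) * b := by rw [hx]; group
        _ = b⁻¹ * ((a * k * a⁻¹) * (a * c * a⁻¹)) * b := by rw [hbc c hc, ← hk]; group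
        _ = (b⁻¹ * c * b) * (b⁻¹ * k * b) * (b⁻¹ * c * b) := by
            rw [hak, haE c hc, mul_inv_cancel_right]; group
        _ = (k⁻¹ * c) * k * (k⁻¹ * c) := by
            rw [hbic c hc, ← hk, mul_assoc b⁻¹ k b, ← hbK k hkK, inv_mul_cancel_left]
        _ = c * (k⁻¹ * c) := by rw [hN (mK (inv_mem hkK)) (mN hc)]; group
    have hak' : a⁻¹ * k * a = c⁻¹ * k := by rw [haik k hkK, hk, hab c hc]
    have h2 : y * c * y⁻¹ = c * (k⁻¹ * c) := by
      calc y * c * y⁻¹ = a⁻¹ * (b⁻¹ * (a * c * a⁻¹) * b) * a := by rw [hy]; group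
        _ = (a⁻¹ * k * a)⁻¹ * (a⁻¹ * c * a) := by rw [haE c hc, mul_inv_cancel_right, hbic c hc, ← hk]; group
        _ = (k⁻¹ * c) * c := by rw [hak', mul_assoc a⁻¹ c a, ← haE c hc, inv_mul_cancel_left]; group
        _ = c * (k⁻¹ * c) := hN (mul_mem (mK (inv_mem hkK)) (mN hc)) (mN hc)
    rw [h1, h2]
  have hK' : ∀ k ∈ K, x * k * x⁻¹ = y * k * y⁻¹ := by
    intro k hk
    set c := ⁅a, k⁆ with hc
    have hcA : c ∈ A := hal k hk
    have h0 : b⁻¹ * (c * k) * b = c := by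
      calc b⁻¹ * (c * k) * b = (b⁻¹ * c * b) * (b⁻¹ * k * b) := by group
        _ = (k⁻¹ * c) * k := by rw [hbic c hcA, hc, hba k hk, mul_assoc b⁻¹ k b, ← hbK k hk, inv_mul_cancel_left]
        _ = c := by rw [mul_assoc, hN (mN hcA) (mK hk), inv_mul_cancel_left]
    have h1 : x * k * x⁻¹ = c := by
      calc x * k * x⁻¹ = b⁻¹ * (a * (b * k * b⁻¹) * a⁻¹) * b := by rw [hx]; group
        _ = c := by rw [hbK k hk, mul_inv_cancel_right, comm_mul_self a k, ← hc, h0]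
    have h2 : y * k * y⁻¹ = c := by
      calc y * k * y⁻¹ = a⁻¹ * (b⁻¹ * (a * k * a⁻¹) * b) * a := by rw [hy]; group
        _ = c := by rw [comm_mul_self a k, ← hc, h0, mul_assoc, ← haE c hcA, inv_mul_cancel_left]
    rw [h1, h2]
  have hxU : x ∈ conjBy D b⁻¹ := by rw [hx]; simpa using conj_mem_cj b⁻¹ ha
  have hyU : y ∈ conjBy D b⁻¹ := by rw [e, hy]; simpa using conj_mem_cj a⁻¹ (inv_mem hb)
  have hzU : y⁻¹ * x ∈ conjBy D b⁻¹ := mul_mem (inv_mem hyU) hxU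
  have hsup : ∀ {U : Subgroup G}, U ≤ B ⊔ D → conjBy U b⁻¹ ≤ B ⊔ D := fun hU =>
    (cj_mono hU _).trans (cj_sup_self (Subgroup.mem_sup_left (inv_mem hb))).le
  have hz : ∀ n ∈ A ⊔ K, (y⁻¹ * x) * n = n * (y⁻¹ * x) := fun n hn => by
    refine commute_sup (fun c hc => ?_) (fun k hk => ?_) hn
    · calc (y⁻¹ * x) * c = y⁻¹ * (x * c * x⁻¹) * x := by group
        _ = c * (y⁻¹ * x) := by rw [hE' c hc]; group
    · calc (y⁻¹ * x) * k = y⁻¹ * (x * k * x⁻¹) * x := by group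
        _ = k * (y⁻¹ * x) := by rw [hK' k hk]; group
  have h1 : y⁻¹ * x = 1 := by
    refine eq_one_of_normalizes (pair_cj (pair_symm hp) b⁻¹) hzU (Subgroup.centralizer_le_normalizer _ ?_)
    exact Subgroup.mem_centralizer_iff.mpr fun v hv =>
      (opp_central hS hA hB hC hD hDC (hsup le_sup_right hzU) hz (hsup le_sup_left hv)).symm
  exact (inv_mul_eq_one.mp h1).symm

end CfsgLib.RootSub
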