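/-
The triangle lemma: a line, a rank one partner of one of its points and the two commutator cases they give.
-/
import Mathlib
import Cfsg.Prelude.Def_RootSubgroups
import Cfsg.Agent.Lib.RootSub.RankOne
import Cfsg.Agent.Lib.RootSub.RootSet
import Cfsg.Agent.Lib.RootSub.Lines
import Cfsg.Agent.Lib.RootSub.Opposite

set_option autoImplicit false
set_option linter.unusedSectionVars false

open Cfsg
open scoped commutatorElement

namespace CfsgLib.RootSub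

variable {G : Type*} [Group G] {S : Set (Subgroup G)}

theorem pair_not_commCase (hS : IsRootSubgroupSet S) {X P : Subgroup G} (hP : P ∈ S) (h : IsRankOnePair X P)
    (hk : RootCommutatorCase S X P) : False := by
  obtain ⟨x, hx, hx1⟩ := exists_ne_one h
  exact cj_not_commute hS hP h hx hx1 (commCase_cj hS hP hk hx)

theorem commCase_comm {X Y : Subgroup G} (h : RootCommutatorCase S X Y) {k z : G} (hk : k ∈ ⁅X, Y⁆)
    (hz : z ∈ X ⊔ Y) : k * z = z * k := h.2.1 k hk z hz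

/-- Let `C` have the rank one partner `Q`, let `A` commute with `C` and not form a rank one pair with `Q`, and
let the products of non-identity elements of `A` and `C` be root elements in members inside `A ⊔ C`. Then
`(A, Q)` and `(⁅A, Q⁆, C)` are in the commutator case and `⁅⁅A, Q⁆, C⁆ = A`. -/
theorem triangle (hS : IsRootSubgroupSet S) (hpart : ∀ Y ∈ S, ∃ P ∈ S, IsRankOnePair Y P)
    {A C Q : Subgroup G} (hA : A ∈ S) (hC : C ∈ S) (hQ : Q ∈ S) (hCQ : IsRankOnePair C Q)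
    (hAQ : ¬ IsRankOnePair A Q) (hAC : ∀ a ∈ A, ∀ c ∈ C, a * c = c * a)
    (hline : ∀ a ∈ A, ∀ c ∈ C, a ≠ 1 → c ≠ 1 → a * c ∈ rootElements S) :
    RootCommutatorCase S A Q ∧ RootCommutatorCase S ⁅A, Q⁆ C ∧ ⁅⁅A, Q⁆, C⁆ = A := by
  obtain ⟨c₀, hc₀, hc₀1⟩ := exists_ne_one hCQ
  obtain ⟨PA, hPA, hAPA⟩ := hpart A hA
  obtain ⟨a₀, ha₀, ha₀1⟩ := exists_ne_one hAPA
  have hCc : ∀ a ∈ A, ∀ {U : Subgroup G}, (∀ u ∈ U, a * u = u * a) →
      a ∈ Subgroup.centralizer ((C ⊔ U : Subgroup G) : Set G) := fun a ha U hU =>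
    Subgroup.mem_centralizer_iff.mpr fun y hy => (commute_sup (fun c hc => hAC a ha c hc) hU hy).symm
  -- `A` and `Q` do not commute
  have hk : RootCommutatorCase S A Q := by
    rcases member_cases hS hA hQ with h | h | h
    · exfalso
      obtain ⟨hne, E, hE, hmem⟩ := hline a₀ ha₀ c₀ hc₀ ha₀1 hc₀1
      exact central_translate hS hC ⟨hQ, hCQ⟩ (hCc a₀ ha₀ (h a₀ ha₀)) ha₀1 hc₀ hc₀1 ⟨hne, E, hE, hmem⟩
    · exact absurd h hAQ
    · exact h
  set X := ⁅A, Q⁆ with hXdef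
  have hX : X ∈ S := hk.1
  obtain ⟨PX, hPX, hXPX⟩ := hpart X hX
  obtain ⟨x₀, hx₀, hx₀1⟩ := exists_ne_one hXPX
  have hXQ : ∀ x ∈ X, ∀ q ∈ Q, x * q = q * x := fun x hx q hq => hk.2.1 x hx q (Subgroup.mem_sup_right hq)
  have hXA : ∀ x ∈ X, ∀ a ∈ A, x * a = a * x := fun x hx a ha => hk.2.1 x hx a (Subgroup.mem_sup_left ha)
  have hj : RootCommutatorCase S X C := by
    rcases member_cases hS hX hC with h | h | h
    · exfalso
      obtain ⟨q, hq, e⟩ := comm_eq hk ha₀ ha₀1 hx₀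
      have hq1 : q ≠ 1 := fun e' => hx₀1 (by rw [← e, e', commutatorElement_one_right])
      have hz : x₀ ∈ Subgroup.centralizer ((Q ⊔ C : Subgroup G) : Set G) :=
        Subgroup.mem_centralizer_iff.mpr fun y hy => (commute_sup (hXQ x₀ hx₀) (h x₀ hx₀) hy).symm
      refine central_translate hS hQ ⟨hC, pair_symm hCQ⟩ hz hx₀1 hq hq1 ⟨?_, conjBy Q a₀, hS.conj_mem Q hQ _, ?_⟩
      · rw [← e, ← comm_mul_self]
        exact fun e' => hq1 (conj_eq_one_iff.mp e')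
      · rw [← e, ← comm_mul_self]
        exact conj_mem_cj a₀ hq
    · exfalso
      obtain ⟨hne, E, hE, hmem⟩ := hline a₀ ha₀ c₀ hc₀ ha₀1 hc₀1
      have hz : a₀ ∈ Subgroup.centralizer ((C ⊔ X : Subgroup G) : Set G) :=
        hCc a₀ ha₀ (fun x hx => (hXA x hx a₀ ha₀).symm)
      exact central_translate hS hC ⟨hX, pair_symm h⟩ hz ha₀1 hc₀ hc₀1 ⟨hne, E, hE, hmem⟩
    · exact h
  set M := ⁅X, C⁆ with hMdef
  have hM : M ∈ S := hj.1
  obtain ⟨PM, hPM, hMPM⟩ := hpart M hM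
  have hMX : ∀ m ∈ M, ∀ x ∈ X, m * x = x * m := fun m hm x hx => hj.2.1 m hm x (Subgroup.mem_sup_left hx)
  have hMC : ∀ m ∈ M, ∀ c ∈ C, m * c = c * m := fun m hm c hc => hj.2.1 m hm c (Subgroup.mem_sup_right hc)
  haveI := hS.commutative C hC
  have hCC : ∀ c ∈ C, ∀ c' ∈ C, c * c' = c' * c := fun c hc c' hc' =>
    congrArg Subtype.val (mul_comm' (⟨c, hc⟩ : C) ⟨c', hc'⟩)
  -- the partner `q'` of `c`, moving `C` to the conjugate of `Q` under `c`
  have move : ∀ c ∈ C, c ≠ 1 → ∀ a ∈ A, a ≠ 1 → ∃ q' ∈ Q, q' ≠ 1 ∧ ∀ x ∈ X, ∃ m₁ ∈ M,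
      c * x * c⁻¹ = q' * m₁ * q'⁻¹ := by
    intro c hc hc1 a ha ha1
    obtain ⟨b, hb, hb1, e⟩ := hCQ.cond_left c⁻¹ (inv_mem hc) (inv_ne_one.mpr hc1)
    rw [inv_inv] at e
    refine ⟨b⁻¹, inv_mem hb, inv_ne_one.mpr hb1, fun x hx => ?_⟩
    obtain ⟨q, hq, eq⟩ := comm_eq hk ha ha1 hx
    have hy : c * q * c⁻¹ ∈ conjBy C b⁻¹ := e.symm ▸ conj_mem_cj c hq
    rw [mem_cj, inv_inv] at hy
    set c₁ := b * (c * q * c⁻¹) * b⁻¹ with hc₁
    set x' := ⁅a, b⁻¹⁆ with hx'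
    have hx'X : x' ∈ X := Subgroup.commutator_mem_commutator ha (inv_mem hb)
    refine ⟨⁅x', c₁⁆, Subgroup.commutator_mem_commutator hx'X hy, ?_⟩
    have h1 : c * x * c⁻¹ = ⁅a, b⁻¹ * c₁ * b⁻¹⁻¹⁆ := by
      have hac := hAC a ha c hc
      have hac' : c * a⁻¹ = a⁻¹ * c := ((show Commute a c from hac).inv_left).symm.eq
      rw [← eq, hc₁, commutatorElement_def, commutatorElement_def]
      calc c * (a * q * a⁻¹ * q⁻¹) * c⁻¹ = (c * a) * q * (c⁻¹ * (c * a⁻¹)) * q⁻¹ * c⁻¹ := by group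
        _ = (a * c) * q * (c⁻¹ * (a⁻¹ * c)) * q⁻¹ * c⁻¹ := by rw [← hac, hac']
        _ = _ := by group
    rw [h1]
    have hac₁ := hAC a ha c₁ hy
    have hxb : x' * b⁻¹ = b⁻¹ * x' := hXQ x' hx'X _ (inv_mem hb)
    have h2 : a * (b⁻¹ * c₁ * b⁻¹⁻¹) * a⁻¹ = x' * (b⁻¹ * c₁ * b⁻¹⁻¹) * x'⁻¹ := by
      calc a * (b⁻¹ * c₁ * b⁻¹⁻¹) * a⁻¹ = (a * b⁻¹ * a⁻¹) * (a * c₁ * a⁻¹) * (a * b⁻¹ * a⁻¹)⁻¹ := by group
        _ = (x' * b⁻¹) * c₁ * (x' * b⁻¹)⁻¹ := by rw [hac₁, mul_inv_cancel_right, comm_mul_self a b⁻¹]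
        _ = _ := by group
    calc ⁅a, b⁻¹ * c₁ * b⁻¹⁻¹⁆ = x' * (b⁻¹ * c₁ * b⁻¹⁻¹) * x'⁻¹ * (b⁻¹ * c₁ * b⁻¹⁻¹)⁻¹ := by
          rw [commutatorElement_def, h2]
      _ = (x' * b⁻¹) * c₁ * (x' * b⁻¹)⁻¹ * (b⁻¹ * c₁ * b⁻¹⁻¹)⁻¹ := by group
      _ = (b⁻¹ * x') * c₁ * (b⁻¹ * x')⁻¹ * (b⁻¹ * c₁ * b⁻¹⁻¹)⁻¹ := by rw [hxb]
      _ = b⁻¹ * ⁅x', c₁⁆ * b⁻¹⁻¹ := by rw [commutatorElement_def]; group
  obtain ⟨q₀, hq₀, hq₀1, hmv⟩ := move c₀ hc₀ hc₀1 a₀ ha₀ ha₀1
  have hjs := commCase_symm hj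
  have hi : RootCommutatorCase S M Q := by
    rcases member_cases hS hM hQ with h | h | h
    · exfalso
      refine hx₀1 (eq_one_of_comm_all hS hj hx₀ fun c hc => ?_)
      obtain ⟨m₁, hm₁, e⟩ := hmv x₀ hx₀
      rw [← h m₁ hm₁ q₀ hq₀, mul_inv_cancel_right] at e
      have hxm : x₀ = m₁ := by
        calc x₀ = c₀⁻¹ * (c₀ * x₀ * c₀⁻¹) * c₀ := by group
          _ = m₁ := by rw [e, mul_assoc, hMC m₁ hm₁ c₀ hc₀, inv_mul_cancel_left]
      rw [hxm]; exact hMC m₁ hm₁ c hc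
    · exfalso
      obtain ⟨x, hx, hxc⟩ : ∃ x ∈ X, ⁅c₀, x⁆ ≠ 1 := by
        by_contra hcon
        push Not at hcon
        exact hc₀1 (eq_one_of_comm_all hS hjs hc₀ fun x hx => commutatorElement_eq_one_iff_mul_comm.mp (hcon x hx))
      have hx1 : x ≠ 1 := fun e => hxc (by rw [e, commutatorElement_one_right])
      have hm : ⁅c₀, x⁆ ∈ M := by
        rw [hMdef, Subgroup.commutator_comm]; exact Subgroup.commutator_mem_commutator hc₀ hx
      have hz : x ∈ Subgroup.centralizer ((M ⊔ Q : Subgroup G) : Set G) :=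
        Subgroup.mem_centralizer_iff.mpr fun y hy =>
          (commute_sup (fun m hm => (hMX m hm x hx).symm) (hXQ x hx) hy).symm
      refine central_translate hS hM ⟨hQ, h⟩ hz hx1 hm hxc ⟨?_, conjBy X c₀, hS.conj_mem X hX _, ?_⟩
      · rw [← hMX _ hm x hx, ← comm_mul_self]
        exact fun e => hx1 (conj_eq_one_iff.mp e)
      · rw [← hMX _ hm x hx, ← comm_mul_self]
        exact conj_mem_cj c₀ hx
    · exact h
  -- the identity `⁅q', ⁅c, x⁆⁆ = x`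
  have ident : ∀ {c q' : G}, c ∈ C → q' ∈ Q → (∀ x ∈ X, ∃ m₁ ∈ M, c * x * c⁻¹ = q' * m₁ * q'⁻¹) →
      ∀ x ∈ X, q' * ⁅c, x⁆ * q'⁻¹ = ⁅c, x⁆ * x ∧ ⁅q', ⁅c, x⁆⁆ = x := by
    intro c q' hc hq' hmv x hx
    obtain ⟨m₁, hm₁, e⟩ := hmv x hx
    have hm : ⁅c, x⁆ ∈ M := by
      rw [hMdef, Subgroup.commutator_comm]; exact Subgroup.commutator_mem_commutator hc hx
    set m := ⁅c, x⁆ with hmdef
    set k := ⁅q', m₁⁆ with hkdef
    have hkK : k ∈ ⁅M, Q⁆ := by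
      rw [Subgroup.commutator_comm]; exact Subgroup.commutator_mem_commutator hq' hm₁
    have e' : m * x = k * m₁ := by rw [hmdef, hkdef, ← comm_mul_self, ← comm_mul_self]; exact e
    haveI := hS.commutative M hM
    have hd : m * m₁⁻¹ = k * x⁻¹ := by
      have h1 : x * m₁⁻¹ = m₁⁻¹ * x := (hMX m₁⁻¹ (inv_mem hm₁) x hx).symm
      calc m * m₁⁻¹ = (m * x) * (x⁻¹ * m₁⁻¹) := by group
        _ = k * m₁ * (x⁻¹ * m₁⁻¹) := by rw [e']
        _ = k * (m₁ * (x⁻¹ * m₁⁻¹)) := by group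
        _ = k * x⁻¹ := by rw [(show Commute x m₁⁻¹ from h1).inv_left.eq, mul_inv_cancel_left]
    have hone : m * m₁⁻¹ = 1 := by
      refine eq_one_of_comm_all hS hi (mul_mem hm (inv_mem hm₁)) fun q hq => ?_
      rw [hd]
      exact Commute.mul_left (nonpair_comm hS hM hQ (fun h => pair_not_commCase hS hQ h hi) hkK hq)
        ((show Commute x q from hXQ x hx q hq).inv_left)
    have hmm : m₁ = m := (mul_inv_eq_one.mp hone).symm
    have hkx : k = x := mul_inv_eq_one.mp (hd.symm.trans hone)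
    refine ⟨?_, ?_⟩
    · rw [← hmm, ← e, comm_mul_self, ← hmdef, hmm]
    · rw [← hmm]; exact hkx
  obtain ⟨hmx₀, hkx₀⟩ := ident hc₀ hq₀ hmv x₀ hx₀
  have hK : ⁅M, Q⁆ = X := by
    refine (eq_of_pair hS hPX hXPX hi.1 hx₀ hx₀1 ?_).symm
    rw [← hkx₀, Subgroup.commutator_comm]
    refine Subgroup.commutator_mem_commutator hq₀ ?_
    rw [hMdef, Subgroup.commutator_comm]; exact Subgroup.commutator_mem_commutator hc₀ hx₀
  -- the element `m⁻¹ a` centralizes the rank one group and translates a root element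
  refine ⟨hk, hj, ?_⟩
  obtain ⟨q', hq', hq'1, hmv'⟩ := move c₀ hc₀ hc₀1 a₀ ha₀ ha₀1
  set x := ⁅q', a₀⁆ with hxdef
  have hx : x ∈ X := by rw [hXdef, Subgroup.commutator_comm]; exact Subgroup.commutator_mem_commutator hq' ha₀
  obtain ⟨hmx, -⟩ := ident hc₀ hq' hmv' x hx
  set m := ⁅c₀, x⁆ with hmdef
  have hm : m ∈ M := by rw [hMdef, Subgroup.commutator_comm]; exact Subgroup.commutator_mem_commutator hc₀ hx
  set z := m⁻¹ * a₀ with hzdef
  have hzC : ∀ c ∈ C, z * c = c * z := fun c hc =>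
    Commute.mul_left ((show Commute m c from hMC m hm c hc).inv_left) (hAC a₀ ha₀ c hc)
  have hzq' : z * q' = q' * z := by
    have h1 : q' * a₀ * q'⁻¹ = x * a₀ := comm_mul_self q' a₀
    have h2 : q' * z * q'⁻¹ = z := by
      calc q' * z * q'⁻¹ = (q' * m * q'⁻¹)⁻¹ * (q' * a₀ * q'⁻¹) := by rw [hzdef]; group
        _ = (m * x)⁻¹ * (x * a₀) := by rw [hmx, h1]
        _ = x⁻¹ * (m⁻¹ * x) * a₀ := by group
        _ = x⁻¹ * (x * m⁻¹) * a₀ := by rw [hMX m⁻¹ (inv_mem hm) x hx]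
        _ = z := by rw [hzdef]; group
    calc z * q' = q' * z * q'⁻¹ * q' := by rw [h2]
      _ = q' * z := by group
  have hzQn : conjBy Q z = Q := by
    refine (eq_of_pair hS hC (pair_symm hCQ) (hS.conj_mem Q hQ z) hq' hq'1 ?_).symm
    rw [mem_cj, mul_assoc, ← hzq', inv_mul_cancel_left]
    exact hq'
  have hzQ : ∀ q ∈ Q, z * q = q * z := by
    intro q hq
    set k₁ := ⁅a₀, q⁆
    set k₂ := ⁅m⁻¹, q⁆
    have hk₁ : k₁ ∈ X := Subgroup.commutator_mem_commutator ha₀ hq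
    have hk₂ : k₂ ∈ X := hK ▸ Subgroup.commutator_mem_commutator (inv_mem hm) hq
    have e1 : z * q * z⁻¹ = k₁ * k₂ * q := by
      calc z * q * z⁻¹ = m⁻¹ * (a₀ * q * a₀⁻¹) * m⁻¹⁻¹ := by rw [hzdef]; group
        _ = m⁻¹ * (k₁ * q) * m⁻¹⁻¹ := by rw [comm_mul_self a₀ q]
        _ = (m⁻¹ * k₁) * q * m⁻¹⁻¹ := by group
        _ = (k₁ * m⁻¹) * q * m⁻¹⁻¹ := by rw [hMX m⁻¹ (inv_mem hm) k₁ hk₁]
        _ = k₁ * (m⁻¹ * q * m⁻¹⁻¹) := by group
        _ = k₁ * (k₂ * q) := by rw [comm_mul_self]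
        _ = _ := (mul_assoc _ _ _).symm
    have hkQ : k₁ * k₂ ∈ Q := by
      have h1 : z * q * z⁻¹ ∈ Q := hzQn ▸ conj_mem_cj z hq
      rw [e1] at h1
      simpa using mul_mem h1 (inv_mem hq)
    have hk1 : k₁ * k₂ = 1 := by
      by_contra hne
      have hXeq : Q = X := eq_of_pair hS hC (pair_symm hCQ) hX hkQ hne (mul_mem hk₁ hk₂)
      exact pair_not_commCase hS hC (hXeq ▸ pair_symm hCQ) hj
    calc z * q = z * q * z⁻¹ * z := by group
      _ = q * z := by rw [e1, hk1, one_mul]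
  have hz1 : z = 1 := by
    by_contra hz1
    obtain ⟨hne, E, hE, hmem⟩ := hline a₀ ha₀ c₀ hc₀ ha₀1 hc₀1
    have hEQ : IsRankOnePair E Q := by
      by_contra hn
      refine two_nonpair hS hQ hCQ hA hE hc₀ hc₀1 (inv_mem ha₀) hmem (by rw [inv_mul_cancel_left]) ?_ hn
      exact hAQ
    have hzA : ∀ a ∈ A, z * a = a * z := fun a ha => by
      haveI := hS.commutative A hA
      have h1 : m * a = a * m := by
        have h2 : M ≤ Subgroup.centralizer ({a} : Set G) := by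
          rw [hMdef, Subgroup.commutator_le]
          intro u hu v hv
          rw [Subgroup.mem_centralizer_singleton_iff, commutatorElement_def]
          have c1 : Commute u a := hXA u hu a ha
          have c2 : Commute v a := (hAC a ha v hv).symm
          exact ((c1.mul_left c2).mul_left c1.inv_left).mul_left c2.inv_left
        exact Subgroup.mem_centralizer_singleton_iff.mp (h2 hm)
      exact Commute.mul_left ((show Commute m a from h1).inv_left)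
        (congrArg Subtype.val (mul_comm' (⟨a₀, ha₀⟩ : A) ⟨a, ha⟩))
    have hzac : z * (a₀ * c₀) = a₀ * c₀ * z :=
      Commute.mul_right (hzA a₀ ha₀) (hzC c₀ hc₀)
    have hzEn : conjBy E z = E := by
      refine (eq_of_pair hS hQ hEQ (hS.conj_mem E hE z) hmem hne ?_).symm
      rw [mem_cj, mul_assoc, ← hzac, inv_mul_cancel_left]
      exact hmem
    have hzE : ∀ e ∈ E, z * e = e * z := by
      intro e he
      by_cases he1 : e = 1
      · rw [he1, mul_one, one_mul]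
      have hQz : conjBy Q z = Q := hzQn
      have he' : z * e * z⁻¹ ∈ E := hzEn ▸ conj_mem_cj z he
      obtain ⟨b, hb, -, eb⟩ := hEQ.cond_left e⁻¹ (inv_mem he) (inv_ne_one.mpr he1)
      rw [inv_inv] at eb
      have hfix : conjBy (conjBy Q e) z = conjBy Q e := by
        rw [← eb, cj_cj, show z * b⁻¹ = b⁻¹ * z from (show Commute z b from hzQ b hb).inv_right, ← cj_cj, hzEn]
      have hreg : conjBy Q (z * e * z⁻¹) = conjBy Q e := by
        rw [show z * e * z⁻¹ = z * (e * z⁻¹) from mul_assoc _ _ _, ← cj_cj, ← cj_cj Q z⁻¹ e,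
          show conjBy Q z⁻¹ = Q by rw [cj_eq_iff, inv_inv, hQz], hfix]
      have h3 := regular_unique hEQ he' he hreg
      calc z * e = z * e * z⁻¹ * z := by group
        _ = e * z := by rw [h3]
    have hcent : z⁻¹ ∈ Subgroup.centralizer ((E ⊔ Q : Subgroup G) : Set G) :=
      Subgroup.mem_centralizer_iff.mpr fun y hy => (Commute.inv_left (commute_sup hzE hzQ hy)).symm
    have e2 : z⁻¹ * (a₀ * c₀) = m * c₀ := by
      calc z⁻¹ * (a₀ * c₀) = a₀⁻¹ * (m * a₀) * c₀ := by rw [hzdef]; group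
        _ = m * c₀ := by
          have h := hzA a₀ ha₀
          have h1 : m * a₀ = a₀ * m := by
            calc m * a₀ = m * (z * a₀) * z⁻¹ * 1 := by rw [h]; group
              _ = a₀ * m := by rw [hzdef]; group
          rw [h1, inv_mul_cancel_left]
    obtain ⟨PC, hPC, hCPC⟩ := hpart C hC
    refine central_translate hS hE ⟨hQ, hEQ⟩ hcent (inv_ne_one.mpr hz1) hmem hne ⟨?_, ?_⟩
    · rw [e2]
      intro e
      refine hc₀1 (eq_one_of_comm_all hS hjs hc₀ fun u hu => ?_)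
      have hcm : c₀ = m⁻¹ := eq_inv_of_mul_eq_one_right e
      rw [hcm]
      exact hMX m⁻¹ (inv_mem hm) u hu
    · have hmem2 : c₀ * m ∈ C ⊔ ⁅C, X⁆ := by
        rw [Subgroup.commutator_comm C X, ← hMdef]
        exact mul_mem (Subgroup.mem_sup_left hc₀) (Subgroup.mem_sup_right hm)
      rw [e2, hMC m hm c₀ hc₀]
      rcases mem_sup_commutator hS hC hjs hmem2 with h | ⟨b, -, h⟩
      · exact ⟨⁅C, X⁆, hjs.1, h⟩
      · exact ⟨conjBy C b, hS.conj_mem C hC b, h⟩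
  have hma : m = a₀ := by
    have := hz1
    rw [hzdef, inv_mul_eq_one] at this
    exact this
  exact (eq_of_pair hS hPA hAPA hM ha₀ ha₀1 (hma ▸ hm)).symm

end CfsgLib.RootSub
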