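/-
Tools to check that an explicit family of subgroups is a set of root subgroups over a field.
-/
import Mathlib
import Cfsg.Prelude.Def_RootSubgroups
import Cfsg.Agent.Lib.RootSub.SL2RankOne
import Cfsg.Agent.Lib.RootSub.Triangle

set_option autoImplicit false

open Cfsg
open scoped commutatorElement

namespace CfsgLib.RootSub

variable {G : Type*} [Group G] {k : Type*} [Field k]

/-- The image of the pair of unitriangular subgroups under an injective homomorphism. -/
theorem pair_of_hom (φ : Matrix.SpecialLinearGroup (Fin 2) k →* G) (hφ : Function.Injective φ) :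
    IsRankOnePair ((upperUnipotentSL2 k).map φ) ((lowerUnipotentSL2 k).map φ) := by
  have key : ∀ (A B : Subgroup (Matrix.SpecialLinearGroup (Fin 2) k)), RankOneCondition A B →
      RankOneCondition (A.map φ) (B.map φ) := by
    rintro A B h _ ⟨a, ha, rfl⟩ ha1
    obtain ⟨b, hb, hb1, e⟩ := h a ha fun e => ha1 (by rw [e, map_one])
    refine ⟨φ b, ⟨b, hb, rfl⟩, fun e' => hb1 (hφ (e'.trans (map_one φ).symm)), ?_⟩
    have hmap : ∀ (X : Subgroup (Matrix.SpecialLinearGroup (Fin 2) k)) g,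
        conjBy (X.map φ) (φ g) = (conjBy X g).map φ := fun X g => by
      rw [conjBy, conjBy, Subgroup.map_map, Subgroup.map_map]
      congr 1
      ext x
      simp
    rw [← map_inv, ← map_inv, hmap, hmap, e]
  have hp := pair_symm (Unitri.pair (k := k))
  refine ⟨fun e => hp.ne (Subgroup.map_injective hφ e), ?_, ?_, key _ _ hp.cond_left, key _ _ hp.cond_right⟩
  · have := hp.nilpotent_left
    exact nilpotent_of_mulEquiv ((upperUnipotentSL2 k).equivMapOfInjective φ hφ)
  · have := hp.nilpotent_right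
    exact nilpotent_of_mulEquiv ((lowerUnipotentSL2 k).equivMapOfInjective φ hφ)

theorem psl2_of_hom (φ : Matrix.SpecialLinearGroup (Fin 2) k →* G) (hφ : Function.Injective φ) :
    IsPSL2PairOver k ((upperUnipotentSL2 k).map φ) ((lowerUnipotentSL2 k).map φ) := by
  refine ⟨φ, ?_, by rw [(MonoidHom.ker_eq_bot_iff φ).2 hφ]; exact bot_le, rfl, rfl⟩
  rw [← Subgroup.map_sup, sup_comm, Unitri.generate, MonoidHom.range_eq_map]

/-- The three possible positions of two members. -/
def Tri (k : Type*) [Field k] (S : Set (Subgroup G)) (A B : Subgroup G) : Prop :=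
  ⁅A, B⁆ = ⊥ ∨ (∃ φ : Matrix.SpecialLinearGroup (Fin 2) k →* G, Function.Injective φ ∧
    (upperUnipotentSL2 k).map φ = A ∧ (lowerUnipotentSL2 k).map φ = B) ∨ RootCommutatorCase S A B

theorem rootSet_of {S : Set (Subgroup G)} (hc : ∀ A ∈ S, IsMulCommutative A) (hn : ∀ A ∈ S, A ≠ ⊥)
    (hg : (⨆ A ∈ S, A) = ⊤) (hcj : ∀ A ∈ S, ∀ g : G, conjBy A g ∈ S)
    (ht : ∀ A ∈ S, ∀ B ∈ S, Tri k S A B) : IsRootSubgroupSet S :=
  ⟨hc, hn, hg, hcj, fun A hA B hB => by
    rcases ht A hA B hB with h | ⟨φ, hφ, rfl, rfl⟩ | h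
    exacts [Or.inl h, Or.inr (Or.inl (pair_of_hom φ hφ)), Or.inr (Or.inr h)]⟩

theorem commute_of_eq_bot {A B : Subgroup G} (h : ⁅A, B⁆ = ⊥) : ∀ a ∈ A, ∀ b ∈ B, a * b = b * a :=
  fun a ha b hb => by
    have h1 := Subgroup.commutator_mem_commutator ha hb
    rw [h, Subgroup.mem_bot, commutatorElement_eq_one_iff_mul_comm] at h1
    exact h1

theorem kRootSet_of {S : Set (Subgroup G)} (hS : IsRootSubgroupSet S)
    (ht : ∀ A ∈ S, ∀ B ∈ S, Tri k S A B) : IsKRootSubgroupSet k S := by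
  refine ⟨hS, fun A hA B hB hp => ?_⟩
  rcases ht A hA B hB with h | ⟨φ, hφ, rfl, rfl⟩ | h
  exacts [(not_centralizes hp (commute_of_eq_bot h)).elim, psl2_of_hom φ hφ,
    (pair_not_commCase hS hB hp h).elim]

theorem not_commCase_of_eq_bot {S : Set (Subgroup G)} (hS : IsRootSubgroupSet S) {A B : Subgroup G}
    (h : ⁅A, B⁆ = ⊥) : ¬ RootCommutatorCase S A B := fun hk => hS.ne_bot _ hk.1 h

theorem degenerate_of {S : Set (Subgroup G)} (hS : IsRootSubgroupSet S)
    (ht : ∀ A ∈ S, ∀ B ∈ S, ⁅A, B⁆ = ⊥ ∨ IsRankOnePair A B) : IsDegenerateRootSet S := fun A hA B hB hk => by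
  rcases ht A hA B hB with h | h
  exacts [not_commCase_of_eq_bot hS h hk, pair_not_commCase hS hB h hk]

end CfsgLib.RootSub
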