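/-
The transvection groups of a special linear group of dimension at least three form a non-degenerate
class of root subgroups.
-/
import Cfsg.Agent.Lib.RootSub.Concrete
import Cfsg.Agent.Lib.Classical.Transvection

set_option autoImplicit false

open Matrix Cfsg
open scoped commutatorElement

namespace CfsgLib.RootSub.TSL

variable {k : Type*} [Field k] {ι : Type*} [Fintype ι] [DecidableEq ι]

local notation "SLι" => Matrix.SpecialLinearGroup ι k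

/-- The transvection group of a point and a hyperplane through it. -/
def Root (v φ : ι → k) : Subgroup (Matrix.SpecialLinearGroup ι k) :=
  Subgroup.closure {g | ∃ c : k, (g : Matrix ι ι k) = 1 + c • vecMulVec v φ}

theorem det_tv {v φ : ι → k} (h : φ ⬝ᵥ v = 0) (c : k) : (1 + c • vecMulVec v φ).det = 1 := by
  rw [show c • vecMulVec v φ = replicateCol Unit (c • v) * replicateRow Unit φ by
    rw [← vecMulVec_eq, smul_vecMulVec], Matrix.det_one_add_replicateCol_mul_replicateRow,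
    dotProduct_smul, h, smul_zero, add_zero]

/-- The transvection with parameter `c`. -/
def tv {v φ : ι → k} (h : φ ⬝ᵥ v = 0) (c : k) : Matrix.SpecialLinearGroup ι k :=
  ⟨1 + c • vecMulVec v φ, det_tv h c⟩

theorem tv_val {v φ : ι → k} (h : φ ⬝ᵥ v = 0) (c : k) : (tv h c : Matrix ι ι k) = 1 + c • vecMulVec v φ := rfl

theorem vv_mul (v φ w ψ : ι → k) : vecMulVec v φ * vecMulVec w ψ = (φ ⬝ᵥ w) • vecMulVec v ψ := by
  rw [vecMulVec_mul_vecMulVec]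
  ext i j
  simp [vecMulVec_apply]
  ring

theorem vv_smul (v φ : ι → k) (a : k) : vecMulVec v (a • φ) = a • vecMulVec v φ := by
  ext i j
  simp [vecMulVec_apply]
  ring

theorem tv_zero {v φ : ι → k} (h : φ ⬝ᵥ v = 0) : tv h 0 = 1 := Subtype.ext (by
  rw [tv_val, zero_smul, add_zero]; rfl)

theorem tv_add {v φ : ι → k} (h : φ ⬝ᵥ v = 0) (c d : k) : tv h (c + d) = tv h c * tv h d := Subtype.ext (by
  rw [Matrix.SpecialLinearGroup.coe_mul, tv_val, tv_val, tv_val]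
  simp only [Matrix.add_mul, Matrix.mul_add, Matrix.one_mul, Matrix.mul_one, Matrix.smul_mul,
    Matrix.mul_smul, vv_mul, h, zero_smul, smul_zero, add_zero]
  module)

theorem mem_root {v φ : ι → k} (h : φ ⬝ᵥ v = 0) {g : SLι} : g ∈ Root v φ ↔ ∃ c, g = tv h c := by
  refine ⟨fun hg => ?_, fun ⟨c, e⟩ => Subgroup.subset_closure ⟨c, by rw [e, tv_val]⟩⟩
  induction hg using Subgroup.closure_induction with
  | mem x hx =>
    obtain ⟨c, e⟩ := hx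
    exact ⟨c, Subtype.ext e⟩
  | one => exact ⟨0, (tv_zero h).symm⟩
  | mul x y _ _ hx hy =>
    obtain ⟨a, rfl⟩ := hx
    obtain ⟨b, rfl⟩ := hy
    exact ⟨a + b, (tv_add h a b).symm⟩
  | inv x _ hx =>
    obtain ⟨a, rfl⟩ := hx
    exact ⟨-a, inv_eq_of_mul_eq_one_right (by rw [← tv_add h, add_neg_cancel, tv_zero h])⟩

theorem root_comm {v φ : ι → k} (h : φ ⬝ᵥ v = 0) : IsMulCommutative (Root v φ) := by
  refine ⟨⟨fun a b => Subtype.ext ?_⟩⟩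
  obtain ⟨x, hx⟩ := (mem_root h).1 a.2
  obtain ⟨y, hy⟩ := (mem_root h).1 b.2
  rw [Subgroup.coe_mul, Subgroup.coe_mul, hx, hy, ← tv_add, ← tv_add, add_comm]

theorem root_ne_bot {v φ : ι → k} (h : φ ⬝ᵥ v = 0) (hv : v ≠ 0) (hφ : φ ≠ 0) : Root v φ ≠ ⊥ := by
  intro e
  have h1 : tv h 1 ∈ (⊥ : Subgroup SLι) := e ▸ (mem_root h).2 ⟨1, rfl⟩
  have h2 : (1 + (1 : k) • vecMulVec v φ : Matrix ι ι k) = 1 :=
    congrArg (fun g : SLι => (g : Matrix ι ι k)) (Subgroup.mem_bot.1 h1)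
  simp only [one_smul, add_eq_left] at h2
  rcases vecMulVec_eq_zero.1 h2 with e' | e'
  exacts [hv e', hφ e']

/-- Conjugation moves the point and the hyperplane. -/
theorem cj_root (g : SLι) (v φ : ι → k) :
    conjBy (Root v φ) g = Root ((g : Matrix ι ι k) *ᵥ v) (φ ᵥ* ((g⁻¹ : SLι) : Matrix ι ι k)) := by
  rw [conjBy, Root, Root, MonoidHom.map_closure]
  congr 1
  have h1 : (g : Matrix ι ι k) * ((g⁻¹ : SLι) : Matrix ι ι k) = 1 := by
    rw [← Matrix.SpecialLinearGroup.coe_mul, mul_inv_cancel, Matrix.SpecialLinearGroup.coe_one]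
  have h2 : ((g⁻¹ : SLι) : Matrix ι ι k) * (g : Matrix ι ι k) = 1 := by
    rw [← Matrix.SpecialLinearGroup.coe_mul, inv_mul_cancel, Matrix.SpecialLinearGroup.coe_one]
  have key : ∀ c : k, (g : Matrix ι ι k) * (1 + c • vecMulVec v φ) * ((g⁻¹ : SLι) : Matrix ι ι k) =
      1 + c • vecMulVec ((g : Matrix ι ι k) *ᵥ v) (φ ᵥ* ((g⁻¹ : SLι) : Matrix ι ι k)) := fun c => by
    rw [Matrix.mul_add, Matrix.mul_one, Matrix.add_mul, h1, Matrix.mul_smul, Matrix.smul_mul,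
      mul_vecMulVec, vecMulVec_mul]
  ext y
  constructor
  · rintro ⟨x, ⟨c, hc⟩, rfl⟩
    refine ⟨c, ?_⟩
    show ((g * x * g⁻¹ : SLι) : Matrix ι ι k) = _
    rw [Matrix.SpecialLinearGroup.coe_mul, Matrix.SpecialLinearGroup.coe_mul, hc, key]
  · rintro ⟨c, hc⟩
    refine ⟨g⁻¹ * y * g, ⟨c, ?_⟩, by simp [mul_assoc]⟩
    rw [Matrix.SpecialLinearGroup.coe_mul, Matrix.SpecialLinearGroup.coe_mul, hc, ← key]
    simp only [← Matrix.mul_assoc, h2, Matrix.one_mul]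
    rw [Matrix.mul_assoc, h2, Matrix.mul_one]

theorem root_smul_left {v φ : ι → k} (h : φ ⬝ᵥ v = 0) {a : k} (ha : a ≠ 0) : Root (a • v) φ = Root v φ := by
  rw [Root, Root]
  congr 1
  ext g
  constructor <;> rintro ⟨c, hc⟩
  · exact ⟨c * a, by rw [hc, smul_vecMulVec, smul_smul]⟩
  · exact ⟨c * a⁻¹, by rw [hc, smul_vecMulVec, smul_smul, mul_assoc, inv_mul_cancel₀ ha, mul_one]⟩

theorem root_smul_right {v φ : ι → k} (h : φ ⬝ᵥ v = 0) {a : k} (ha : a ≠ 0) : Root v (a • φ) = Root v φ := by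
  rw [Root, Root]
  congr 1
  ext g
  constructor <;> rintro ⟨c, hc⟩
  · exact ⟨c * a, by rw [hc, vv_smul, smul_smul]⟩
  · exact ⟨c * a⁻¹, by rw [hc, vv_smul, smul_smul, mul_assoc, inv_mul_cancel₀ ha, mul_one]⟩

/-- The `SL₂` through two opposite transvection groups. -/
def sl2Hom (v w φ ψ : ι → k) (hφv : φ ⬝ᵥ v = 0) (hψw : ψ ⬝ᵥ w = 0) (hφw : φ ⬝ᵥ w = 1) (hψv : ψ ⬝ᵥ v = 1) :
    Matrix.SpecialLinearGroup (Fin 2) k →* Matrix.SpecialLinearGroup ι k :=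
  let V : Matrix ι (Fin 2) k := Matrix.of fun i j => (![v i, w i] : Fin 2 → k) j
  let W : Matrix (Fin 2) ι k := Matrix.of ![ψ, φ]
  have hWV : W * V = 1 := by
    ext i j
    fin_cases i <;> fin_cases j
    exacts [hψv, hψw, hφv, hφw]
  have hmul : ∀ A A' : Matrix (Fin 2) (Fin 2) k,
      (1 : Matrix ι ι k) + V * (A * A' - 1) * W = (1 + V * (A - 1) * W) * (1 + V * (A' - 1) * W) := fun A A' => by
    rw [Matrix.add_mul, Matrix.one_mul, Matrix.mul_add (V * (A - 1) * W), Matrix.mul_one]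
    rw [show V * (A - 1) * W * (V * (A' - 1) * W) = V * ((A - 1) * (W * V) * (A' - 1)) * W by
        simp only [Matrix.mul_assoc], hWV, Matrix.mul_one]
    simp only [add_assoc, ← Matrix.add_mul, ← Matrix.mul_add]
    congr 3
    rw [Matrix.sub_mul, Matrix.mul_sub, Matrix.one_mul, Matrix.mul_one]
    abel
  { toFun := fun N => ⟨1 + V * ((N : Matrix (Fin 2) (Fin 2) k) - 1) * W, by
      rw [Matrix.mul_assoc, Matrix.det_one_add_mul_comm, Matrix.mul_assoc, hWV, Matrix.mul_one,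
        add_sub_cancel, N.det_coe]⟩
    map_one' := Subtype.ext (by
      simp only [Matrix.SpecialLinearGroup.coe_one, sub_self, Matrix.mul_zero, Matrix.zero_mul, add_zero])
    map_mul' := fun N N' => Subtype.ext
      ((congrArg (fun A : Matrix (Fin 2) (Fin 2) k => (1 : Matrix ι ι k) + V * (A - 1) * W)
        (Matrix.SpecialLinearGroup.coe_mul N N')).trans (hmul _ _)) }

theorem sl2Hom_val {v w φ ψ : ι → k} (hφv : φ ⬝ᵥ v = 0) (hψw : ψ ⬝ᵥ w = 0) (hφw : φ ⬝ᵥ w = 1)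
    (hψv : ψ ⬝ᵥ v = 1) (N : Matrix.SpecialLinearGroup (Fin 2) k) :
    ((sl2Hom v w φ ψ hφv hψw hφw hψv N : SLι) : Matrix ι ι k) =
      1 + ((N.1 0 0 - 1) • vecMulVec v ψ + N.1 0 1 • vecMulVec v φ + N.1 1 0 • vecMulVec w ψ +
        (N.1 1 1 - 1) • vecMulVec w φ) := by
  ext i j
  show ((1 + Matrix.of (fun i j => (![v i, w i] : Fin 2 → k) j) * ((N : Matrix (Fin 2) (Fin 2) k) - 1) *
    Matrix.of ![ψ, φ] : Matrix ι ι k)) i j = _
  simp [Matrix.mul_apply, Fin.sum_univ_two, vecMulVec_apply]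
  ring

theorem sl2Hom_injective {v w φ ψ : ι → k} (hφv : φ ⬝ᵥ v = 0) (hψw : ψ ⬝ᵥ w = 0) (hφw : φ ⬝ᵥ w = 1)
    (hψv : ψ ⬝ᵥ v = 1) : Function.Injective (sl2Hom v w φ ψ hφv hψw hφw hψv) := by
  intro N N' e
  have e' : ((sl2Hom v w φ ψ hφv hψw hφw hψv N : SLι) : Matrix ι ι k) =
      (sl2Hom v w φ ψ hφv hψw hφw hψv N' : SLι) := by rw [e]
  rw [sl2Hom_val, sl2Hom_val] at e'
  have hv := congrArg (fun M => ψ ⬝ᵥ (M *ᵥ v)) e'
  have hv' := congrArg (fun M => φ ⬝ᵥ (M *ᵥ v)) e'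
  have hw := congrArg (fun M => ψ ⬝ᵥ (M *ᵥ w)) e'
  have hw' := congrArg (fun M => φ ⬝ᵥ (M *ᵥ w)) e'
  simp [add_mulVec, smul_mulVec, vecMulVec_mulVec, dotProduct_add, dotProduct_smul, hφv, hψw, hφw, hψv]
    at hv hv' hw hw'
  ext i j
  fin_cases i <;> fin_cases j
  exacts [hv, hw, hv', hw']

theorem sl2Hom_upper {v w φ ψ : ι → k} (hφv : φ ⬝ᵥ v = 0) (hψw : ψ ⬝ᵥ w = 0) (hφw : φ ⬝ᵥ w = 1)
    (hψv : ψ ⬝ᵥ v = 1) : (upperUnipotentSL2 k).map (sl2Hom v w φ ψ hφv hψw hφw hψv) = Root v φ := by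
  have key : ∀ c, sl2Hom v w φ ψ hφv hψw hφw hψv (Unitri.upm c) = tv hφv c := fun c => Subtype.ext (by
    show ((sl2Hom v w φ ψ hφv hψw hφw hψv (Unitri.upm c) : SLι) : Matrix ι ι k) = _
    rw [sl2Hom_val, tv_val]
    simp [Unitri.upm_coe])
  ext g
  constructor
  · rintro ⟨N, hN, rfl⟩
    obtain ⟨c, rfl⟩ := Unitri.mem_upper.1 hN
    exact (mem_root hφv).2 ⟨c, key c⟩
  · intro hg
    obtain ⟨c, rfl⟩ := (mem_root hφv).1 hg
    exact ⟨_, Unitri.mem_upper.2 ⟨c, rfl⟩, key c⟩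

theorem sl2Hom_lower {v w φ ψ : ι → k} (hφv : φ ⬝ᵥ v = 0) (hψw : ψ ⬝ᵥ w = 0) (hφw : φ ⬝ᵥ w = 1)
    (hψv : ψ ⬝ᵥ v = 1) : (lowerUnipotentSL2 k).map (sl2Hom v w φ ψ hφv hψw hφw hψv) = Root w ψ := by
  have key : ∀ c, sl2Hom v w φ ψ hφv hψw hφw hψv (Unitri.lom c) = tv hψw c := fun c => Subtype.ext (by
    show ((sl2Hom v w φ ψ hφv hψw hφw hψv (Unitri.lom c) : SLι) : Matrix ι ι k) = _
    rw [sl2Hom_val, tv_val]
    simp [Unitri.lom_coe])
  ext g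
  constructor
  · rintro ⟨N, hN, rfl⟩
    obtain ⟨c, rfl⟩ := Unitri.mem_lower.1 hN
    exact (mem_root hψw).2 ⟨c, key c⟩
  · intro hg
    obtain ⟨c, rfl⟩ := (mem_root hψw).1 hg
    exact ⟨_, Unitri.mem_lower.2 ⟨c, rfl⟩, key c⟩

/-- All transvection groups. -/
def Fam (k : Type*) [Field k] (ι : Type*) [Fintype ι] [DecidableEq ι] :
    Set (Subgroup (Matrix.SpecialLinearGroup ι k)) :=
  {A | ∃ v φ, v ≠ 0 ∧ φ ≠ 0 ∧ φ ⬝ᵥ v = 0 ∧ A = Root v φ}

theorem root_comm_bot {v φ w ψ : ι → k} (hv : φ ⬝ᵥ v = 0) (hw : ψ ⬝ᵥ w = 0) (h1 : φ ⬝ᵥ w = 0)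
    (h2 : ψ ⬝ᵥ v = 0) : ⁅Root v φ, Root w ψ⁆ = ⊥ := by
  rw [eq_bot_iff, Subgroup.commutator_le]
  intro a ha b hb
  obtain ⟨x, rfl⟩ := (mem_root hv).1 ha
  obtain ⟨y, rfl⟩ := (mem_root hw).1 hb
  rw [Subgroup.mem_bot, commutatorElement_eq_one_iff_mul_comm]
  refine Subtype.ext ?_
  rw [Matrix.SpecialLinearGroup.coe_mul, Matrix.SpecialLinearGroup.coe_mul, tv_val, tv_val]
  simp only [Matrix.add_mul, Matrix.mul_add, Matrix.one_mul, Matrix.mul_one, Matrix.smul_mul,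
    Matrix.mul_smul, vv_mul, h1, h2, zero_smul, smul_zero, add_zero]
  abel

theorem commCase {v φ w ψ : ι → k} (hv : φ ⬝ᵥ v = 0) (hw : ψ ⬝ᵥ w = 0) (h1 : φ ⬝ᵥ w = 0)
    (h2 : ψ ⬝ᵥ v ≠ 0) (hφne : φ ≠ 0) (hwne : w ≠ 0) :
    RootCommutatorCase (Fam k ι) (Root v φ) (Root w ψ) ∧ ⁅Root v φ, Root w ψ⁆ = Root w φ := by
  have key : ∀ x y, ⁅tv hv x, tv hw y⁆ = tv h1 (-(x * y * (ψ ⬝ᵥ v))) := fun x y => by
    rw [commutatorElement_def, mul_inv_eq_iff_eq_mul, mul_inv_eq_iff_eq_mul]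
    refine Subtype.ext ?_
    simp only [Matrix.SpecialLinearGroup.coe_mul, tv_val, Matrix.add_mul, Matrix.mul_add, Matrix.one_mul,
      Matrix.mul_one, Matrix.smul_mul, Matrix.mul_smul, vv_mul, h1, hv, hw, zero_smul, smul_zero,
      add_zero, smul_add, smul_smul, mul_zero, zero_mul]
    module
  have heq : ⁅Root v φ, Root w ψ⁆ = Root w φ := by
    refine le_antisymm (Subgroup.commutator_le.2 fun a ha b hb => ?_) fun g hg => ?_
    · obtain ⟨x, rfl⟩ := (mem_root hv).1 ha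
      obtain ⟨y, rfl⟩ := (mem_root hw).1 hb
      exact (mem_root h1).2 ⟨_, key x y⟩
    · obtain ⟨c, rfl⟩ := (mem_root h1).1 hg
      have := Subgroup.commutator_mem_commutator ((mem_root hv).2 ⟨1, rfl⟩)
        ((mem_root hw).2 ⟨-(c / (ψ ⬝ᵥ v)), rfl⟩)
      rwa [key, show -(1 * -(c / (ψ ⬝ᵥ v)) * (ψ ⬝ᵥ v)) = c by field_simp] at this
  have hφ0 : φ ≠ 0 → w ≠ 0 → ⁅Root v φ, Root w ψ⁆ ∈ Fam k ι := fun h h' => ⟨w, φ, h', h, h1, heq⟩
  refine ⟨⟨?_, ?_, ?_, ?_⟩, heq⟩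
  · exact hφ0 hφne hwne
  · intro c hc y hy
    rw [heq] at hc
    obtain ⟨z, rfl⟩ := (mem_root h1).1 hc
    refine commute_sup (fun a ha => ?_) (fun b hb => ?_) hy
    · obtain ⟨x, rfl⟩ := (mem_root hv).1 ha
      refine Subtype.ext ?_
      simp only [Matrix.SpecialLinearGroup.coe_mul, tv_val, Matrix.add_mul, Matrix.mul_add, Matrix.one_mul,
        Matrix.mul_one, Matrix.smul_mul, Matrix.mul_smul, vv_mul, h1, hv, zero_smul, smul_zero, add_zero]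
      abel
    · obtain ⟨x, rfl⟩ := (mem_root hw).1 hb
      refine Subtype.ext ?_
      simp only [Matrix.SpecialLinearGroup.coe_mul, tv_val, Matrix.add_mul, Matrix.mul_add, Matrix.one_mul,
        Matrix.mul_one, Matrix.smul_mul, Matrix.mul_smul, vv_mul, h1, hw, zero_smul, smul_zero, add_zero]
      abel
  · intro a ha ha1
    obtain ⟨x, rfl⟩ := (mem_root hv).1 ha
    have hx : x ≠ 0 := fun e => ha1 (e ▸ tv_zero hv)
    refine le_antisymm ((Subgroup.closure_le _).2 ?_) fun g hg => ?_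
    · rintro _ ⟨b, hb, rfl⟩
      exact Subgroup.commutator_mem_commutator ha hb
    · rw [heq] at hg
      obtain ⟨c, rfl⟩ := (mem_root h1).1 hg
      refine Subgroup.subset_closure ⟨tv hw (-(c / (x * (ψ ⬝ᵥ v)))), (mem_root hw).2 ⟨_, rfl⟩, ?_⟩
      refine (key x _).trans ?_
      congr 1
      field_simp
  · intro b hb hb1
    obtain ⟨y, rfl⟩ := (mem_root hw).1 hb
    have hy : y ≠ 0 := fun e => hb1 (e ▸ tv_zero hw)
    refine le_antisymm ((Subgroup.closure_le _).2 ?_) fun g hg => ?_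
    · rintro _ ⟨a, ha, rfl⟩
      exact Subgroup.commutator_mem_commutator ha hb
    · rw [heq] at hg
      obtain ⟨c, rfl⟩ := (mem_root h1).1 hg
      refine Subgroup.subset_closure ⟨tv hv (-(c / (y * (ψ ⬝ᵥ v)))), (mem_root hv).2 ⟨_, rfl⟩, ?_⟩
      refine (key _ y).trans ?_
      congr 1
      field_simp

theorem tri {A B : Subgroup SLι} (hA : A ∈ Fam k ι) (hB : B ∈ Fam k ι) : Tri k (Fam k ι) A B := by
  obtain ⟨v, φ, hv0, hφ0, hv, rfl⟩ := hA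
  obtain ⟨w, ψ, hw0, hψ0, hw, rfl⟩ := hB
  by_cases h1 : φ ⬝ᵥ w = 0 <;> by_cases h2 : ψ ⬝ᵥ v = 0
  · exact Or.inl (root_comm_bot hv hw h1 h2)
  · exact Or.inr (Or.inr (commCase hv hw h1 h2 hφ0 hw0).1)
  · exact Or.inr (Or.inr (commCase_symm (commCase hw hv h2 h1 hψ0 hv0).1))
  · refine Or.inr (Or.inl ?_)
    have hv' : ((ψ ⬝ᵥ v)⁻¹ • ψ) ⬝ᵥ v = 1 := by rw [smul_dotProduct, smul_eq_mul, inv_mul_cancel₀ h2]
    have hw' : φ ⬝ᵥ ((φ ⬝ᵥ w)⁻¹ • w) = 1 := by rw [dotProduct_smul, smul_eq_mul, inv_mul_cancel₀ h1]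
    have hww : ((ψ ⬝ᵥ v)⁻¹ • ψ) ⬝ᵥ ((φ ⬝ᵥ w)⁻¹ • w) = 0 := by
      rw [smul_dotProduct, dotProduct_smul, hw, smul_zero, smul_zero]
    refine ⟨sl2Hom v _ φ _ hv hww hw' hv', sl2Hom_injective hv hww hw' hv', sl2Hom_upper hv hww hw' hv', ?_⟩
    rw [sl2Hom_lower hv hww hw' hv', root_smul_left (by rw [smul_dotProduct, hw, smul_zero]) (inv_ne_zero h1),
      root_smul_right hw (inv_ne_zero h2)]

theorem iSup_fam [Nontrivial ι] : (⨆ A ∈ Fam k ι, A) = ⊤ := by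
  refine Classical.eq_top_of_transvection_mem _ fun i j hij c => ?_
  have h : (Pi.single j (1 : k) : ι → k) ⬝ᵥ Pi.single i 1 = 0 := by
    rw [dotProduct_single, Pi.single_eq_of_ne hij, zero_mul]
  refine Subgroup.mem_iSup_of_mem (Root (Pi.single i 1) (Pi.single j 1))
    (Subgroup.mem_iSup_of_mem ⟨_, _, by simp, by simp, h, rfl⟩ ((mem_root h).2 ⟨c, Subtype.ext ?_⟩))
  show Matrix.transvection i j c = _
  rw [tv_val, Matrix.transvection]
  congr 1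
  ext a b
  simp [vecMulVec_apply, Matrix.single_apply, Pi.single_apply, eq_comm]
  split_ifs <;> first | rfl | tauto

theorem fam_rootSet [Nontrivial ι] : IsRootSubgroupSet (Fam k ι) := by
  refine rootSet_of (k := k) ?_ ?_ iSup_fam ?_ fun A hA B hB => tri hA hB
  · rintro A ⟨v, φ, -, -, h, rfl⟩
    exact root_comm h
  · rintro A ⟨v, φ, hv, hφ, h, rfl⟩
    exact root_ne_bot h hv hφ
  · rintro A ⟨v, φ, hv, hφ, h, rfl⟩ g
    refine ⟨_, _, fun e => hv ?_, fun e => hφ ?_, ?_, cj_root g v φ⟩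
    · have := congrArg (fun x => ((g⁻¹ : SLι) : Matrix ι ι k) *ᵥ x) e
      simp only [mulVec_mulVec, ← Matrix.SpecialLinearGroup.coe_mul, inv_mul_cancel,
        Matrix.SpecialLinearGroup.coe_one, one_mulVec, mulVec_zero] at this
      exact this
    · have := congrArg (fun x => x ᵥ* (g : Matrix ι ι k)) e
      simp only [vecMul_vecMul, ← Matrix.SpecialLinearGroup.coe_mul, inv_mul_cancel,
        Matrix.SpecialLinearGroup.coe_one, vecMul_one, zero_vecMul] at this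
      exact this
    · rw [← dotProduct_mulVec, mulVec_mulVec, ← Matrix.SpecialLinearGroup.coe_mul, inv_mul_cancel,
        Matrix.SpecialLinearGroup.coe_one, one_mulVec, h]

/-- A functional non-zero on two vectors outside a point. -/
theorem exists_dual_two {w v v' : ι → k} (hv : v ∉ Submodule.span k {w}) (hv' : v' ∉ Submodule.span k {w}) :
    ∃ ψ : ι → k, ψ ⬝ᵥ w = 0 ∧ ψ ⬝ᵥ v ≠ 0 ∧ ψ ⬝ᵥ v' ≠ 0 := by
  have key : ∀ x, x ∉ Submodule.span k {w} → ∃ ψ : ι → k, ψ ⬝ᵥ w = 0 ∧ ψ ⬝ᵥ x ≠ 0 := fun x hx => by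
    obtain ⟨f, hf, hfw⟩ := Submodule.exists_dual_map_eq_bot_of_notMem hx inferInstance
    refine ⟨(dotProductEquiv k ι).symm f, ?_, ?_⟩
    · have hw : f w = 0 := by
        have h : f w ∈ (Submodule.span k {w}).map f := ⟨w, Submodule.mem_span_singleton_self w, rfl⟩
        rwa [hfw, Submodule.mem_bot] at h
      rw [← dotProductEquiv_apply_apply, LinearEquiv.apply_symm_apply, hw]
    · rwa [← dotProductEquiv_apply_apply, LinearEquiv.apply_symm_apply]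
  obtain ⟨ψ, hψw, hψv⟩ := key v hv
  obtain ⟨χ, hχw, hχv⟩ := key v' hv'
  by_cases h1 : ψ ⬝ᵥ v' = 0
  · by_cases h2 : χ ⬝ᵥ v = 0
    · exact ⟨ψ + χ, by rw [add_dotProduct, hψw, hχw, add_zero],
        by rwa [add_dotProduct, h2, add_zero], by rwa [add_dotProduct, h1, zero_add]⟩
    · exact ⟨χ, hχw, h2, hχv⟩
  · exact ⟨ψ, hψw, hψv, h1⟩

/-- A vector on which two functionals do not vanish. -/
theorem exists_vec_two {φ φ' : ι → k} (h : φ ≠ 0) (h' : φ' ≠ 0) : ∃ w : ι → k, φ ⬝ᵥ w ≠ 0 ∧ φ' ⬝ᵥ w ≠ 0 := by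
  obtain ⟨i, hi⟩ := Function.ne_iff.1 h
  obtain ⟨j, hj⟩ := Function.ne_iff.1 h'
  by_cases h1 : φ' i = 0
  · by_cases h2 : φ j = 0
    · exact ⟨Pi.single i 1 + Pi.single j 1, by simpa [dotProduct_add, h2] using hi,
        by simpa [dotProduct_add, h1] using hj⟩
    · exact ⟨Pi.single j 1, by simpa using h2, by simpa using hj⟩
  · exact ⟨Pi.single i 1, by simpa using hi, by simpa using h1⟩

theorem adj_of {v φ w ψ : ι → k} (hv : φ ⬝ᵥ v = 0) (hw : ψ ⬝ᵥ w = 0) (h1 : φ ⬝ᵥ w ≠ 0) (h2 : ψ ⬝ᵥ v ≠ 0) :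
    FAdj (Fam k ι) (Root v φ) (Root w ψ) := by
  have hA : Root v φ ∈ Fam k ι := ⟨v, φ, fun e => h2 (by rw [e, dotProduct_zero]),
    fun e => h1 (by rw [e, zero_dotProduct]), hv, rfl⟩
  have hB : Root w ψ ∈ Fam k ι := ⟨w, ψ, fun e => h1 (by rw [e, dotProduct_zero]),
    fun e => h2 (by rw [e, zero_dotProduct]), hw, rfl⟩
  refine ⟨hA, hB, ?_⟩
  have hv' : ((ψ ⬝ᵥ v)⁻¹ • ψ) ⬝ᵥ v = 1 := by rw [smul_dotProduct, smul_eq_mul, inv_mul_cancel₀ h2]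
  have hw' : φ ⬝ᵥ ((φ ⬝ᵥ w)⁻¹ • w) = 1 := by rw [dotProduct_smul, smul_eq_mul, inv_mul_cancel₀ h1]
  have hww : ((ψ ⬝ᵥ v)⁻¹ • ψ) ⬝ᵥ ((φ ⬝ᵥ w)⁻¹ • w) = 0 := by
    rw [smul_dotProduct, dotProduct_smul, hw, smul_zero, smul_zero]
  have := pair_of_hom _ (sl2Hom_injective hv hww hw' hv')
  rwa [sl2Hom_upper hv hww hw' hv', sl2Hom_lower hv hww hw' hv',
    root_smul_left (by rw [smul_dotProduct, hw, smul_zero]) (inv_ne_zero h1),
    root_smul_right hw (inv_ne_zero h2)] at this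

theorem connected : IsConnectedFamily (FAdj (Fam k ι)) (Fam k ι) := by
  rintro A ⟨v, φ, hv0, hφ0, hv, rfl⟩ B ⟨v', φ', hv'0, hφ'0, hv', rfl⟩
  obtain ⟨w, hw, hw'⟩ := exists_vec_two hφ0 hφ'0
  have key : ∀ x χ : ι → k, x ≠ 0 → χ ⬝ᵥ x = 0 → χ ⬝ᵥ w ≠ 0 → x ∉ Submodule.span k {w} := by
    intro x χ hx hχ hχw e
    obtain ⟨c, rfl⟩ := Submodule.mem_span_singleton.1 e
    rw [dotProduct_smul, smul_eq_mul] at hχ
    exact hx (by rw [(mul_eq_zero.1 hχ).resolve_right hχw, zero_smul])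
  obtain ⟨ψ, hψw, hψv, hψv'⟩ := exists_dual_two (key v φ hv0 hv hw) (key v' φ' hv'0 hv' hw')
  exact .tail (.single (adj_of hv hψw hw hψv))
    (adj_of (v := w) (φ := ψ) hψw hv' hψv' hw')

/-- One step of the transitivity: change the point. -/
theorem move_point {v v' φ : ι → k} (h : φ ⬝ᵥ v = 0) (h' : φ ⬝ᵥ v' = 0) (hv : v ≠ 0)
    (hv' : v' ∉ Submodule.span k {v}) : ∃ g : SLι, conjBy (Root v φ) g = Root v' φ := by
  obtain ⟨ψ, hψd, hψv, -⟩ : ∃ ψ : ι → k, ψ ⬝ᵥ (v' - v) = 0 ∧ ψ ⬝ᵥ v ≠ 0 ∧ ψ ⬝ᵥ v ≠ 0 :=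
    exists_dual_two (by
      intro e
      obtain ⟨c, hc⟩ := Submodule.mem_span_singleton.1 e
      by_cases hc0 : c = 0
      · exact hv (by rw [← hc, hc0, zero_smul])
      · refine hv' (Submodule.mem_span_singleton.2 ⟨c⁻¹ + 1, ?_⟩)
        have : v' - v = c⁻¹ • v := by
          conv_rhs => rw [← hc]
          rw [smul_smul, inv_mul_cancel₀ hc0, one_smul]
        rw [add_smul, one_smul, ← this, sub_add_cancel]) (by
      intro e
      obtain ⟨c, hc⟩ := Submodule.mem_span_singleton.1 e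
      by_cases hc0 : c = 0
      · exact hv (by rw [← hc, hc0, zero_smul])
      · refine hv' (Submodule.mem_span_singleton.2 ⟨c⁻¹ + 1, ?_⟩)
        have : v' - v = c⁻¹ • v := by
          conv_rhs => rw [← hc]
          rw [smul_smul, inv_mul_cancel₀ hc0, one_smul]
        rw [add_smul, one_smul, ← this, sub_add_cancel])
  have hd : ((ψ ⬝ᵥ v)⁻¹ • ψ) ⬝ᵥ (v' - v) = 0 := by rw [smul_dotProduct, hψd, smul_zero]
  refine ⟨tv hd 1, ?_⟩
  rw [cj_root]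
  congr 1
  · rw [tv_val, one_smul, add_mulVec, one_mulVec, vecMulVec_mulVec, smul_dotProduct, smul_eq_mul,
      inv_mul_cancel₀ hψv]
    simp
  · have : (tv hd 1)⁻¹ = tv hd (-1) := inv_eq_of_mul_eq_one_right (by rw [← tv_add, add_neg_cancel, tv_zero])
    rw [this, tv_val, vecMul_add, vecMul_one, vecMul_smul, vecMul_vecMulVec, dotProduct_sub, h, h', sub_zero,
      zero_smul, smul_zero, add_zero]

/-- One step of the transitivity: change the hyperplane. -/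
theorem move_hyp {v φ φ' : ι → k} (h : φ ⬝ᵥ v = 0) (h' : φ' ⬝ᵥ v = 0) (hφ : φ ≠ 0)
    (hφ' : φ' ∉ Submodule.span k {φ}) : ∃ g : SLι, conjBy (Root v φ) g = Root v φ' := by
  obtain ⟨u, hud, huφ, -⟩ : ∃ u : ι → k, u ⬝ᵥ (φ - φ') = 0 ∧ u ⬝ᵥ φ ≠ 0 ∧ u ⬝ᵥ φ ≠ 0 :=
    exists_dual_two (by
      intro e
      obtain ⟨c, hc⟩ := Submodule.mem_span_singleton.1 e
      by_cases hc0 : c = 0
      · exact hφ (by rw [← hc, hc0, zero_smul])
      · refine hφ' (Submodule.mem_span_singleton.2 ⟨1 - c⁻¹, ?_⟩)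
        have : φ - φ' = c⁻¹ • φ := by
          conv_rhs => rw [← hc]
          rw [smul_smul, inv_mul_cancel₀ hc0, one_smul]
        rw [sub_smul, one_smul, ← this, sub_sub_cancel]) (by
      intro e
      obtain ⟨c, hc⟩ := Submodule.mem_span_singleton.1 e
      by_cases hc0 : c = 0
      · exact hφ (by rw [← hc, hc0, zero_smul])
      · refine hφ' (Submodule.mem_span_singleton.2 ⟨1 - c⁻¹, ?_⟩)
        have : φ - φ' = c⁻¹ • φ := by
          conv_rhs => rw [← hc]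
          rw [smul_smul, inv_mul_cancel₀ hc0, one_smul]
        rw [sub_smul, one_smul, ← this, sub_sub_cancel])
  have hd : (φ - φ') ⬝ᵥ ((u ⬝ᵥ φ)⁻¹ • u) = 0 := by rw [dotProduct_comm, smul_dotProduct, hud, smul_zero]
  refine ⟨tv hd 1, ?_⟩
  rw [cj_root]
  congr 1
  · rw [tv_val, one_smul, add_mulVec, one_mulVec, vecMulVec_mulVec, sub_dotProduct, h, h', sub_zero]
    simp
  · have : (tv hd 1)⁻¹ = tv hd (-1) := inv_eq_of_mul_eq_one_right (by rw [← tv_add, add_neg_cancel, tv_zero])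
    rw [this, tv_val, vecMul_add, vecMul_one, vecMul_smul, vecMul_vecMulVec, dotProduct_smul,
      dotProduct_comm φ u, smul_eq_mul, inv_mul_cancel₀ huφ, one_smul, neg_one_smul, ← sub_eq_add_neg,
      sub_sub_cancel]

/-- A vector killed by two functionals, outside a line. -/
theorem exists_killed (h3 : 3 ≤ Fintype.card ι) (φ φ' : ι → k) : ∃ x : ι → k, x ≠ 0 ∧ φ ⬝ᵥ x = 0 ∧ φ' ⬝ᵥ x = 0 := by
  obtain ⟨L, hL⟩ : ∃ L : (ι → k) →ₗ[k] (Fin 2 → k), ∀ x, L x = ![φ ⬝ᵥ x, φ' ⬝ᵥ x] :=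
    ⟨(Matrix.of ![φ, φ']).mulVecLin, fun x => by
      ext i; fin_cases i <;> simp [Matrix.mulVecLin_apply, mulVec, dotProduct]⟩
  have hne : LinearMap.ker L ≠ ⊥ := LinearMap.ker_ne_bot_of_finrank_lt (by
    rw [Module.finrank_fin_fun, Module.finrank_pi]; omega)
  obtain ⟨x, hx, hx0⟩ := Submodule.exists_mem_ne_zero_of_ne_bot hne
  rw [LinearMap.mem_ker, hL] at hx
  exact ⟨x, hx0, congrFun hx 0, congrFun hx 1⟩

theorem fam_conj (h3 : 3 ≤ Fintype.card ι) [Nontrivial ι] :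
    ∀ A ∈ Fam k ι, ∀ B ∈ Fam k ι, ∃ g : SLι, B = conjBy A g := by
  have hP : ∀ (φ v v' : ι → k), φ ≠ 0 → φ ⬝ᵥ v = 0 → φ ⬝ᵥ v' = 0 → v ≠ 0 → v' ≠ 0 →
      ∃ g : SLι, conjBy (Root v φ) g = Root v' φ := by
    intro φ v v' hφ hv hv' hv0 hv'0
    by_cases h : v' ∈ Submodule.span k {v}
    · obtain ⟨c, rfl⟩ := Submodule.mem_span_singleton.1 h
      refine ⟨1, ?_⟩
      rw [cj_one, root_smul_left hv fun e => hv'0 (by rw [e, zero_smul])]
    · exact move_point hv hv' hv0 h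
  have hH : ∀ (v φ φ' : ι → k), v ≠ 0 → φ ⬝ᵥ v = 0 → φ' ⬝ᵥ v = 0 → φ ≠ 0 → φ' ≠ 0 →
      ∃ g : SLι, conjBy (Root v φ) g = Root v φ' := by
    intro v φ φ' hv0 hv hv' hφ hφ'
    by_cases h : φ' ∈ Submodule.span k {φ}
    · obtain ⟨c, rfl⟩ := Submodule.mem_span_singleton.1 h
      refine ⟨1, ?_⟩
      rw [cj_one, root_smul_right hv fun e => hφ' (by rw [e, zero_smul])]
    · exact move_hyp hv hv' hφ h
  rintro A ⟨v, φ, hv0, hφ0, hv, rfl⟩ B ⟨v', φ', hv'0, hφ'0, hv', rfl⟩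
  obtain ⟨x, hx0, hx1, hx2⟩ := exists_killed h3 φ φ'
  obtain ⟨g₁, hg₁⟩ := hP φ v x hφ0 hv hx1 hv0 hx0
  obtain ⟨g₂, hg₂⟩ := hH x φ φ' hx0 hx1 hx2 hφ0 hφ'0
  obtain ⟨g₃, hg₃⟩ := hP φ' x v' hφ'0 hx2 hv' hx0 hv'0
  exact ⟨g₃ * (g₂ * g₁), by rw [← cj_cj, ← cj_cj, hg₁, hg₂, hg₃]⟩

end CfsgLib.RootSub.TSL
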