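/-
Special rank one pairs with abelian unipotent subgroups: powers of partners, and the subgroup generated
by a pair of partners of prime order as an image of `SL₂(p)`.
-/
import Mathlib
import Cfsg.Prelude.Def_RootSubgroups
import Cfsg.Agent.Lib.RootSub.RankOne

set_option autoImplicit false
set_option linter.unusedSectionVars false

open Cfsg

namespace CfsgLib.RootSub

variable {G : Type*} [Group G] {A B : Subgroup G}

/-- `a` and `b` are partners. -/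
def Par (A B : Subgroup G) (a b : G) : Prop :=
  a ∈ A ∧ a ≠ 1 ∧ b ∈ B ∧ b ≠ 1 ∧ conjBy A b⁻¹ = conjBy B a⁻¹

theorem Par.symm {a b : G} (h : Par A B a b) : Par B A b a :=
  ⟨h.2.2.1, h.2.2.2.1, h.1, h.2.1, h.2.2.2.2.symm⟩

/-- The hypotheses used throughout. -/
def SpecialAb (A B : Subgroup G) : Prop :=
  IsSpecialRankOnePair A B ∧ IsMulCommutative A ∧ IsMulCommutative B

theorem special_symm {A B : Subgroup G} (h : IsSpecialRankOnePair A B) : IsSpecialRankOnePair B A := by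
  refine ⟨RankOnePair_symm h.1, fun b hb hb1 a ha ha1 e => ?_⟩
  have := h.2 a ha ha1 b hb hb1 e.symm
  calc a⁻¹ * b * a = (a⁻¹ * b⁻¹ * a)⁻¹ := by group
    _ = (b⁻¹ * a * b)⁻¹ := by rw [this]
    _ = b⁻¹ * a⁻¹ * b := by group

theorem SpecialAb.symm (h : SpecialAb A B) : SpecialAb B A := ⟨special_symm h.1, h.2.2, h.2.1⟩

variable (hs : SpecialAb A B)
include hs

theorem SpecialAb.mul_comm_right {x y : G} (hx : x ∈ B) (hy : y ∈ B) : x * y = y * x := by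
  haveI := hs.2.2
  exact congrArg Subtype.val (mul_comm' (⟨x, hx⟩ : B) ⟨y, hy⟩)

theorem SpecialAb.mul_comm_left {x y : G} (hx : x ∈ A) (hy : y ∈ A) : x * y = y * x := by
  haveI := hs.2.1
  exact congrArg Subtype.val (mul_comm' (⟨x, hx⟩ : A) ⟨y, hy⟩)

theorem Par.right_unique {a b b' : G} (h : Par A B a b) (h' : Par A B a b') : b = b' :=
  partner_unique hs.1.1 h.2.2.1 h'.2.2.1 h.2.2.2.2 h'.2.2.2.2

theorem Par.left_unique {a a' b : G} (h : Par A B a b) (h' : Par A B a' b) : a = a' :=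
  partner_unique (pair_symm hs.1.1) h.1 h'.1 h.2.2.2.2.symm h'.2.2.2.2.symm

omit hs in
theorem exists_par (h : IsRankOnePair A B) {a : G} (ha : a ∈ A) (ha1 : a ≠ 1) : ∃ b, Par A B a b := by
  obtain ⟨b, hb, hb1, e⟩ := h.cond_left a ha ha1
  exact ⟨b, ha, ha1, hb, hb1, e⟩

omit hs in
theorem exists_par' (h : IsRankOnePair A B) {b : G} (hb : b ∈ B) (hb1 : b ≠ 1) : ∃ a, Par A B a b := by
  obtain ⟨a, ha⟩ := exists_par (pair_symm h) hb hb1
  exact ⟨a, ha.symm⟩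

/-- The element `a * b⁻¹ * a` interchanges the two subgroups. -/
theorem par_flip {a b : G} (h : Par A B a b) :
    a * b⁻¹ * a = b⁻¹ * a * b⁻¹ ∧
    (a * b⁻¹ * a) * a * (a * b⁻¹ * a)⁻¹ = b⁻¹ ∧ (a * b⁻¹ * a) * b * (a * b⁻¹ * a)⁻¹ = a⁻¹ ∧
    conjBy A (a * b⁻¹ * a) = B ∧ conjBy B (a * b⁻¹ * a) = A := by
  obtain ⟨ha, ha1, hb, hb1, e⟩ := h
  have sp := hs.1.2 a ha ha1 b hb hb1 e
  have h1 : a * b⁻¹ * a = b⁻¹ * a * b⁻¹ := by
    have h0 : a * (b⁻¹ * a * b) = b⁻¹ * a := by rw [sp]; group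
    calc a * b⁻¹ * a = (a * (b⁻¹ * a * b)) * b⁻¹ := by group
      _ = b⁻¹ * a * b⁻¹ := by rw [h0]
  refine ⟨h1, ?_, ?_, ?_, ?_⟩
  · calc (a * b⁻¹ * a) * a * (a * b⁻¹ * a)⁻¹ = a * (b⁻¹ * a * b) * a⁻¹ := by group
      _ = b⁻¹ := by rw [sp]; group
  · calc (a * b⁻¹ * a) * b * (a * b⁻¹ * a)⁻¹ = (a * (b⁻¹ * a * b) * a⁻¹) * b * a⁻¹ := by group
      _ = a⁻¹ := by rw [sp]; group
  · rw [h1, mul_assoc, ← cj_cj, ← cj_cj, e, cj_cj B, mul_inv_cancel, cj_one, cj_of_mem (inv_mem hb)]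
  · have hA : conjBy A (a * b⁻¹ * a) = B := by
      rw [h1, mul_assoc, ← cj_cj, ← cj_cj, e, cj_cj B, mul_inv_cancel, cj_one, cj_of_mem (inv_mem hb)]
    have hn1 : (a * b⁻¹ * a) * a * (a * b⁻¹ * a)⁻¹ = b⁻¹ := by
      calc (a * b⁻¹ * a) * a * (a * b⁻¹ * a)⁻¹ = a * (b⁻¹ * a * b) * a⁻¹ := by group
        _ = b⁻¹ := by rw [sp]; group
    have hn2 : (a * b⁻¹ * a) * b * (a * b⁻¹ * a)⁻¹ = a⁻¹ := by
      calc (a * b⁻¹ * a) * b * (a * b⁻¹ * a)⁻¹ = (a * (b⁻¹ * a * b) * a⁻¹) * b * a⁻¹ := by group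
        _ = a⁻¹ := by rw [sp]; group
    have hmem : a⁻¹ ∈ conjBy B (a * b⁻¹ * a) := hn2 ▸ conj_mem_cj _ hb
    have hn : a * b⁻¹ * a ∈ A ⊔ B := mul_mem (mul_mem (Subgroup.mem_sup_left ha)
      (Subgroup.mem_sup_right (inv_mem hb))) (Subgroup.mem_sup_left ha)
    by_contra hne
    exact ha1 (inv_eq_one.mp (eq_one_of_normalizes
      (pair_of_unip hs.1.1 left_mem_unip (cj_mem_unip (right_mem_unip hs.1.1) hn) (Ne.symm hne)).1
      (inv_mem ha) (Subgroup.le_normalizer hmem)))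

theorem par_inv {a b : G} (h : Par A B a b) : Par A B a⁻¹ b⁻¹ := by
  obtain ⟨-, -, -, -, h5⟩ := par_flip hs h
  obtain ⟨ha, ha1, hb, hb1, e⟩ := h
  refine ⟨inv_mem ha, inv_ne_one.mpr ha1, inv_mem hb, inv_ne_one.mpr hb1, ?_⟩
  rw [inv_inv, inv_inv]
  have h7 := congrArg (fun X => conjBy X (b * a⁻¹)) h5
  rw [cj_cj, show b * a⁻¹ * (a * b⁻¹ * a) = a by group, ← cj_cj A, cj_of_mem (inv_mem ha)] at h7
  exact h7.symm

/-- The central computation: the point of `x` under the interchanging element, computed in two ways. -/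
theorem par_step {a b x a' b' c d r : G} (h : Par A B a b) (hx : x ∈ A) (hb' : b' = (a * b⁻¹ * a) * x * (a * b⁻¹ * a)⁻¹)
    (hc : Par A B c b'⁻¹) (ha' : a' = x * a⁻¹) (hd : Par A B a' d) (hr : Par A B r (d * b)) :
    r * c = a := by
  obtain ⟨-, -, -, h4, h5⟩ := par_flip hs h
  have hc' := par_inv hs hc
  set n := a * b⁻¹ * a with hn
  have e1 : conjBy B (n * x⁻¹) = conjBy B c := by
    rw [show n * x⁻¹ = (n * x⁻¹ * n⁻¹) * n by group, ← cj_cj, h5]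
    rw [show n * x⁻¹ * n⁻¹ = b'⁻¹ by rw [hb']; group]
    have := hc'.2.2.2.2
    rwa [inv_inv, inv_inv] at this
  have hax : a * x⁻¹ = a'⁻¹ := by rw [ha']; group
  have hbd : b⁻¹ * d⁻¹ = (d * b)⁻¹ := by group
  have e2 : conjBy B (n * x⁻¹) = conjBy B (a * r⁻¹) := by
    rw [show n * x⁻¹ = a * (b⁻¹ * (a * x⁻¹)) by rw [hn]; group, hax, ← cj_cj, ← cj_cj, ← hd.2.2.2.2,
      cj_cj A, hbd, hr.2.2.2.2, cj_cj]
  have := regular_unique hs.1.1 hc.1 (mul_mem h.1 (inv_mem hr.1)) (e1.symm.trans e2)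
  rw [this, hs.mul_comm_left hr.1 (mul_mem h.1 (inv_mem hr.1))]
  group

omit hs in
theorem conj_pow_eq (n a : G) (k : ℕ) : n * a ^ k * n⁻¹ = (n * a * n⁻¹) ^ k := conj_pow.symm

theorem pow_ne_one_iff {a b : G} (h : Par A B a b) (k : ℕ) : a ^ k ≠ 1 ↔ b ^ k ≠ 1 := by
  have h2 := (par_flip hs h).2.1
  have h3 := conj_pow_eq (a * b⁻¹ * a) a k
  rw [h2, inv_pow] at h3
  rw [not_iff_not]
  constructor
  · intro e
    rw [e, mul_one, mul_inv_cancel] at h3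
    exact inv_eq_one.mp h3.symm
  · intro e
    rw [e, inv_one] at h3
    exact conj_eq_one_iff.mp h3

end CfsgLib.RootSub

namespace CfsgLib.RootSub

variable {G : Type*} [Group G]

/-- The partner of the `k`-th power of `b` is a `k`-th root of the partner of `b`. -/
theorem par_pow : ∀ (k : ℕ) {A B : Subgroup G}, SpecialAb A B → ∀ {a b c : G}, Par A B a b →
    a ^ k ≠ 1 → Par A B c (b ^ k) → c ^ k = a := by
  intro k
  induction k with
  | zero => intro A B _ a b c _ hne _; exact absurd (pow_zero a) hne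
  | succ k ih =>
    intro A B hs a b c h hne hc
    by_cases hk : a ^ k = 1
    · have hbk : b ^ k = 1 := by
        by_contra hb
        exact (pow_ne_one_iff hs h k).mpr hb hk
      rw [pow_succ, hbk, one_mul] at hc
      rw [Par.left_unique hs hc h, pow_succ, hk, one_mul]
    obtain ⟨d, hd⟩ := exists_par hs.1.1 (pow_mem h.1 k) hk
    have hbk : b ^ k ≠ 1 := (pow_ne_one_iff hs h k).mp hk
    have hdk : d ^ k = b := ih hs.symm h.symm hbk (by
      -- `a ^ k` has partner `d`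
      exact hd.symm)
    have hbk1 : b ^ (k + 1) ≠ 1 := (pow_ne_one_iff hs h (k + 1)).mp hne
    have hdb : d * b = d ^ (k + 1) := by rw [pow_succ', hdk]
    have hpow : (d ^ (k + 1)) ^ k = b ^ (k + 1) := by rw [← pow_mul, mul_comm, pow_mul, hdk]
    have hdb1 : d * b ≠ 1 := fun e => hbk1 (by rw [← hpow, ← hdb, e, one_pow])
    obtain ⟨r, hr⟩ := exists_par' hs.1.1 (mul_mem hd.2.2.1 h.2.2.1) hdb1
    have hb' : (b ^ (k + 1))⁻¹ = (a * b⁻¹ * a) * a ^ (k + 1) * (a * b⁻¹ * a)⁻¹ := by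
      rw [conj_pow_eq, (par_flip hs h).2.1, inv_pow]
    have hrc : r * c = a := par_step hs h (pow_mem h.1 (k + 1)) hb' (by rwa [inv_inv])
      (by rw [pow_succ, mul_inv_cancel_right]) hd hr
    rw [hdb] at hr
    have hck : c ^ k = r := ih hs hr ((pow_ne_one_iff hs hr k).mpr (by rw [hpow]; exact hbk1)) (by rwa [hpow])
    rw [pow_succ, hck, hrc]

theorem exists_root {A B : Subgroup G} (hs : SpecialAb A B) {a : G} (ha : a ∈ A) {k : ℕ}
    (hk : a ^ k ≠ 1) : ∃ c ∈ A, c ^ k = a := by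
  have ha1 : a ≠ 1 := fun e => hk (by rw [e, one_pow])
  obtain ⟨b, hb⟩ := exists_par hs.1.1 ha ha1
  obtain ⟨c, hc⟩ := exists_par' hs.1.1 (pow_mem hb.2.2.1 k) ((pow_ne_one_iff hs hb k).mp hk)
  exact ⟨c, hc.1, par_pow k hs hb hk hc⟩

theorem elementary_or_divisible {A B : Subgroup G} (hs : SpecialAb A B) :
    (∃ p : ℕ, p.Prime ∧ ∀ a ∈ A, a ^ p = 1) ∨
    ((∀ a ∈ A, a ≠ 1 → ¬ IsOfFinOrder a) ∧ ∀ a ∈ A, ∀ n : ℕ, 0 < n → ∃ c ∈ A, c ^ n = a) := by
  by_cases hfin : ∃ a ∈ A, a ≠ 1 ∧ IsOfFinOrder a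
  · left
    obtain ⟨a₁, ha₁, ha₁1, hf⟩ := hfin
    obtain ⟨p, hp, hdvd⟩ := Nat.exists_prime_and_dvd (n := orderOf a₁) (fun e => ha₁1 (orderOf_eq_one_iff.mp e))
    set a₀ := a₁ ^ (orderOf a₁ / p)
    have ha₀ : a₀ ∈ A := pow_mem ha₁ _
    have ho : orderOf a₀ = p := orderOf_pow_orderOf_div hf.orderOf_pos.ne' hdvd
    have ha₀1 : a₀ ≠ 1 := fun e => hp.one_lt.ne' (by rw [← ho, e, orderOf_one])
    refine ⟨p, hp, fun x hx => ?_⟩
    by_contra hne
    -- two different `p`-th roots of the same element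
    have hxa : (x * a₀) ^ p = x ^ p := by
      rw [Commute.mul_pow (hs.mul_comm_left hx ha₀), ← ho, pow_orderOf_eq_one, mul_one]
    have key : ∀ y ∈ A, y ^ p ≠ 1 → ∀ d e, Par A B (y ^ p) d → Par A B y e → d ^ p = e := by
      intro y hy hy1 d e hd he
      have hep : e ^ p ≠ 1 := (pow_ne_one_iff hs he p).mp hy1
      exact par_pow p hs.symm he.symm hep hd.symm
    obtain ⟨d, hd⟩ := exists_par hs.1.1 (pow_mem hx p) hne
    obtain ⟨e, he⟩ := exists_par hs.1.1 hx (fun e => hne (by rw [e, one_pow]))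
    obtain ⟨e', he'⟩ := exists_par hs.1.1 (mul_mem hx ha₀)
      (fun e => hne (by rw [← hxa, e, one_pow]))
    have h1 := key x hx hne d e hd he
    have h2 := key (x * a₀) (mul_mem hx ha₀) (by rwa [hxa]) d e' (by rwa [hxa]) he'
    have hxx : x = x * a₀ := Par.left_unique hs he ((h2.symm.trans h1) ▸ he')
    exact ha₀1 (by simpa using hxx.symm)
  · right
    push Not at hfin
    refine ⟨hfin, fun a ha n hn => ?_⟩
    by_cases ha1 : a = 1
    · exact ⟨1, one_mem _, by rw [ha1, one_pow]⟩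
    exact exists_root hs ha fun e => hfin a ha ha1 (isOfFinOrder_iff_pow_eq_one.mpr ⟨n, hn, e⟩)

end CfsgLib.RootSub
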