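/-
Special rank one pairs with abelian unipotent subgroups of order more than three generate perfect groups.
-/
import Mathlib
import Cfsg.Prelude.Def_RootSubgroups
import Cfsg.Agent.Lib.RootSub.RankOne
import Cfsg.Agent.Lib.RootSub.RootSet
import Cfsg.Agent.Lib.RootSub.Special

set_option autoImplicit false
set_option linter.unusedSectionVars false

open Cfsg
open scoped commutatorElement

namespace CfsgLib.RootSub

variable {G : Type*} [Group G] {A B : Subgroup G}

theorem diag_conj {h : G} (hh : h ∈ rankOneDiagonal A B) : conjBy A h = A ∧ conjBy B h = B :=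
  ⟨cj_eq_self.mpr hh.1.2, cj_eq_self.mpr hh.2⟩

theorem diag_of_cj {h : G} (hX : h ∈ A ⊔ B) (hA : conjBy A h = A) (hB : conjBy B h = B) :
    h ∈ rankOneDiagonal A B := ⟨⟨hX, cj_eq_self.mp hA⟩, cj_eq_self.mp hB⟩

theorem commutator_diag_le : ⁅A, rankOneDiagonal A B⁆ ≤ A := by
  rw [Subgroup.commutator_le]
  intro a ha h hh
  have h1 := conj_mem_cj h (inv_mem ha)
  rw [(diag_conj hh).1] at h1
  rw [commutatorElement_def, show a * h * a⁻¹ * h⁻¹ = a * (h * a⁻¹ * h⁻¹) by group]
  exact mul_mem ha h1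

theorem add_ident {M : Type*} [AddCommGroup M] (P Q R T : M) :
    -P + (Q + Q) = Q + -P + T + -(P + -R + (T + -P)) + -(R + -Q) := by abel

theorem comm_ident {M : Type*} [CommGroup M] (P Q R T : M) :
    P⁻¹ * (Q * Q) = Q * P⁻¹ * T * (P * R⁻¹ * (T * P⁻¹))⁻¹ * (R * Q⁻¹)⁻¹ :=
  add_ident (M := Additive M) P Q R T

/-- The key congruence: either the diagonal subgroup is trivial on `A`, and then `x * x = a` for all distinct
non-identity `a` and `x`, or its commutator with `A` is all of `A`. -/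
theorem diag_congr (hs : SpecialAb A B) {a x : G} (ha : a ∈ A) (ha1 : a ≠ 1) (hx : x ∈ A) (hx1 : x ≠ 1)
    (hxa : x ≠ a) : a⁻¹ * (x * x) ∈ ⁅A, rankOneDiagonal A B⁆ := by
  set H := rankOneDiagonal A B
  set W := ⁅A, H⁆ with hW
  haveI := hs.2.1
  obtain ⟨b, hb⟩ := exists_par hs.1.1 ha ha1
  obtain ⟨hflip, hna, hnb, hA', hB'⟩ := par_flip hs hb
  set n := a * b⁻¹ * a with hn
  have hnX : n ∈ A ⊔ B := mul_mem (mul_mem (Subgroup.mem_sup_left ha) (Subgroup.mem_sup_right (inv_mem hb.2.2.1)))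
    (Subgroup.mem_sup_left ha)
  -- a partner pair pulled back by `n`
  have key : ∀ u v, Par A B u v → u * (n⁻¹ * v * n) ∈ W := by
    intro u v huv
    obtain ⟨-, hu, -, hA'', hB''⟩ := par_flip hs huv
    set m := u * v⁻¹ * u with hm
    have hmX : m ∈ A ⊔ B := mul_mem (mul_mem (Subgroup.mem_sup_left huv.1) (Subgroup.mem_sup_right (inv_mem huv.2.2.1)))
      (Subgroup.mem_sup_left huv.1)
    have hh : n⁻¹ * m ∈ H := by
      refine diag_of_cj (mul_mem (inv_mem hnX) hmX) ?_ ?_
      · rw [← cj_cj, hA'', cj_eq_iff, inv_inv, hA']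
      · rw [← cj_cj, hB'', cj_eq_iff, inv_inv, hB']
    have hv : v = m * u⁻¹ * m⁻¹ := by
      calc v = (m * u * m⁻¹)⁻¹ := by rw [hu, inv_inv]
        _ = _ := by group
    have e : u * (n⁻¹ * v * n) = ⁅u, n⁻¹ * m⁆ := by rw [hv, commutatorElement_def]; group
    rw [e]
    exact Subgroup.commutator_mem_commutator huv.1 hh
  set b' := n * x * n⁻¹ with hb'
  have hb'B : b' ∈ B := hA' ▸ conj_mem_cj n hx
  have hb'1 : b'⁻¹ ≠ 1 := inv_ne_one.mpr (fun e => hx1 (conj_eq_one_iff.mp e))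
  obtain ⟨c, hc⟩ := exists_par' hs.1.1 (inv_mem hb'B) hb'1
  have ha'A : x * a⁻¹ ∈ A := mul_mem hx (inv_mem ha)
  have ha'1 : x * a⁻¹ ≠ 1 := fun e => hxa (mul_inv_eq_one.mp e)
  obtain ⟨d, hd⟩ := exists_par hs.1.1 ha'A ha'1
  have hdb1 : d * b ≠ 1 := by
    intro e
    have hd' : d = b⁻¹ := eq_inv_of_mul_eq_one_left e
    have h1 := Par.left_unique hs (hd' ▸ hd) (par_inv hs hb)
    exact hx1 (by simpa using h1)
  obtain ⟨r, hr⟩ := exists_par' hs.1.1 (mul_mem hd.2.2.1 hb.2.2.1) hdb1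
  have hrc : r * c = a := par_step hs hb hx hb' hc rfl hd hr
  have k1 : c * x⁻¹ ∈ W := by
    have h := key c _ hc
    rwa [show n⁻¹ * b'⁻¹ * n = x⁻¹ by rw [hb']; group] at h
  set ψd := n⁻¹ * d * n with hψd
  have hψdA : ψd ∈ A := by
    have : d ∈ conjBy A n := hA'.symm ▸ hd.2.2.1
    exact mem_cj.mp this
  have hψb : n⁻¹ * b * n = a⁻¹ := by
    calc n⁻¹ * b * n = (n⁻¹ * b⁻¹ * n)⁻¹ := by group
      _ = (n⁻¹ * (n * a * n⁻¹) * n)⁻¹ := by rw [hna]
      _ = a⁻¹ := by group
  have k2 : (x * a⁻¹) * ψd ∈ W := key _ _ hd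
  have k3 : r * (ψd * a⁻¹) ∈ W := by
    have h := key r _ hr
    rwa [show n⁻¹ * (d * b) * n = ψd * (n⁻¹ * b * n) by rw [hψd]; group, hψb] at h
  -- combine inside the commutative group `A`
  have k4 := mul_mem (mul_mem k2 (inv_mem k3)) (inv_mem k1)
  have e : a⁻¹ * (x * x) = x * a⁻¹ * ψd * (r * (ψd * a⁻¹))⁻¹ * (c * x⁻¹)⁻¹ := by
    have hr' : r = a * c⁻¹ := eq_mul_inv_of_mul_eq hrc
    have hcA : c ∈ A := hc.1
    have comm : ∀ {u v : G}, u ∈ A → v ∈ A → u * v = v * u := fun hu hv => hs.mul_comm_left hu hv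
    rw [hr']
    letI : CommGroup A := { (inferInstance : Group A) with mul_comm := mul_comm' }
    exact congrArg Subtype.val (comm_ident (⟨a, ha⟩ : A) ⟨x, hx⟩ ⟨c, hcA⟩ ⟨ψd, hψdA⟩)
  rw [e]; exact k4

theorem diag_eq_top (hs : SpecialAb A B) (hW : ⁅A, rankOneDiagonal A B⁆ ≠ ⊥) :
    ⁅A, rankOneDiagonal A B⁆ = A := by
  refine le_antisymm commutator_diag_le fun a ha => ?_
  by_contra hn
  obtain ⟨w, hw, hw1⟩ := (Subgroup.bot_or_exists_ne_one _).resolve_left hW
  have hwA := commutator_diag_le hw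
  have h := diag_congr hs ha (fun e => hn (e ▸ one_mem _)) hwA hw1 (fun e => hn (e ▸ hw))
  apply hn
  have h2 := mul_mem (mul_mem hw hw) (inv_mem h)
  have e : w * w * (a⁻¹ * (w * w))⁻¹ = a := by group
  rwa [e] at h2

theorem diag_ne_bot (hs : SpecialAb A B) (h3 : 3 < ENat.card A) : ⁅A, rankOneDiagonal A B⁆ ≠ ⊥ := by
  intro hW
  have key : ∀ {a x : G}, a ∈ A → a ≠ 1 → x ∈ A → x ≠ 1 → x ≠ a → x * x = a := by
    intro a x ha ha1 hx hx1 hxa
    have h := diag_congr hs ha ha1 hx hx1 hxa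
    rw [hW, Subgroup.mem_bot, inv_mul_eq_one] at h
    exact h.symm
  -- there are at most two non-identity elements
  have htwo : ∀ a x y : A, a ≠ 1 → x ≠ 1 → y ≠ 1 → a ≠ x → a ≠ y → x ≠ y → False := by
    intro a x y ha hx hy hax hay hxy
    have h1 : ∀ u : A, u ≠ 1 → (u : G) ≠ 1 := fun u hu e => hu (Subtype.ext e)
    have e1 := key a.2 (h1 a ha) x.2 (h1 x hx) (fun e => hax (Subtype.ext e).symm)
    have e2 := key y.2 (h1 y hy) x.2 (h1 x hx) (fun e => hxy (Subtype.ext e))
    exact hay (Subtype.ext (e1.symm.trans e2))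
  classical
  have hle : ENat.card A ≤ 3 := by
    by_cases hall : ∃ a x : A, a ≠ 1 ∧ x ≠ 1 ∧ a ≠ x
    · obtain ⟨a, x, ha, hx, hax⟩ := hall
      have huniv : (Set.univ : Set A) ⊆ {1, a, x} := fun y _ => by
        by_contra hy
        simp only [Set.mem_insert_iff, Set.mem_singleton_iff, not_or] at hy
        exact htwo a x y ha hx hy.1 hax (Ne.symm hy.2.1) (Ne.symm hy.2.2)
      rw [← Set.encard_univ]
      refine (Set.encard_le_encard huniv).trans ?_
      refine (Set.encard_insert_le _ _).trans ?_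
      refine (add_le_add_left (Set.encard_insert_le _ _) 1).trans ?_
      rw [Set.encard_singleton]
      norm_num
    · push Not at hall
      by_cases h1 : ∃ a : A, a ≠ 1
      · obtain ⟨a, ha⟩ := h1
        have huniv : (Set.univ : Set A) ⊆ {1, a} := fun y _ => by
          by_cases hy : y = 1
          · exact Or.inl hy
          · exact Or.inr (hall a y ha hy).symm
        rw [← Set.encard_univ]
        refine (Set.encard_le_encard huniv).trans ?_
        refine (Set.encard_insert_le _ _).trans ?_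
        rw [Set.encard_singleton]
        norm_num
      · push Not at h1
        have huniv : (Set.univ : Set A) ⊆ {1} := fun y _ => h1 y
        rw [← Set.encard_univ]
        refine (Set.encard_le_encard huniv).trans ?_
        rw [Set.encard_singleton]
        norm_num
  exact absurd h3 (not_lt.mpr hle)

theorem sup_le_commutator (hs : SpecialAb A B) (h3 : 3 < ENat.card A) : A ≤ ⁅A ⊔ B, A ⊔ B⁆ :=
  (diag_eq_top hs (diag_ne_bot hs h3)).ge.trans (Subgroup.commutator_mono le_sup_left (fun _ h => h.1.1))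

theorem rank_one_perfect {S : Set (Subgroup G)} (hS : IsRootSubgroupSet S) (hA : A ∈ S) (hB : B ∈ S)
    (hs : IsSpecialRankOnePair A B) (h3 : ∀ C ∈ S, 3 < ENat.card C) : ⁅A ⊔ B, A ⊔ B⁆ = A ⊔ B := by
  have hs' : SpecialAb A B := ⟨hs, hS.commutative A hA, hS.commutative B hB⟩
  refine le_antisymm ?_ (sup_le (sup_le_commutator hs' (h3 A hA)) ?_)
  · rw [Subgroup.commutator_le]
    intro x hx y hy
    rw [commutatorElement_def]
    exact mul_mem (mul_mem (mul_mem hx hy) (inv_mem hx)) (inv_mem hy)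
  · have h := sup_le_commutator hs'.symm (h3 B hB)
    rwa [sup_comm] at h

theorem quasisimple_of_normal_dichotomy {X : Type*} [Group X] (K : Subgroup X) (hK : K = ⊤)
    (hperf : commutator X = ⊤) (hnc : ¬ Subgroup.center X = ⊤)
    (hdich : ∀ N : Subgroup X, N.Normal → N ≤ Subgroup.center X ∨ N = ⊤) : IsQuasisimple ↥K := by
  subst hK
  refine ⟨Group.IsPerfect.top_iff.mpr (Group.isPerfect_def.mpr hperf), ?_⟩
  let e : (⊤ : Subgroup X) ≃* X := Subgroup.topEquiv
  have hnt : Nontrivial (↥(⊤ : Subgroup X) ⧸ Subgroup.center ↥(⊤ : Subgroup X)) := by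
    obtain ⟨x, hx⟩ : ∃ x, x ∉ Subgroup.center X := by
      by_contra hc; push Not at hc; exact hnc (eq_top_iff.mpr fun x _ => hc x)
    refine ⟨QuotientGroup.mk (e.symm x), 1, fun h => hx ?_⟩
    rw [QuotientGroup.eq_one_iff, Subgroup.mem_center_iff] at h
    rw [Subgroup.mem_center_iff]
    intro y
    exact congrArg Subtype.val (h (e.symm y))
  refine { exists_pair_ne := hnt.exists_pair_ne, eq_bot_or_eq_top_of_normal := fun N hN => ?_ }
  set π := QuotientGroup.mk' (Subgroup.center ↥(⊤ : Subgroup X))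
  set M := (N.comap π).map e.toMonoidHom with hM
  have hMn : M.Normal := (hN.comap π).map _ e.surjective
  have hback : M.comap e.toMonoidHom = N.comap π := Subgroup.comap_map_eq_self_of_injective e.injective _
  rcases hdich M hMn with h | h
  · left
    rw [eq_bot_iff]
    intro q hq
    obtain ⟨y, rfl⟩ := QuotientGroup.mk'_surjective _ q
    have hy : y ∈ M.comap e.toMonoidHom := hback.symm ▸ hq
    have hz := h hy
    rw [Subgroup.mem_bot, QuotientGroup.mk'_apply, QuotientGroup.eq_one_iff, Subgroup.mem_center_iff]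
    intro z
    exact Subtype.ext (Subgroup.mem_center_iff.mp hz z)
  · right
    rw [eq_top_iff]
    intro q _
    obtain ⟨y, rfl⟩ := QuotientGroup.mk'_surjective _ q
    have hy : y ∈ M.comap e.toMonoidHom := by rw [h]; trivial
    rw [hback] at hy
    exact hy

end CfsgLib.RootSub
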