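/-
The structure of a line and the transitivity on it of the members normalizing it.
-/
import Mathlib
import Cfsg.Prelude.Def_RootSubgroups
import Cfsg.Agent.Lib.RootSub.RankOne
import Cfsg.Agent.Lib.RootSub.RootSet
import Cfsg.Agent.Lib.RootSub.Lines
import Cfsg.Agent.Lib.RootSub.Triangle

set_option autoImplicit false
set_option linter.unusedSectionVars false

open Cfsg
open scoped commutatorElement

namespace CfsgLib.RootSub

variable {G : Type*} [Group G] {S : Set (Subgroup G)}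

theorem line_comm {A B : Subgroup G} (hB : B ∈ linePartners S A) : ∀ a ∈ A, ∀ b ∈ B, a * b = b * a := by
  intro a ha b hb
  have h := Subgroup.commutator_mem_commutator ha hb
  rw [hB.1.2.2, Subgroup.mem_bot, commutatorElement_eq_one_iff_mul_comm] at h
  exact h

theorem line_symm {A B : Subgroup G} (hA : A ∈ S) (hB : B ∈ linePartners S A) : A ∈ linePartners S B := by
  refine ⟨⟨hA, hB.1.2.1.symm, ?_⟩, ?_⟩
  · rw [Subgroup.commutator_comm]; exact hB.1.2.2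
  · rw [sup_comm]; exact hB.2

variable (hS : IsRootSubgroupSet S) (hpart : ∀ Y ∈ S, ∃ P ∈ S, IsRankOnePair Y P)
include hS hpart

theorem members_eq {A B : Subgroup G} (hA : A ∈ S) (hB : B ∈ S) {x : G} (hx1 : x ≠ 1) (hxA : x ∈ A)
    (hxB : x ∈ B) : A = B := by
  obtain ⟨P, hP, h⟩ := hpart A hA
  exact eq_of_pair hS hP h hB hxA hx1 hxB

theorem members_commute {A B C D : Subgroup G} (hA : A ∈ S) (hB : B ∈ linePartners S A) (hC : C ≤ A ⊔ B)
    (hD : D ≤ A ⊔ B) : ∀ c ∈ C, ∀ d ∈ D, c * d = d * c := by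
  haveI := hS.commutative A hA
  haveI := hS.commutative B hB.1.1
  exact fun c hc d hd => comm_sup_abelian (line_comm hB) (hC hc) (hD hd)

theorem line_mul_mem {A B C D : Subgroup G} (hA : A ∈ S) (hB : B ∈ linePartners S A)
    (hC : C ∈ membersIn S (A ⊔ B)) (hD : D ∈ membersIn S (A ⊔ B)) (hne : C ≠ D) :
    ∀ c ∈ C, ∀ d ∈ D, c ≠ 1 → d ≠ 1 → c * d ≠ 1 ∧ ∃ E ∈ membersIn S (A ⊔ B), c * d ∈ E := by
  intro c hc d hd hc1 hd1
  have h1 : c * d ≠ 1 := fun e => hne (members_eq hS hpart hC.1 hD.1 hc1 hc (by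
    rw [eq_inv_of_mul_eq_one_left e]; exact inv_mem hd))
  exact ⟨h1, hB.2.2.1 _ (mul_mem (hC.2 hc) (hD.2 hd)) h1⟩

/-- A member of a line with a rank one partner is moved by a member normalizing the line onto all but one
member of it. -/
theorem line_struct {A B P : Subgroup G} (hA : A ∈ S) (hB : B ∈ linePartners S A) (hP : P ∈ S)
    (hAP : IsRankOnePair A P) :
    ∃ E ∈ membersIn S (A ⊔ B), E ≠ A ∧ ¬ IsRankOnePair E P ∧ RootCommutatorCase S E P ∧
      RootCommutatorCase S A ⁅E, P⁆ ∧ ⁅A, ⁅E, P⁆⁆ = E ∧ A ⊔ E = A ⊔ B := by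
  have hAin : A ∈ membersIn S (A ⊔ B) := ⟨hA, le_sup_left⟩
  have hBin : B ∈ membersIn S (A ⊔ B) := ⟨hB.1.1, le_sup_right⟩
  have hAB : A ≠ B := hB.1.2.1.symm
  obtain ⟨E, hE, hEA, hEP, hcase⟩ : ∃ E ∈ membersIn S (A ⊔ B), E ≠ A ∧ ¬ IsRankOnePair E P ∧
      (E = B ∨ ∃ a ∈ A, ∃ b ∈ B, b ≠ 1 ∧ a * b ∈ E) := by
    by_cases hBP : IsRankOnePair B P
    · by_contra hcon
      obtain ⟨p, hp, hp1⟩ := exists_ne_one (pair_symm hAP)
      obtain ⟨a, ha, ha1, ea⟩ := hAP.cond_right p hp hp1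
      obtain ⟨b, hb, hb1, eb⟩ := hBP.cond_right p hp hp1
      obtain ⟨hne, E, hE, hmem⟩ := line_mul_mem hS hpart hA hB hAin hBin hAB a⁻¹ (inv_mem ha) b hb
        (inv_ne_one.mpr ha1) hb1
      have hEP : IsRankOnePair E P := by
        by_contra hn
        refine hcon ⟨E, hE, fun e => ?_, hn, Or.inr ⟨a⁻¹, inv_mem ha, b, hb, hb1, hmem⟩⟩
        have hbA : b ∈ A := by
          have := mul_mem ha (show a⁻¹ * b ∈ A from e ▸ hmem)
          rwa [mul_inv_cancel_left] at this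
        exact hAB (members_eq hS hpart hA hB.1.1 hb1 hbA hb)
      refine cj_not_commute hS hP hEP hmem hne fun x hx x' hx' => ?_
      -- the conjugates by `a⁻¹` and `b⁻¹` commute
      have hx2 : b⁻¹ * x * b ∈ conjBy B p⁻¹ := eb ▸ (by simpa using conj_mem_cj b⁻¹ hx)
      have hab := line_comm hB a ha b hb
      have hy : b⁻¹ * x' * b ∈ conjBy P a⁻¹ := by
        rw [mem_cj] at hx' ⊢
        have e : a⁻¹⁻¹ * (b⁻¹ * x' * b) * a⁻¹ = (a⁻¹ * b)⁻¹ * x' * (a⁻¹ * b) := by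
          have hab' : a⁻¹ * b = b * a⁻¹ := (show Commute a b from hab).inv_left
          conv_rhs => rw [hab']
          group
        rw [e]; exact hx'
      rw [ea, mem_cj] at hy
      rw [mem_cj] at hx2
      have h3 := line_comm hB _ hy _ hx2
      have h4 : (b⁻¹ * x' * b) * (b⁻¹ * x * b) = (b⁻¹ * x * b) * (b⁻¹ * x' * b) := by
        have h5 := congrArg (fun u => p⁻¹ * u * p⁻¹⁻¹) h3
        simpa [mul_assoc] using h5
      have h6 : b⁻¹ * (x' * x) * b = b⁻¹ * (x * x') * b := by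
        calc b⁻¹ * (x' * x) * b = (b⁻¹ * x' * b) * (b⁻¹ * x * b) := by group
          _ = (b⁻¹ * x * b) * (b⁻¹ * x' * b) := h4
          _ = _ := by group
      exact (mul_left_cancel (mul_right_cancel h6)).symm
    · exact ⟨B, hBin, hAB.symm, hBP, Or.inl rfl⟩
  have hline : ∀ e ∈ E, ∀ a ∈ A, e ≠ 1 → a ≠ 1 → e * a ∈ rootElements S := fun e he a ha he1 ha1 => by
    obtain ⟨h1, F, hF, hmem⟩ := line_mul_mem hS hpart hA hB hE hAin hEA e he a ha he1 ha1
    exact ⟨h1, F, hF.1, hmem⟩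
  obtain ⟨hk, hj, heq⟩ := triangle hS hpart hE.1 hA hP hAP hEP
    (members_commute hS hpart hA hB hE.2 le_sup_left) hline
  have hj' := commCase_symm hj
  have heq' : ⁅A, ⁅E, P⁆⁆ = E := by rw [Subgroup.commutator_comm]; exact heq
  refine ⟨E, hE, hEA, hEP, hk, hj', heq', le_antisymm (sup_le le_sup_left hE.2) (sup_le le_sup_left ?_)⟩
  rcases hcase with rfl | ⟨a, ha, b, hb, hb1, hmem⟩
  · exact le_sup_right
  · have hbN : b ∈ A ⊔ E := by
      have := mul_mem (Subgroup.mem_sup_left (T := E) (inv_mem ha)) (Subgroup.mem_sup_right hmem)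
      rwa [inv_mul_cancel_left] at this
    rw [← heq'] at hbN ⊢
    rcases mem_sup_commutator hS hA hj' hbN with h | ⟨x, hx, h⟩
    · rw [members_eq hS hpart hB.1.1 (heq'.symm ▸ hE.1) hb1 hb h]
      exact le_sup_right
    · rw [members_eq hS hpart hB.1.1 (hS.conj_mem A hA x) hb1 hb h]
      exact cj_le_sup hS hj' hx

/-- Any member of a line has a line partner with which it generates the line. -/
theorem line_rebase {A B C : Subgroup G} (hA : A ∈ S) (hB : B ∈ linePartners S A)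
    (hC : C ∈ membersIn S (A ⊔ B)) : ∃ D ∈ linePartners S C, C ⊔ D = A ⊔ B := by
  obtain ⟨P, hP, hAP⟩ := hpart A hA
  obtain ⟨E, hE, hEA, -, hk, hj, heq, hN⟩ := line_struct hS hpart hA hB hP hAP
  have key : ∀ D : Subgroup G, D ∈ membersIn S (A ⊔ B) → C ≠ D → C ⊔ D = A ⊔ B → D ∈ linePartners S C := by
    intro D hD hne hsup
    refine ⟨⟨hD.1, hne.symm, ?_⟩, ?_⟩
    · rw [eq_bot_iff, Subgroup.commutator_le]
      intro c hc d hd
      rw [Subgroup.mem_bot, commutatorElement_eq_one_iff_mul_comm]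
      exact members_commute hS hpart hA hB hC.2 hD.2 c hc d hd
    · rw [hsup]; exact hB.2
  have hmem : C ∈ membersIn S (A ⊔ ⁅A, ⁅E, P⁆⁆) := by rw [heq, hN]; exact hC
  rw [membersIn_eq hS hP hAP hA hk.1 hj] at hmem
  rcases hmem with ⟨x, hx, rfl⟩ | hmem
  · have hfix : conjBy E x = E := by
      have h := cj_commutator hS hP hAP hA hk.1 hj hx
      rwa [heq] at h
    have hne : conjBy A x ≠ E := fun e => hEA (by rw [← hfix] at e; exact (cj_inj e).symm)
    have hNx : conjBy (A ⊔ B) x = A ⊔ B := by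
      have h1 : ∀ y ∈ ⁅E, P⁆, conjBy (A ⊔ B) y ≤ A ⊔ B := by
        intro y hy
        rw [← hN, cj_sup, sup_le_iff]
        refine ⟨?_, ?_⟩
        · have := cj_le_sup hS hj hy
          rwa [heq] at this
        · have h := cj_commutator hS hP hAP hA hk.1 hj hy
          rw [heq] at h
          rw [h]; exact le_sup_right
      refine le_antisymm (h1 x hx) ?_
      have h2 := cj_mono (h1 x⁻¹ (inv_mem hx)) x
      rwa [cj_cj, mul_inv_cancel, cj_one] at h2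
    have hsup : conjBy A x ⊔ E = A ⊔ B := by
      conv_lhs => rw [← hfix, ← cj_sup, hN, hNx]
    exact ⟨E, key E hE hne hsup, hsup⟩
  · rw [Set.mem_singleton_iff, heq] at hmem
    subst hmem
    exact ⟨A, key A ⟨hA, le_sup_left⟩ hEA (by rw [sup_comm, hN]), by rw [sup_comm, hN]⟩

/-- The subgroup generated by the members normalizing `N`. -/
def normGen (S : Set (Subgroup G)) (N : Subgroup G) : Subgroup G := ⨆ E ∈ normalizingMembers S N, E

/-- `E` is fixed by a group of normalizing elements transitive on the other members of the line. -/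
def TransFix (S : Set (Subgroup G)) (N E : Subgroup G) : Prop :=
  E ∈ membersIn S N ∧ ∀ C₁ ∈ membersIn S N, ∀ C₂ ∈ membersIn S N, C₁ ≠ E → C₂ ≠ E →
    ∃ x ∈ normGen S N, conjBy E x = E ∧ conjBy C₁ x = C₂

omit hpart in
theorem normGen_fix {N : Subgroup G} {x : G} (hx : x ∈ normGen S N) : conjBy N x = N := by
  have h : normGen S N ≤ Subgroup.normalizer (N : Set G) := iSup₂_le fun E hE => hE.2
  exact cj_eq_self.mpr (h hx)

theorem members_cj {N : Subgroup G} {x : G} (hx : x ∈ normGen S N) {C : Subgroup G} (hC : C ∈ membersIn S N) :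
    conjBy C x ∈ membersIn S N :=
  ⟨hS.conj_mem C hC.1 x, (cj_mono hC.2 x).trans (normGen_fix hS hx).le⟩

theorem transFix_cj {N E : Subgroup G} {x : G} (hx : x ∈ normGen S N) (h : TransFix S N E) :
    TransFix S N (conjBy E x) := by
  refine ⟨members_cj hS hpart hx h.1, fun C₁ h₁ C₂ h₂ n₁ n₂ => ?_⟩
  obtain ⟨y, hy, e1, e2⟩ := h.2 (conjBy C₁ x⁻¹) (members_cj hS hpart (inv_mem hx) h₁) (conjBy C₂ x⁻¹)
    (members_cj hS hpart (inv_mem hx) h₂)
    (fun e => n₁ (by rw [← e, cj_cj, mul_inv_cancel, cj_one]))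
    (fun e => n₂ (by rw [← e, cj_cj, mul_inv_cancel, cj_one]))
  refine ⟨x * y * x⁻¹, mul_mem (mul_mem hx hy) (inv_mem hx), ?_, ?_⟩
  · rw [cj_cj, inv_mul_cancel_right, ← cj_cj E y x, e1]
  · rw [mul_assoc, ← cj_cj C₁ (y * x⁻¹) x, ← cj_cj C₁ x⁻¹ y, e2, cj_cj, mul_inv_cancel, cj_one]

theorem transFix_of_partner {A B P : Subgroup G} (hA : A ∈ S) (hB : B ∈ linePartners S A) (hP : P ∈ S)
    (hAP : IsRankOnePair A P) :
    ∃ E, TransFix S (A ⊔ B) E ∧ E ≠ A := by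
  obtain ⟨E, hE, hEA, -, hk, hj, heq, hN⟩ := line_struct hS hpart hA hB hP hAP
  refine ⟨E, ⟨hE, ?_⟩, hEA⟩
  have hfix : ∀ y ∈ ⁅E, P⁆, conjBy E y = E := fun y hy => by
    have h := cj_commutator hS hP hAP hA hk.1 hj hy
    rwa [heq] at h
  have h1 : ∀ y ∈ ⁅E, P⁆, conjBy (A ⊔ B) y ≤ A ⊔ B := by
    intro y hy
    rw [← hN, cj_sup, sup_le_iff]
    refine ⟨?_, (hfix y hy).le.trans le_sup_right⟩
    have := cj_le_sup hS hj hy
    rwa [heq] at this
  have hXn : ⁅E, P⁆ ∈ normalizingMembers S (A ⊔ B) := by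
    refine ⟨hk.1, fun y hy => cj_eq_self.mp (le_antisymm (h1 y hy) ?_)⟩
    have h2 := cj_mono (h1 y⁻¹ (inv_mem hy)) y
    rwa [cj_cj, mul_inv_cancel, cj_one] at h2
  have hle : ⁅E, P⁆ ≤ normGen S (A ⊔ B) := le_iSup₂ (f := fun E (_ : E ∈ normalizingMembers S (A ⊔ B)) => E) _ hXn
  have horb : ∀ C ∈ membersIn S (A ⊔ B), C ≠ E → ∃ y ∈ ⁅E, P⁆, C = conjBy A y := by
    intro C hC hne
    have hmem : C ∈ membersIn S (A ⊔ ⁅A, ⁅E, P⁆⁆) := by rw [heq, hN]; exact hC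
    rw [membersIn_eq hS hP hAP hA hk.1 hj] at hmem
    rcases hmem with ⟨y, hy, e⟩ | hmem
    · exact ⟨y, hy, e.symm⟩
    · rw [Set.mem_singleton_iff, heq] at hmem
      exact absurd hmem hne
  intro C₁ h₁ C₂ h₂ n₁ n₂
  obtain ⟨y₁, hy₁, rfl⟩ := horb C₁ h₁ n₁
  obtain ⟨y₂, hy₂, rfl⟩ := horb C₂ h₂ n₂
  exact ⟨y₂ * y₁⁻¹, hle (mul_mem hy₂ (inv_mem hy₁)), hfix _ (mul_mem hy₂ (inv_mem hy₁)),
    by rw [cj_cj, inv_mul_cancel_right]⟩

/-- The members normalizing a line generate a group doubly transitive on its members. -/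
theorem line_two_transitive {A B : Subgroup G} (hA : A ∈ S) (hB : B ∈ linePartners S A)
    {C₁ C₂ D₁ D₂ : Subgroup G} (h1 : C₁ ∈ membersIn S (A ⊔ B)) (h2 : C₂ ∈ membersIn S (A ⊔ B))
    (h3 : D₁ ∈ membersIn S (A ⊔ B)) (h4 : D₂ ∈ membersIn S (A ⊔ B)) (hC : C₁ ≠ C₂) (hD : D₁ ≠ D₂) :
    ∃ x ∈ normGen S (A ⊔ B), conjBy C₁ x = D₁ ∧ conjBy C₂ x = D₂ := by
  obtain ⟨PA, hPA, hAPA⟩ := hpart A hA
  obtain ⟨E₀, hE₀, hE₀A⟩ := transFix_of_partner hS hpart hA hB hPA hAPA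
  obtain ⟨D, hD', hDN⟩ := line_rebase hS hpart hA hB hE₀.1
  obtain ⟨P₀, hP₀, hEP₀⟩ := hpart E₀ hE₀.1.1
  obtain ⟨E₁, hE₁, hne⟩ := transFix_of_partner hS hpart hE₀.1.1 hD' hP₀ hEP₀
  rw [hDN] at hE₁
  have hall : ∀ C ∈ membersIn S (A ⊔ B), TransFix S (A ⊔ B) C := by
    intro C hC'
    by_cases e1 : C = E₁
    · exact e1 ▸ hE₁
    obtain ⟨x, hx, -, e⟩ := hE₁.2 E₀ hE₀.1 C hC' hne.symm e1
    exact e ▸ transFix_cj hS hpart hx hE₀
  -- a third member of the line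
  have hthird : ∀ U V : Subgroup G, ∃ W ∈ membersIn S (A ⊔ B), W ≠ U ∧ W ≠ V := by
    intro U V
    have hAB : A ≠ B := hB.1.2.1.symm
    have hAin : A ∈ membersIn S (A ⊔ B) := ⟨hA, le_sup_left⟩
    have hBin : B ∈ membersIn S (A ⊔ B) := ⟨hB.1.1, le_sup_right⟩
    obtain ⟨a, ha, ha1⟩ := exists_ne_one hAPA
    obtain ⟨PB, -, hBPB⟩ := hpart B hB.1.1
    obtain ⟨b, hb, hb1⟩ := exists_ne_one hBPB
    obtain ⟨-, F, hF, hmem⟩ := line_mul_mem hS hpart hA hB hAin hBin hAB a ha b hb ha1 hb1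
    have hFA : F ≠ A := fun e => by
      have hbA : b ∈ A := by
        have := mul_mem (inv_mem ha) (show a * b ∈ A from e ▸ hmem)
        rwa [inv_mul_cancel_left] at this
      exact hAB (members_eq hS hpart hA hB.1.1 hb1 hbA hb)
    have hFB : F ≠ B := fun e => by
      have haB : a ∈ B := by
        have := mul_mem (show a * b ∈ B from e ▸ hmem) (inv_mem hb)
        rwa [mul_inv_cancel_right] at this
      exact hAB (members_eq hS hpart hA hB.1.1 ha1 ha haB)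
    by_cases hU : A = U ∨ A = V
    · by_cases hV : B = U ∨ B = V
      · refine ⟨F, hF, ?_, ?_⟩ <;> rintro rfl <;> aesop
      · exact ⟨B, hBin, fun e => hV (Or.inl e), fun e => hV (Or.inr e)⟩
    · exact ⟨A, hAin, fun e => hU (Or.inl e), fun e => hU (Or.inr e)⟩
  obtain ⟨E, hE, n1, n2⟩ := hthird C₁ D₁
  obtain ⟨x, hx, -, ex⟩ := (hall E hE).2 C₁ h1 D₁ h3 n1.symm n2.symm
  have hC2 : conjBy C₂ x ≠ D₁ := fun e => hC (cj_inj (ex.trans e.symm))
  obtain ⟨y, hy, ey1, ey2⟩ := (hall D₁ h3).2 _ (members_cj hS hpart hx h2) D₂ h4 hC2 hD.symm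
  exact ⟨y * x, mul_mem hy hx, by rw [← cj_cj, ex, ey1], by rw [← cj_cj, ey2]⟩

end CfsgLib.RootSub
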