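/-
Classes of root subgroups: partners, lines through every member.
-/
import Mathlib
import Cfsg.Prelude.Def_RootSubgroups
import Cfsg.Agent.Lib.RootSub.LineStruct
import Cfsg.Agent.Lib.RootSub.Opposite

set_option autoImplicit false
set_option linter.unusedSectionVars false

open Cfsg
open scoped commutatorElement

namespace CfsgLib.RootSub

variable {G : Type*} [Group G] {S : Set (Subgroup G)}

theorem class_partner (hS : IsRootSubgroupClass S) (h : ∃ A ∈ S, ∃ B ∈ S, IsRankOnePair A B) :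
    ∀ Y ∈ S, ∃ P ∈ S, IsRankOnePair Y P := by
  intro Y hY
  obtain ⟨A, hA, B, hB, hp⟩ := h
  obtain ⟨g, rfl⟩ := hS.2.2 A hA Y hY
  exact ⟨conjBy B g, hS.1.conj_mem B hB g, pair_cj hp g⟩

theorem membersIn_cj (hS : IsRootSubgroupSet S) (N : Subgroup G) (g : G) {C : Subgroup G}
    (hC : C ∈ membersIn S N) : conjBy C g ∈ membersIn S (conjBy N g) :=
  ⟨hS.conj_mem C hC.1 g, cj_mono hC.2 g⟩

theorem linePartners_cj (hS : IsRootSubgroupSet S) {A B : Subgroup G} (hB : B ∈ linePartners S A) (g : G) :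
    conjBy B g ∈ linePartners S (conjBy A g) := by
  refine ⟨⟨hS.conj_mem B hB.1.1 g, fun e => hB.1.2.1 (cj_inj e), ?_⟩, ?_, ?_, ?_⟩
  · rw [conjBy, conjBy, ← Subgroup.map_commutator, hB.1.2.2, Subgroup.map_bot]
  · exact fun C hC => hC.2
  · intro x hx hx1
    rw [← cj_sup, mem_cj] at hx
    obtain ⟨C, hC, hxC⟩ := hB.2.2.1 _ hx (fun e => hx1 (by
      calc x = g * (g⁻¹ * x * g) * g⁻¹ := by group
        _ = 1 := by rw [e]; group))
    refine ⟨conjBy C g, ?_, mem_cj.mpr hxC⟩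
    rw [← cj_sup]
    exact membersIn_cj hS _ g hC
  · intro C hC D hD hne
    rw [← cj_sup] at hC hD
    have hback : ∀ {U : Subgroup G}, U ∈ membersIn S (conjBy (A ⊔ B) g) → conjBy U g⁻¹ ∈ membersIn S (A ⊔ B) := by
      intro U hU
      have h := membersIn_cj hS _ g⁻¹ hU
      rwa [cj_cj, inv_mul_cancel, cj_one] at h
    have h1 := hB.2.2.2 _ (hback hC) _ (hback hD) (fun e => hne (cj_inj e))
    rw [eq_bot_iff] at h1 ⊢
    intro x hx
    have h2 : g⁻¹ * x * g = 1 := Subgroup.mem_bot.mp (h1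
      ⟨mem_cj.mpr (by simpa [mul_assoc] using hx.1), mem_cj.mpr (by simpa [mul_assoc] using hx.2)⟩)
    rw [Subgroup.mem_bot]
    calc x = g * (g⁻¹ * x * g) * g⁻¹ := by group
      _ = 1 := by rw [h2]; group

theorem exists_linePartner (hS : IsRootSubgroupClass S) (hnd : IsNondegenerateRootSet S) :
    ∀ A ∈ S, ∃ B, B ∈ linePartners S A := by
  intro A hA
  obtain ⟨U, hU, V, hV, hk⟩ := hnd.2.2
  obtain ⟨P, hP, hp⟩ := class_partner hS hnd.2.1 U hU
  have h1 := mem_linePartners hS.1 hP hp hU hV hk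
  obtain ⟨g, rfl⟩ := hS.2.2 _ hk.1 A hA
  exact ⟨_, linePartners_cj hS.1 h1 g⟩

/-- A rank one pair of a non-degenerate class comes from opposite commutator partners. -/
theorem nondeg_pair (hS : IsRootSubgroupClass S) (hnd : IsNondegenerateRootSet S) {A B : Subgroup G}
    (hA : A ∈ S) (hB : B ∈ S) (hp : IsRankOnePair A B) :
    ∃ E ∈ linePartners S A, ¬ IsRankOnePair E B ∧ RootCommutatorCase S E B ∧ RootCommutatorCase S A ⁅E, B⁆ ∧
      ⁅A, ⁅E, B⁆⁆ = E := by
  have hpart := class_partner hS hnd.2.1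
  obtain ⟨C, hC⟩ := exists_linePartner hS hnd A hA
  obtain ⟨E, hE, hEA, hEB, hk, hj, heq, hN⟩ := line_struct hS.1 hpart hA hC hB hp
  refine ⟨E, ⟨⟨hE.1, hEA, ?_⟩, ?_⟩, hEB, hk, hj, heq⟩
  · rw [eq_bot_iff, Subgroup.commutator_le]
    intro a ha c hc
    rw [Subgroup.mem_bot, commutatorElement_eq_one_iff_mul_comm]
    exact members_commute hS.1 hpart hA hC le_sup_left hE.2 a ha c hc
  · rw [hN]; exact hC.2

end CfsgLib.RootSub
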