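/-
Commuting members with a common partner: any invariant relation between them is symmetric.
-/
import Mathlib
import Cfsg.Prelude.Def_RootSubgroups
import Cfsg.Agent.Lib.RootSub.LineStruct
import Cfsg.Agent.Lib.RootSub.Opposite
import Cfsg.Agent.Lib.RootSub.Triangle

set_option autoImplicit false
set_option linter.unusedSectionVars false

open Cfsg
open scoped commutatorElement

namespace CfsgLib.RootSub

variable {G : Type*} [Group G] {S : Set (Subgroup G)}

theorem commute_cj {X Y : Subgroup G} (h : ∀ x ∈ X, ∀ y ∈ Y, x * y = y * x) (g : G) :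
    ∀ x ∈ conjBy X g, ∀ y ∈ conjBy Y g, x * y = y * x := by
  intro x hx y hy
  have h1 := h _ (mem_cj.mp hx) _ (mem_cj.mp hy)
  calc x * y = g * ((g⁻¹ * x * g) * (g⁻¹ * y * g)) * g⁻¹ := by group
    _ = g * ((g⁻¹ * y * g) * (g⁻¹ * x * g)) * g⁻¹ := by rw [h1]
    _ = y * x := by group

/-- An invariant relation between two commuting members with a common rank one partner is symmetric. -/
theorem swap_of_invariant {A C Q : Subgroup G} (hAC : ∀ a ∈ A, ∀ c ∈ C, a * c = c * a)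
    (hpA : IsRankOnePair A Q) (hpC : IsRankOnePair C Q) (R : Subgroup G → Subgroup G → Prop)
    (hR : ∀ X Y : Subgroup G, ∀ g : G, R X Y → R (conjBy X g) (conjBy Y g)) (h : R A C) : R C A := by
  obtain ⟨q, hq, hq1⟩ := exists_ne_one (pair_symm hpA)
  obtain ⟨a, ha, -, ea⟩ := hpA.cond_right q hq hq1
  obtain ⟨c, hc, hc1, ec⟩ := hpC.cond_right q hq hq1
  obtain ⟨q₂, hq₂, hq₂1, ec₂⟩ := hpC.cond_left c⁻¹ (inv_mem hc) (inv_ne_one.mpr hc1)
  obtain ⟨a₃, ha₃, -, ea₃⟩ := hpA.cond_right q₂ hq₂ hq₂1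
  rw [inv_inv] at ec₂
  have hca : c * a = a * c := (hAC a ha c hc).symm
  have k1 : ∀ x ∈ conjBy Q c, ∀ y ∈ conjBy Q a, x * y = y * x := by
    have k0 := commute_cj (commute_cj hAC q⁻¹) (c * a)
    rw [← ea, ← ec, cj_cj, cj_cj, mul_inv_cancel_right, hca, mul_inv_cancel_right] at k0
    exact k0
  have k2 : ∀ x ∈ conjBy Q c, ∀ y ∈ conjBy Q a₃⁻¹, x * y = y * x := by
    have k0 := commute_cj hAC q₂⁻¹
    rw [← ea₃, ec₂] at k0
    exact fun x hx y hy => (k0 y hy x hx).symm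
  have hae : conjBy Q a = conjBy Q a₃⁻¹ := by
    by_contra hne
    have hU := fun {g : G} (hg : g ∈ A) =>
      cj_mem_unip (right_mem_unip hpA) (x := g) (Subgroup.mem_sup_left hg)
    have hsup := (pair_of_unip hpA (hU ha) (hU (inv_mem ha₃)) hne).2
    have hfix : conjBy A c = A := cj_eq_self.mpr (Subgroup.centralizer_le_normalizer _
      (Subgroup.mem_centralizer_iff.mpr fun x hx => hAC x hx c hc))
    have hp := pair_cj hpA c
    rw [hfix] at hp
    refine not_centralizes hp fun x hx y hy => ?_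
    have hle : conjBy Q a ⊔ conjBy Q a₃⁻¹ ≤ Subgroup.centralizer {y} := sup_le
      (fun z hz => Subgroup.mem_centralizer_iff.mpr fun w hw => by
        rw [Set.mem_singleton_iff.mp hw]; exact k1 y hy z hz)
      (fun z hz => Subgroup.mem_centralizer_iff.mpr fun w hw => by
        rw [Set.mem_singleton_iff.mp hw]; exact k2 y hy z hz)
    rw [hsup] at hle
    exact (Subgroup.mem_centralizer_iff.mp (hle (Subgroup.mem_sup_left hx)) y rfl).symm
  -- the two transports of `R A C`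
  have h2 : R Q (conjBy Q (c * a⁻¹)) := by
    have h' := hR _ _ a⁻¹ (hR A C q₂⁻¹ h)
    rw [← ea₃, ec₂, ← hae, cj_cj, cj_cj, inv_mul_cancel, cj_one] at h'
    rwa [show a⁻¹ * c = c * a⁻¹ from ((show Commute a c from hAC a ha c hc).inv_left).eq] at h'
  have h3 := hR _ _ q (hR _ _ c⁻¹ h2)
  rwa [cj_cj Q (c * a⁻¹) c⁻¹, inv_mul_cancel_left, ec, ea, cj_cj, cj_cj, mul_inv_cancel, cj_one, cj_one] at h3

variable (hS : IsRootSubgroupSet S) (hpart : ∀ Y ∈ S, ∃ P ∈ S, IsRankOnePair Y P)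
include hS hpart

/-- On the line of a commutator case there is a member moving the commutator back. -/
theorem exists_opposite {A B : Subgroup G} (hA : A ∈ S) (hB : B ∈ S) (h : RootCommutatorCase S A B) :
    ∃ D ∈ S, ⁅D, ⁅A, B⁆⁆ = A ∧ D ∈ linePartners S A ∧ IsRankOnePair B D := by
  obtain ⟨PA, hPA, hAPA⟩ := hpart A hA
  have hK : A ∈ linePartners S ⁅A, B⁆ := mem_linePartners hS hPA hAPA hA hB h
  obtain ⟨Q, hQ, hKQ⟩ := hpart _ h.1
  obtain ⟨E, hE, hEK, -, hk, hj, heq, hN⟩ := line_struct hS hpart h.1 hK hQ hKQ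
  obtain ⟨z, hz, ez1, ez2⟩ := line_two_transitive hS hpart h.1 hK ⟨h.1, le_sup_left⟩ hE
    ⟨h.1, le_sup_left⟩ ⟨hA, le_sup_right⟩ hEK.symm hK.1.2.1.symm
  have hD : conjBy ⁅E, Q⁆ z ∈ S := hS.conj_mem _ hk.1 z
  have hDK : ⁅conjBy ⁅E, Q⁆ z, ⁅A, B⁆⁆ = A := by
    rw [Subgroup.commutator_comm]
    calc ⁅⁅A, B⁆, conjBy ⁅E, Q⁆ z⁆ = ⁅conjBy ⁅A, B⁆ z, conjBy ⁅E, Q⁆ z⁆ := by rw [ez1]
      _ = A := by rw [conjBy, conjBy, ← Subgroup.map_commutator, heq]; exact ez2
  refine ⟨_, hD, hDK, ?_, opp_pair hS hA hB h.1 hD hDK⟩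
  obtain ⟨R, hR, hDR⟩ := hpart _ hD
  have hkD := commCase_of_mem hS hD h.1 (by rw [hDK]; exact hA)
  have h1 := mem_linePartners hS hR hDR hD h.1 hkD
  rw [hDK] at h1
  exact h1

/-- At most one member of a line fails to form a rank one pair with a partner of one of its points. -/
theorem nonpair_unique {A B P U V : Subgroup G} (hA : A ∈ S) (hB : B ∈ linePartners S A) (hP : P ∈ S)
    (hAP : IsRankOnePair A P) (hU : U ∈ membersIn S (A ⊔ B)) (hV : V ∈ membersIn S (A ⊔ B))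
    (hUP : ¬ IsRankOnePair U P) (hVP : ¬ IsRankOnePair V P) : U = V := by
  obtain ⟨E, hE, -, -, hk, hj, heq, hN⟩ := line_struct hS hpart hA hB hP hAP
  have key : ∀ W ∈ membersIn S (A ⊔ B), ¬ IsRankOnePair W P → W = E := by
    intro W hW hn
    have hmem : W ∈ membersIn S (A ⊔ ⁅A, ⁅E, P⁆⁆) := by rw [heq, hN]; exact hW
    rw [membersIn_eq hS hP hAP hA hk.1 hj] at hmem
    rcases hmem with ⟨x, hx, e⟩ | hmem
    · have hfix : conjBy P x = P := cj_eq_self.mpr (Subgroup.centralizer_le_normalizer _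
        (Subgroup.mem_centralizer_iff.mpr fun p hp =>
          (hk.2.1 x hx p (Subgroup.mem_sup_right hp)).symm))
      have hp := pair_cj hAP x
      rw [hfix] at hp
      exact absurd (e ▸ hp) hn
    · rwa [Set.mem_singleton_iff, heq] at hmem
  rw [key U hU hUP, key V hV hVP]

/-- A line has a member off two given ones. -/
theorem line_third {A B P : Subgroup G} (hA : A ∈ S) (hB : B ∈ linePartners S A) (hP : P ∈ S)
    (hAP : IsRankOnePair A P) :
    ∃ W ∈ membersIn S (A ⊔ B), W ≠ A ∧ IsRankOnePair W P := by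
  obtain ⟨E, hE, -, -, hk, hj, heq, hN⟩ := line_struct hS hpart hA hB hP hAP
  obtain ⟨R, -, hFR⟩ := hpart _ hk.1
  obtain ⟨w, hw, hw1⟩ := exists_ne_one hFR
  refine ⟨conjBy A w, ⟨hS.conj_mem A hA w, ?_⟩, fun e => ?_, ?_⟩
  · rw [← hN]
    exact (cj_le_sup hS hj hw).trans_eq (by rw [heq])
  · obtain ⟨a, ha, ha1⟩ := exists_ne_one hAP
    have h2 : ⁅a, w⁆ ∈ A := by
      rw [show ⁅a, w⁆ = a * (w * a⁻¹ * w⁻¹) by rw [commutatorElement_def]; group]
      exact mul_mem ha (e ▸ conj_mem_cj w (inv_mem ha))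
    exact ne_commutator hS hP hAP hj (members_eq hS hpart hA hj.1
      (comm_ne_one hS hP hAP hA hk.1 hj ha ha1 hw hw1) h2 (Subgroup.commutator_mem_commutator ha hw))
  · have hfix : conjBy P w = P := cj_eq_self.mpr (Subgroup.centralizer_le_normalizer _
      (Subgroup.mem_centralizer_iff.mpr fun p hp =>
        (hk.2.1 w hw p (Subgroup.mem_sup_right hp)).symm))
    have hp := pair_cj hAP w
    rwa [hfix] at hp

/-- If a partner of `C` is in the commutator case with `A`, then `A` and `C` have a common partner. -/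
theorem common_partner {A C Q : Subgroup G} (hA : A ∈ S) (hC : C ∈ S) (hQ : Q ∈ S)
    (hQC : IsRankOnePair C Q) (hk : RootCommutatorCase S A Q) :
    ∃ M ∈ S, IsRankOnePair A M ∧ IsRankOnePair C M := by
  obtain ⟨D, hD, -, hDQ, hAD⟩ := exists_opposite hS hpart hQ hA (commCase_symm hk)
  obtain ⟨W, hW, hWQ, hWC⟩ := line_third hS hpart hQ hDQ hC (pair_symm hQC)
  refine ⟨W, hW.1, ?_, pair_symm hWC⟩
  by_contra hn
  refine hWQ ?_
  have h1 : D ⊔ Q = Q ⊔ D := sup_comm _ _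
  refine nonpair_unique hS hpart hD (line_symm hQ hDQ) hA (pair_symm hAD) (h1 ▸ hW) ⟨hQ, le_sup_right⟩
    (fun h => hn (pair_symm h)) fun h => ?_
  exact pair_not_commCase hS hA h (commCase_symm hk)

end CfsgLib.RootSub
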