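/-
A rank one pair having a member which commutes with one side and pairs with the other is special; translations
between commuting members with a common partner.
-/
import Mathlib
import Cfsg.Prelude.Def_RootSubgroups
import Cfsg.Agent.Lib.RootSub.CommonPartner

set_option autoImplicit false
set_option linter.unusedSectionVars false

open Cfsg
open scoped commutatorElement

namespace CfsgLib.RootSub

variable {G : Type*} [Group G]

theorem cj_eq_of_commute {X : Subgroup G} {g : G} (h : ∀ x ∈ X, x * g = g * x) : conjBy X g = X :=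
  cj_eq_self.mpr (Subgroup.centralizer_le_normalizer _ (Subgroup.mem_centralizer_iff.mpr h))

theorem eq_one_of_cj_eq {A B : Subgroup G} (h : IsRankOnePair A B) {x y : G} (hx : x ∈ B) (hy : y ∈ B)
    (e : conjBy A x = conjBy A y) : x = y := by
  have h1 : conjBy A (x⁻¹ * y) = A := by rw [← cj_cj, ← e, cj_cj, inv_mul_cancel, cj_one]
  have h2 := eq_one_of_normalizes (pair_symm h) (mul_mem (inv_mem hx) hy) (cj_eq_self.mp h1)
  exact (inv_mul_eq_one.mp h2)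

/-- If the partner map commutes with inversion, the pair is special. -/
theorem special_of_inv {A B : Subgroup G} (hp : IsRankOnePair A B)
    (h : ∀ a ∈ A, a ≠ 1 → ∀ b ∈ B, b ≠ 1 → conjBy A b⁻¹ = conjBy B a⁻¹ → conjBy A b = conjBy B a) :
    IsSpecialRankOnePair A B := by
  refine ⟨hp, fun a ha ha1 b hb hb1 e => ?_⟩
  have e2 := h a ha ha1 b hb hb1 e
  set q := a * (b⁻¹ * a * b) * a⁻¹ with hq
  have hqB : q ∈ B := by
    have h1 : b⁻¹ * a * b ∈ conjBy B a⁻¹ := by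
      rw [← e]
      simpa using conj_mem_cj b⁻¹ ha
    rw [mem_cj, inv_inv] at h1
    exact h1
  have hqinv : q⁻¹ = a * (b⁻¹ * (a⁻¹ * (b * a⁻¹))) := by rw [hq]; group
  have h3 : conjBy A q⁻¹ = conjBy A b := by
    rw [hqinv]
    rw [← cj_cj A (b⁻¹ * (a⁻¹ * (b * a⁻¹))) a, ← cj_cj A (a⁻¹ * (b * a⁻¹)) b⁻¹, ← cj_cj A (b * a⁻¹) a⁻¹,
      ← cj_cj A a⁻¹ b, cj_of_mem (inv_mem ha), e2, cj_cj B a a⁻¹, inv_mul_cancel, cj_one,
      cj_of_mem (inv_mem hb)]
  have hqb : q = b⁻¹ := by rw [← eq_one_of_cj_eq hp (inv_mem hqB) hb h3, inv_inv]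
  calc b⁻¹ * a * b = a⁻¹ * q * a := by rw [hq]; group
    _ = a⁻¹ * b⁻¹ * a := by rw [hqb]

/-- A rank one pair `A`, `B` with a member `C ≠ A` commuting with `A` and pairing with `B` is special. -/
theorem special_of_commuting {A B C : Subgroup G} [IsMulCommutative A]
    (hAC : ∀ a ∈ A, ∀ c ∈ C, a * c = c * a)
    (hne : C ≠ A) (hp : IsRankOnePair A B) (hpC : IsRankOnePair C B) : IsSpecialRankOnePair A B := by
  refine special_of_inv hp fun a ha ha1 b hb hb1 e => ?_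
  have hA : ∀ x ∈ A, ∀ y ∈ A, x * y = y * x := fun x hx y hy =>
    congrArg Subtype.val (mul_comm' (⟨x, hx⟩ : A) ⟨y, hy⟩)
  obtain ⟨a₂, ha₂, -, e₂⟩ := hp.cond_right b⁻¹ (inv_mem hb) (inv_ne_one.mpr hb1)
  rw [inv_inv] at e₂
  obtain ⟨c, hc, -, ec⟩ := hpC.cond_right b hb hb1
  set w := c * a⁻¹ with hw
  have hwA : ∀ x ∈ A, x * w = w * x := fun x hx =>
    (Commute.mul_right (show Commute x c from hAC x hx c hc) (show Commute x a⁻¹ from hA x hx _ (inv_mem ha))).eq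
  set W := conjBy B w with hW
  have hWB : ∀ x ∈ W, ∀ y ∈ B, x * y = y * x := by
    have h := commute_cj (commute_cj hAC b⁻¹) c
    rw [← ec, e, cj_cj B a⁻¹ c, cj_cj B c⁻¹ c, mul_inv_cancel, cj_one] at h
    exact h
  have hWne : W ≠ B := by
    intro h
    have h1 : conjBy B a⁻¹ = conjBy B c⁻¹ := by
      conv_rhs => rw [← h, hW, cj_cj, hw, inv_mul_cancel_left]
    rw [← e, ec] at h1
    exact hne (cj_inj h1).symm
  -- commutators of elements of `B` with `w`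
  have key : ∀ q ∈ B, ∀ a₀ ∈ A, conjBy A q = conjBy B a₀⁻¹ →
      conjBy W (a₀ * (q * w * q⁻¹ * w⁻¹) * a₀⁻¹ * (q * w * q⁻¹ * w⁻¹)⁻¹) = B := by
    intro q hq a₀ ha₀ e₀
    have hqW : ∀ {x : G}, x ∈ B → conjBy W x = W := fun {x} hx => cj_eq_of_commute fun y hy => hWB y hy x hx
    have s1 : conjBy W (q * w * q⁻¹ * w⁻¹)⁻¹ = W := by
      rw [show (q * w * q⁻¹ * w⁻¹)⁻¹ = w * (q * (w⁻¹ * q⁻¹)) by group, ← cj_cj W (q * (w⁻¹ * q⁻¹)) w,
        ← cj_cj W (w⁻¹ * q⁻¹) q, ← cj_cj W q⁻¹ w⁻¹, hqW (inv_mem hq), hW, cj_cj B w w⁻¹, inv_mul_cancel, cj_one,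
        cj_of_mem hq]
    have s2 : conjBy W a₀⁻¹ = conjBy (conjBy A q) w := by
      rw [hW, e₀, cj_cj, cj_cj, hwA _ (inv_mem ha₀)]
    rw [← cj_cj W (q * w * q⁻¹ * w⁻¹)⁻¹, s1, ← cj_cj W a₀⁻¹, s2, cj_cj, cj_cj,
      show a₀ * (q * w * q⁻¹ * w⁻¹) * w * q = a₀ * (q * w) by group, ← cj_cj A (q * w) a₀,
      ← cj_cj A w q, cj_eq_of_commute hwA, e₀, cj_cj, mul_inv_cancel, cj_one]
  set m := b * w * b⁻¹ * w⁻¹ with hm
  have k2 := key b hb a₂ ha₂ e₂.symm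
  have k1 := key b⁻¹ (inv_mem hb) a ha e
  rw [← hm] at k2
  have hmin : b⁻¹ * w * b⁻¹⁻¹ * w⁻¹ = m⁻¹ := by
    have h1 : w * b * w⁻¹ ∈ W := conj_mem_cj w hb
    have h2 := hWB _ h1 _ (inv_mem hb)
    rw [hm, inv_inv]
    calc b⁻¹ * w * b * w⁻¹ = b⁻¹ * (w * b * w⁻¹) := by group
      _ = (w * b * w⁻¹) * b⁻¹ := h2.symm
      _ = (b * w * b⁻¹ * w⁻¹)⁻¹ := by group
  rw [hmin, inv_inv] at k1
  have hmW : conjBy W m = W := by
    have h1 : w * b⁻¹ * w⁻¹ ∈ W := conj_mem_cj w (inv_mem hb)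
    rw [hm, show b * w * b⁻¹ * w⁻¹ = b * (w * b⁻¹ * w⁻¹) by group, ← cj_cj W _ b, cj_of_mem h1]
    exact cj_eq_of_commute fun y hy => hWB y hy b hb
  have hmB : conjBy B m = B := by
    have h1 : w * b⁻¹ * w⁻¹ ∈ W := conj_mem_cj w (inv_mem hb)
    rw [hm, show b * w * b⁻¹ * w⁻¹ = b * (w * b⁻¹ * w⁻¹) by group, ← cj_cj B _ b,
      cj_eq_of_commute fun y hy => (hWB _ h1 y hy).symm, cj_of_mem hb]
  -- the member `A^m` commutes with `A`
  have hAm : ∀ x ∈ A, ∀ y ∈ conjBy A m, x * y = y * x := by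
    have h := commute_cj (commute_cj hWB a⁻¹) b
    rw [hW, cj_cj B w a⁻¹, hwA _ (inv_mem ha), ← cj_cj B a⁻¹ w, ← e, cj_cj, cj_cj, cj_cj, mul_inv_cancel,
      cj_one] at h
    have hAw : conjBy A w⁻¹ = A := cj_eq_of_commute fun x hx => ((show Commute x w from hwA x hx).inv_right).eq
    have hmA : conjBy A m = conjBy A (b * w * b⁻¹) := by
      rw [hm, ← cj_cj A w⁻¹ (b * w * b⁻¹), hAw]
    intro x hx y hy
    rw [hmA] at hy
    exact (h y hy x hx).symm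
  set γ : G → G := fun d => d * (m * d⁻¹ * m⁻¹) with hγ
  have hfix : conjBy B (γ (a₂ * a)) = B := by
    have e1 : conjBy W (γ a₂) = B := by
      rw [hγ]; simpa [mul_assoc] using k2
    have e2 : conjBy B (γ a) = W := by
      have h1 : a * m⁻¹ * a⁻¹ * m = m⁻¹ * (γ a)⁻¹ * m := by simp only [hγ]; group
      rw [h1, ← cj_cj W m, hmW, ← cj_cj W (γ a)⁻¹, cj_eq_iff, inv_inv, hmB, cj_eq_iff, inv_inv] at k1
      exact k1.symm
    have h1 : γ (a₂ * a) = γ a₂ * γ a := by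
      have hc := hAm a ha _ (conj_mem_cj m (inv_mem ha₂))
      simp only [hγ]
      calc a₂ * a * (m * (a₂ * a)⁻¹ * m⁻¹) = a₂ * a * (m * (a⁻¹ * a₂⁻¹) * m⁻¹) := by rw [mul_inv_rev]
        _ = a₂ * a * (m * (a₂⁻¹ * a⁻¹) * m⁻¹) := by rw [hA _ (inv_mem ha) _ (inv_mem ha₂)]
        _ = a₂ * (a * (m * a₂⁻¹ * m⁻¹)) * (m * a⁻¹ * m⁻¹) := by group
        _ = a₂ * (m * a₂⁻¹ * m⁻¹) * (a * (m * a⁻¹ * m⁻¹)) := by rw [hc]; group
    rw [h1, ← cj_cj, e2, e1]
  have hd : a₂ * a = 1 := by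
    by_contra hd1
    set d := a₂ * a with hd
    have hdA : d ∈ A := mul_mem ha₂ ha
    obtain ⟨x, hx, -, ex⟩ := hp.cond_left d hdA hd1
    have hpm : IsRankOnePair (conjBy A m) B := by
      have h := pair_cj hp m
      rwa [hmB] at h
    have hem : m * d⁻¹ * m⁻¹ ∈ conjBy A m := conj_mem_cj m (inv_mem hdA)
    have hem1 : m * d⁻¹ * m⁻¹ ≠ 1 := fun e => hd1 (inv_eq_one.mp (conj_eq_one_iff.mp e))
    obtain ⟨y, hy, -, ey⟩ := hpm.cond_left _ (inv_mem hem) (inv_ne_one.mpr hem1)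
    have hBe : conjBy B d⁻¹ = conjBy B (m * d⁻¹ * m⁻¹) := by
      conv_lhs => rw [← hfix, cj_cj]
      simp only [hγ]
      rw [inv_mul_cancel_left]
    rw [inv_inv] at ey
    have hU : conjBy A m = conjBy A (y * x⁻¹) := by
      rw [← cj_cj A x⁻¹ y, ex, hBe, ← ey, cj_cj (conjBy A m), mul_inv_cancel, cj_one]
    by_cases heq : conjBy A m = A
    · have hz : γ a₂ ∈ A := by
        refine mul_mem ha₂ ?_
        have := conj_mem_cj m (inv_mem ha₂)
        rwa [heq] at this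
      have e1 : conjBy W (γ a₂) = B := by rw [hγ]; simpa [mul_assoc] using k2
      rw [cj_eq_iff] at e1
      have hy' : (γ a₂)⁻¹ ∈ A ⊔ B := Subgroup.mem_sup_left (inv_mem hz)
      have hp2 := (pair_of_unip hp (right_mem_unip hp) (cj_mem_unip (right_mem_unip hp) hy') (e1 ▸ hWne.symm)).1
      exact not_centralizes hp2 fun u hu v hv => (hWB v (e1 ▸ hv) u hu).symm
    · have hp2 := (pair_of_unip hp left_mem_unip (cj_mem_unip left_mem_unip
        (Subgroup.mem_sup_right (mul_mem hy (inv_mem hx)))) (hU ▸ Ne.symm heq)).1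
      rw [← hU] at hp2
      exact not_centralizes hp2 hAm
  rw [← e₂, eq_inv_of_mul_eq_one_left hd, inv_inv]

/-- Let `B`, `C` commute and have the common partner `R`, and let every member commuting with `B` other than `B`
commute with `A`. If `B` has elements `x`, `d` with `x`, `x²`, `d`, `x d`, `x² d` non-trivial, then `A` and `B`
commute. -/
theorem commute_of_translations {S : Set (Subgroup G)} (hS : IsRootSubgroupSet S) {A B C R : Subgroup G}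
    (hB : B ∈ S) (hR : R ∈ S) (hBC : ∀ b ∈ B, ∀ c ∈ C, b * c = c * b) (hne : C ≠ B) (hC : C ∈ S)
    (hpB : IsRankOnePair B R) (hpC : IsRankOnePair C R)
    (hbad : ∀ Z ∈ S, Z ≠ B → (∀ b ∈ B, ∀ z ∈ Z, b * z = z * b) → ∀ a ∈ A, ∀ z ∈ Z, a * z = z * a)
    {x d : G} (hxB : x ∈ B) (hdB : d ∈ B) (h1 : x ≠ 1) (h2 : x * x ≠ 1) (h3 : d ≠ 1) (h4 : d * x ≠ 1)
    (h5 : d * (x * x) ≠ 1) : ∀ a ∈ A, ∀ b ∈ B, a * b = b * a := by
  haveI := hS.commutative B hB
  haveI := hS.commutative C hC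
  have hBB : ∀ u ∈ B, ∀ v ∈ B, u * v = v * u := fun u hu v hv =>
    congrArg Subtype.val (mul_comm' (⟨u, hu⟩ : B) ⟨v, hv⟩)
  obtain ⟨q, hq, hq1, eq'⟩ : ∃ q ∈ R, q ≠ 1 ∧ conjBy B q = conjBy R x⁻¹ := by
    obtain ⟨q, hq, hq1, e⟩ := hpB.cond_left x hxB h1
    exact ⟨q⁻¹, inv_mem hq, inv_ne_one.mpr hq1, e⟩
  obtain ⟨a₁, ha₁, -, e₁⟩ := hpB.cond_right q hq hq1
  obtain ⟨c₂, hc₂, -, ec₂⟩ := hpC.cond_right q⁻¹ (inv_mem hq) (inv_ne_one.mpr hq1)
  rw [inv_inv] at ec₂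
  set n := x * q * a₁⁻¹ with hn
  have hfixC : ∀ {y : G}, y ∈ B → conjBy C y = C := fun {y} hy => cj_eq_of_commute fun c hc => (hBC y hy c hc).symm
  have nB : conjBy B n = R := by
    rw [hn, ← cj_cj B a₁⁻¹, cj_of_mem (inv_mem ha₁), ← cj_cj B q x, eq', cj_cj, mul_inv_cancel, cj_one]
  have nR : conjBy R n = B := by
    rw [hn, ← cj_cj R a₁⁻¹, e₁, cj_cj, mul_inv_cancel_right, cj_of_mem hxB]
  have nC : conjBy C n = conjBy R (x * c₂⁻¹) := by
    rw [hn, ← cj_cj C a₁⁻¹, hfixC (inv_mem ha₁), ← cj_cj C q x, ← ec₂, cj_cj]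
  set u := n⁻¹ * (x * c₂⁻¹) * n with hu
  have uR : ∀ r ∈ R, r * u = u * r := by
    intro r hr
    have h := conj_mem_cj n hr
    rw [nR] at h
    have hh : Commute (n * r * n⁻¹) (x * c₂⁻¹) :=
      Commute.mul_right (hBB _ h x hxB) (hBC _ h _ (inv_mem hc₂))
    calc r * u = n⁻¹ * ((n * r * n⁻¹) * (x * c₂⁻¹)) * n := by rw [hu]; group
      _ = u * r := by rw [hh.eq, hu]; group
  have uB : conjBy B u = C := by
    rw [hu, ← cj_cj B n, nB, ← cj_cj R (x * c₂⁻¹) n⁻¹, ← nC, cj_cj, inv_mul_cancel, cj_one]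
  have uRfix : conjBy R u = R := cj_eq_of_commute uR
  have uRfix' : conjBy R u⁻¹ = R := cj_eq_of_commute fun r hr => ((show Commute r u from uR r hr).inv_right).eq
  have uq : ∀ {r : G}, r ∈ R → ∀ X : Subgroup G, conjBy (conjBy X r) u = conjBy (conjBy X u) r :=
    fun {r} hr X => by rw [cj_cj, cj_cj, uR r hr]
  set Γ : G → G := fun e => e * (u * e⁻¹ * u⁻¹) with hΓ
  have hGC : ∀ {e : G}, e ∈ B → u * e⁻¹ * u⁻¹ ∈ C := fun {e} he => uB ▸ conj_mem_cj u (inv_mem he)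
  set BC := B ⊔ C with hBCdef
  have hBCab : ∀ g ∈ BC, ∀ g' ∈ BC, g * g' = g' * g := fun g hg g' hg' => comm_sup_abelian hBC hg hg'
  have hGmem : ∀ {e : G}, e ∈ B → Γ e ∈ BC := fun {e} he =>
    mul_mem (Subgroup.mem_sup_left he) (Subgroup.mem_sup_right (hGC he))
  have hGmul : ∀ e ∈ B, ∀ f ∈ B, Γ (e * f) = Γ e * Γ f := by
    intro e he f hf
    simp only [hΓ]
    calc e * f * (u * (e * f)⁻¹ * u⁻¹) = e * f * (u * (f⁻¹ * e⁻¹) * u⁻¹) := by rw [mul_inv_rev]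
      _ = e * f * (u * (e⁻¹ * f⁻¹) * u⁻¹) := by rw [hBB _ (inv_mem hf) _ (inv_mem he)]
      _ = e * (f * (u * e⁻¹ * u⁻¹)) * (u * f⁻¹ * u⁻¹) := by group
      _ = e * (u * e⁻¹ * u⁻¹) * (f * (u * f⁻¹ * u⁻¹)) := by rw [hBC f hf _ (hGC he)]; group
  -- the points of the line through `R`
  have hLR : ∀ e ∈ B, e ≠ 1 → (∀ y ∈ conjBy R (Γ e), ∀ r ∈ R, y * r = r * y) ∧ conjBy R (Γ e) ≠ R := by
    intro e he he1
    obtain ⟨p, hp, -, ep⟩ := hpB.cond_left e⁻¹ (inv_mem he) (inv_ne_one.mpr he1)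
    rw [inv_inv] at ep
    have hc : conjBy R (u * e * u⁻¹) = conjBy C p⁻¹ := by
      rw [mul_assoc u e u⁻¹, ← cj_cj R (e * u⁻¹) u, ← cj_cj R u⁻¹ e, uRfix', ← ep, uq (inv_mem hp), uB]
    refine ⟨?_, fun h => ?_⟩
    · have h := commute_cj (commute_cj hBC p⁻¹) (u * e⁻¹ * u⁻¹)
      rw [ep, ← hc, cj_cj, cj_cj, ← hBC e he _ (hGC he),
        show u * e⁻¹ * u⁻¹ * (u * e * u⁻¹) = 1 by group, cj_one] at h
      exact h
    · apply hne
      have h' : conjBy R e = conjBy R (u * e * u⁻¹) := by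
        conv_rhs => rw [← h, cj_cj]
        simp only [hΓ]
        rw [hBC e he _ (hGC he), ← mul_assoc, show u * e * u⁻¹ * (u * e⁻¹ * u⁻¹) = 1 by group, one_mul]
      rw [hc, ← ep] at h'
      exact (cj_inj h').symm
  have hG1 : Γ 1 = 1 := by simp [hΓ]
  set L : Set (Subgroup G) := {X | ∃ e ∈ B, X = conjBy R (Γ e)} with hL
  have hR0 : R ∈ L := ⟨1, one_mem _, by rw [hG1, cj_one]⟩
  have hLcomm : ∀ X ∈ L, ∀ Y ∈ L, ∀ y ∈ X, ∀ z ∈ Y, y * z = z * y := by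
    rintro X ⟨e, he, rfl⟩ Y ⟨f, hf, rfl⟩
    by_cases hef : f = e
    · subst hef
      haveI := hS.commutative R hR
      exact fun y hy z hz => commute_cj (fun a ha b hb =>
        congrArg Subtype.val (mul_comm' (⟨a, ha⟩ : R) ⟨b, hb⟩)) _ y hy z hz
    · have hg : e * f⁻¹ ≠ 1 := fun h => hef (mul_inv_eq_one.mp h).symm
      have h := commute_cj (hLR _ (mul_mem he (inv_mem hf)) hg).1 (Γ f)
      rw [cj_cj, ← hGmul f hf _ (mul_mem he (inv_mem hf)), hBB f hf _ (mul_mem he (inv_mem hf)),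
        inv_mul_cancel_right] at h
      exact h
  set M : Subgroup G := ⨆ X ∈ L, X with hM
  have hMc : ∀ g ∈ M, ∀ X ∈ L, ∀ y ∈ X, g * y = y * g := by
    intro g hg X hX y hy
    have : M ≤ Subgroup.centralizer {y} := iSup₂_le fun Y hY z hz => Subgroup.mem_centralizer_iff.mpr
      fun w hw => by rw [Set.mem_singleton_iff.mp hw]; exact hLcomm X hX Y hY y hy z hz
    exact (Subgroup.mem_centralizer_iff.mp (this hg) y rfl).symm
  have hle : ∀ {X : Subgroup G}, X ∈ L → X ≤ M := fun {X} hX => le_iSup₂ (f := fun X (_ : X ∈ L) => X) X hX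
  have hq' : conjBy B q⁻¹ = conjBy R a₁⁻¹ := e₁.symm
  have n'C : conjBy C n⁻¹ = conjBy R (Γ a₁) := by
    rw [show n⁻¹ = a₁ * (q⁻¹ * x⁻¹) by rw [hn]; group, ← cj_cj C (q⁻¹ * x⁻¹) a₁, ← cj_cj C x⁻¹ q⁻¹,
      hfixC (inv_mem hxB), ← uB, ← uq (inv_mem hq), hq', cj_cj, cj_cj]
    conv_rhs => rw [show Γ a₁ = a₁ * (u * a₁⁻¹) * u⁻¹ by simp only [hΓ]; group, ← cj_cj, uRfix']
    rw [mul_assoc]
  have hVM : ∀ g ∈ BC, n⁻¹ * g * n ∈ M := by
    intro g hg
    have h : conjBy BC n⁻¹ ≤ M := by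
      rw [hBCdef, cj_sup, sup_le_iff, n'C]
      refine ⟨?_, hle ⟨a₁, ha₁, rfl⟩⟩
      have hB' : conjBy B n⁻¹ = R := by
        have h0 : conjBy R n = B := nR
        rw [← h0, cj_cj, inv_mul_cancel, cj_one]
      rw [hB']
      exact hle hR0
    have h' := h (conj_mem_cj n⁻¹ hg)
    rwa [inv_inv] at h'
  set U : G → G := fun e => n⁻¹ * Γ e * n with hU
  have hUM : ∀ {e : G}, e ∈ B → U e ∈ M := fun {e} he => hVM _ (hGmem he)
  have hUmul : ∀ e ∈ B, ∀ f ∈ B, U (e * f) = U e * U f := by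
    intro e he f hf
    simp only [hU, hGmul e he f hf]
    group
  -- the moved members commute with `B`, hence with `A`
  have hUcomm : ∀ e ∈ B, e ≠ 1 → conjBy B (U e) ≤ Subgroup.centralizer (A : Set G) := by
    intro e he he1
    have hb : conjBy B (U e) = conjBy (conjBy R (Γ e)) n⁻¹ := by
      simp only [hU]
      rw [← cj_cj B n, nB, ← cj_cj R (Γ e) n⁻¹]
    have hR' : conjBy R n⁻¹ = B := by rw [← nB, cj_cj, inv_mul_cancel, cj_one]
    refine fun z hz => Subgroup.mem_centralizer_iff.mpr fun a ha => hbad _ (hS.conj_mem B hB _)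
      (fun h => (hLR e he he1).2 ?_) ?_ a ha z hz
    · rw [hb, cj_eq_iff, inv_inv, nB] at h
      exact h
    · intro b hb' y hy
      have h := commute_cj (hLR e he he1).1 n⁻¹
      rw [← hb, hR'] at h
      exact (h y hy b hb').symm
  -- the first translation moves `B` to `C`
  have hUx : conjBy B (U x) = C := by
    simp only [hU, hΓ]
    rw [← cj_cj B n, nB, ← cj_cj R (x * (u * x⁻¹ * u⁻¹)) n⁻¹,
      show x * (u * x⁻¹ * u⁻¹) = x * (u * x⁻¹) * u⁻¹ by group, ← cj_cj R u⁻¹, uRfix',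
      show x * (u * x⁻¹) = x * u * x⁻¹ by group, ← cj_cj R x⁻¹, ← eq', cj_cj B q (x * u), mul_assoc x u q,
      ← uR q hq, ← cj_cj B (q * u) x, ← cj_cj B u q, uB, ← ec₂, cj_cj R c₂⁻¹ x, ← nC, cj_cj, inv_mul_cancel,
      cj_one]
  intro a ha b hb
  set v := U d with hv
  set t := U x with ht
  set z := b * (t * b⁻¹ * t⁻¹) * (t * (b * (t * b⁻¹ * t⁻¹))⁻¹ * t⁻¹) with hz
  have hzM : ∀ y ∈ M, z * y = y * z := by
    intro y hy
    have hL' : M ≤ Subgroup.centralizer {z} := by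
      refine iSup₂_le fun X hX y hy => Subgroup.mem_centralizer_iff.mpr fun w hw => ?_
      rw [Set.mem_singleton_iff.mp hw]
      set g := b * (t * b⁻¹ * t⁻¹) with hg
      have hgBC : g ∈ BC := mul_mem (Subgroup.mem_sup_left hb)
        (Subgroup.mem_sup_right (hUx ▸ conj_mem_cj t (inv_mem hb)))
      obtain ⟨e, he, rfl⟩ := hX
      have hR1 : conjBy R g⁻¹ = conjBy R (Γ b⁻¹) := by
        by_cases hb1 : b = 1
        · simp [hg, hb1, hG1, cj_one]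
        obtain ⟨p, hp, -, ep⟩ := hpB.cond_left b⁻¹ (inv_mem hb) (inv_ne_one.mpr hb1)
        rw [inv_inv] at ep
        have htr : ∀ r ∈ R, r * t = t * r := fun r hr => (hMc t (hUM hxB) R hR0 r hr).symm
        have htR : conjBy R t⁻¹ = R :=
          cj_eq_of_commute fun r hr => ((show Commute r t from htr r hr).inv_right).eq
        have hgi : g⁻¹ = b⁻¹ * (t * b * t⁻¹) := by
          have := hBC _ (inv_mem hb) _ (hUx ▸ conj_mem_cj t hb)
          rw [this, hg]; group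
        have hGi : Γ b⁻¹ = b⁻¹ * (u * b * u⁻¹) := by simp [hΓ]
        have h1 : ∀ s : G, (∀ r ∈ R, r * s = s * r) → conjBy B s = C → conjBy R s⁻¹ = R →
            conjBy R (s * b * s⁻¹) = conjBy C p⁻¹ := by
          intro s hs hsB hsR
          rw [← cj_cj R s⁻¹, hsR, ← cj_cj R b s, ← ep, cj_cj B p⁻¹ s, ← hs _ (inv_mem hp), ← cj_cj, hsB]
        rw [hgi, hGi, ← cj_cj R (t * b * t⁻¹), ← cj_cj R (u * b * u⁻¹), h1 t htr hUx htR, h1 u uR uB uRfix']
      have hy1 : g⁻¹ * y * g ∈ conjBy R (Γ (b⁻¹ * e)) := by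
        have h := conj_mem_cj g⁻¹ hy
        rw [inv_inv, cj_cj, hBCab _ (inv_mem hgBC) _ (hGmem he), ← cj_cj R g⁻¹, hR1, cj_cj,
          ← hGmul e he _ (inv_mem hb), hBB e he _ (inv_mem hb)] at h
        exact h
      have c1 := hMc t (hUM hxB) _ ⟨e, he, rfl⟩ y hy
      have c2 := hMc t (hUM hxB) _ ⟨b⁻¹ * e, mul_mem (inv_mem hb) he, rfl⟩ _ hy1
      calc z * y = g * t * g⁻¹ * (t⁻¹ * y) := by rw [hz]; group
        _ = g * t * g⁻¹ * (y * t⁻¹) := by rw [((show Commute t y from c1).inv_left).eq]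
        _ = g * (t * (g⁻¹ * y * g)) * g⁻¹ * t⁻¹ := by group
        _ = g * ((g⁻¹ * y * g) * t) * g⁻¹ * t⁻¹ := by rw [c2]
        _ = y * z := by rw [hz]; group
    exact Subgroup.mem_centralizer_iff.mp (hL' hy) z rfl
  set K := Subgroup.centralizer (A : Set G)
  have mem : ∀ e ∈ B, e ≠ 1 → U e * b * (U e)⁻¹ ∈ K := fun e he he1 => hUcomm e he he1 (conj_mem_cj _ hb)
  have htt : U (x * x) = t * t := by rw [hUmul x hxB x hxB, ht]
  have hvt : U (d * x) = v * t := by rw [hUmul d hdB x hxB, hv, ht]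
  have hvtt : U (d * (x * x)) = v * (t * t) := by rw [hUmul d hdB _ (mul_mem hxB hxB), htt, hv]
  have m1 := mem x hxB h1
  have m2 := mem (x * x) (mul_mem hxB hxB) h2
  have m3 := mem d hdB h3
  have m4 := mem (d * x) (mul_mem hdB hxB) h4
  have m5 := mem (d * (x * x)) (mul_mem hdB (mul_mem hxB hxB)) h5
  rw [htt] at m2
  rw [hvt] at m4
  rw [hvtt] at m5
  rw [← ht] at m1
  rw [← hv] at m3
  have hbz : b = v * z * v⁻¹ * (t * b * t⁻¹) * ((t * t) * b * (t * t)⁻¹)⁻¹ * (t * b * t⁻¹) := by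
    rw [← hzM v (hUM hdB), mul_inv_cancel_right, hz]
    group
  have hvz : v * z * v⁻¹ = (v * b * v⁻¹) * ((v * t) * b * (v * t)⁻¹)⁻¹ *
      ((v * (t * t)) * b * (v * (t * t))⁻¹) * ((v * t) * b * (v * t)⁻¹)⁻¹ := by
    rw [hz]; group
  have hK : b ∈ K := by
    rw [hbz, hvz]
    exact mul_mem (mul_mem (mul_mem (mul_mem (mul_mem (mul_mem m3 (inv_mem m4)) m5) (inv_mem m4)) m1)
      (inv_mem m2)) m1
  exact Subgroup.mem_centralizer_iff.mp hK a ha

end CfsgLib.RootSub
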