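/-
Sets of root involutions: lines, isolated members, odd transpositions and the 2-core.
-/
import Mathlib
import Cfsg.Prelude.Def_RootSubgroups
import Cfsg.Prelude.Def_Solvable
import Cfsg.Agent.Lib.Invol.Dihedral
import Cfsg.Agent.Lib.Baer.Basic
import Cfsg.Agent.Lib.Fitting.Basic

set_option autoImplicit false
set_option linter.unusedSectionVars false

open Cfsg

namespace CfsgLib.RootSub.Invol

variable {G : Type*} [Group G] {D : Set G}

theorem mul_self (hD : IsRootInvolutionSet D) {d : G} (hd : d ∈ D) : d * d = 1 := by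
  rw [← pow_two, ← hD.orderOf_eq d hd, pow_orderOf_eq_one]

theorem inv_eq (hD : IsRootInvolutionSet D) {d : G} (hd : d ∈ D) : d⁻¹ = d :=
  inv_eq_of_mul_eq_one_right (mul_self hD hd)

theorem odd_comm (hD : IsRootInvolutionSet D) {a b : G} (ha : a ∈ D) (hb : b ∈ D) (hc : a * b = b * a)
    (ho : Odd (orderOf (a * b))) : a = b := by
  have h1 : (a * b) * (a * b) = 1 := by
    calc (a * b) * (a * b) = (a * b) * (b * a) := by rw [← hc]
      _ = a * (b * b) * a := by group
      _ = 1 := by rw [mul_self hD hb, mul_one, mul_self hD ha]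
  have h2 := CfsgLib.Invol.eq_one_of_odd_of_sq ho h1
  calc a = a * b * b := by rw [mul_assoc, mul_self hD hb, mul_one]
    _ = b := by rw [h2, one_mul]

theorem oddAdj_symm (hD : IsRootInvolutionSet D) {a b : G} (h : OddAdj D a b) : OddAdj D b a := by
  refine ⟨h.2.1, h.1, h.2.2.1.symm, ?_⟩
  have e : b * a = (a * b)⁻¹ := by rw [mul_inv_rev, inv_eq hD h.1, inv_eq hD h.2.1]
  rw [e, orderOf_inv]
  exact h.2.2.2

theorem conj_oddAdj (hD : IsRootInvolutionSet D) (g : G) {a b : G} (h : OddAdj D a b) :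
    OddAdj D (g * a * g⁻¹) (g * b * g⁻¹) := by
  refine ⟨hD.conj_mem a h.1 g, hD.conj_mem b h.2.1 g, fun e => h.2.2.1 (by simpa using e), ?_⟩
  rw [show g * a * g⁻¹ * (g * b * g⁻¹) = (MulAut.conj g).toMonoidHom (a * b) by
      simp [MulAut.conj_apply, mul_assoc],
    orderOf_injective _ (MulAut.conj g).injective]
  exact h.2.2.2

/-- No member centralizing one point of a line meets another point with odd product. -/
theorem no_odd (hD : IsRootInvolutionSet D) {z x d : G} (hz : z ∈ D) (hd : d ∈ D)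
    (hzx : z * x = x * z) (hp : x * z ∈ D) (hdz : d * z = z * d) (ho : Odd (orderOf (d * x))) :
    d * x = 1 := by
  have hcz : Commute (d * x) z := by
    show d * x * z = z * (d * x)
    rw [mul_assoc, ← hzx, ← mul_assoc, hdz, mul_assoc]
  have hord : orderOf (d * (x * z)) = orderOf (d * x) * 2 := by
    rw [← mul_assoc, hcz.orderOf_mul_eq_mul_orderOf_of_coprime (by rw [hD.orderOf_eq z hz]; exact Nat.coprime_two_right.mpr ho),
      hD.orderOf_eq z hz]
  rcases hD.pair d hd (x * z) hp with h | h | ⟨h, -⟩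
  · have h2 : (d * (x * z)) ^ 2 = 1 := by
      rw [(show Commute d (x * z) from h).mul_pow, pow_two, pow_two, mul_self hD hd, mul_self hD hp, one_mul]
    have h3 := orderOf_dvd_of_pow_eq_one h2
    rw [hord] at h3
    have h4 := Nat.le_of_dvd two_pos h3
    obtain ⟨m, hm⟩ := ho
    exact orderOf_eq_one_iff.mp (by omega)
  · rw [hord] at h
    obtain ⟨m, hm⟩ := h
    omega
  · rw [hord] at h
    obtain ⟨m, hm⟩ := ho
    omega

/-- An element opposite to one point of a line is opposite to a second one. -/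
theorem line (hD : IsRootInvolutionSet D) {a e x : G} (ha : a ∈ D) (he : e ∈ D)
    (hae : e * a = a * e) (hf : e * a ∈ D) (hax : OddAdj D a x) :
    OddAdj D e x ∨ OddAdj D (e * a) x := by
  have hx : x ∈ D := hax.2.1
  have hxa : Odd (orderOf (x * a)) := (oddAdj_symm hD hax).2.2.2
  have key : ∀ q : G, q ∈ D → q * a = a * q → a * q ∈ D → ¬ OddAdj D q x → orderOf (q * x) = 4 ∧ (q * x) ^ 2 ∈ D := by
    intro q hq hqa hqm hn
    rcases hD.pair q hq x hx with h | h | h
    · exfalso
      have h2 := no_odd hD hq hx hqa hqm h.symm hxa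
      exact hax.2.2.1 (by
        calc a = x * x * a := by rw [mul_self hD hx, one_mul]
          _ = x := by rw [mul_assoc, h2, mul_one])
    · exfalso
      by_cases hqx : q = x
      · subst hqx
        exact hax.2.2.1 (odd_comm hD ha hx hqa.symm hax.2.2.2)
      · exact hn ⟨hq, hx, hqx, h⟩
    · exact h
  by_contra hcon
  push Not at hcon
  have hfa : e * a * a = e := by rw [mul_assoc, mul_self hD ha, mul_one]
  obtain ⟨-, hz⟩ := key e he hae (hae ▸ hf) hcon.1
  obtain ⟨-, hw⟩ := key (e * a) hf (by rw [hfa, ← mul_assoc, ← hae, hfa])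
    (by rw [← mul_assoc, ← hae, hfa]; exact he) hcon.2
  set f := e * a with hfdef
  have hfi : f⁻¹ = f := inv_eq hD hf
  have ei := inv_eq hD he
  have xi := inv_eq hD hx
  have ai := inv_eq hD ha
  have hae' : f = a * e := hae
  -- the product of the two centres is conjugate to `(x a) ^ 2`
  have hconj : e * ((e * x) ^ 2 * (f * x) ^ 2) * e⁻¹ = (e * x * e) * (x * a) ^ 2 * (e * x * e)⁻¹ := by
    have hez : e * (e * x) ^ 2 = (e * x) ^ 2 * e := by
      calc e * (e * x) ^ 2 = (x * e) ^ 2 * e := by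
            simp only [pow_two, ← mul_assoc]
            rw [show x * e * x * e * e = x * e * x * (e * e) by group, mul_self hD he, one_mul, mul_one]
        _ = ((e * x) ^ 2)⁻¹ * e := by rw [← inv_pow, mul_inv_rev, ei, xi]
        _ = (e * x) ^ 2 * e := by rw [inv_eq hD hz]
    rw [← mul_assoc, hez, ei]
    calc (e * x) ^ 2 * e * (f * x) ^ 2 * e = (e * x) ^ 2 * e * (f * x * (f * x)) * e := by rw [pow_two (f * x)]
      _ = (e * x) ^ 2 * e * ((e * a) * x * ((a * e) * x)) * e := by rw [← hfdef, ← hae']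
      _ = (e * x) ^ 2 * (e * e) * a * x * a * e * x * e := by group
      _ = (e * x * e) * (x * a) ^ 2 * (e * x * e)⁻¹ := by
        rw [mul_self hD he, mul_one, mul_inv_rev, mul_inv_rev, ei, xi, pow_two, pow_two]
        group
  have hodd : Odd (orderOf ((e * x) ^ 2 * (f * x) ^ 2)) := by
    have h := congrArg orderOf hconj
    rw [show e * ((e * x) ^ 2 * (f * x) ^ 2) * e⁻¹ = (MulAut.conj e).toMonoidHom ((e * x) ^ 2 * (f * x) ^ 2) by rfl,
      orderOf_injective _ (MulAut.conj e).injective,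
      show e * x * e * (x * a) ^ 2 * (e * x * e)⁻¹ = (MulAut.conj (e * x * e)).toMonoidHom ((x * a) ^ 2) by rfl,
      orderOf_injective _ (MulAut.conj (e * x * e)).injective] at h
    rw [h]
    exact CfsgLib.Invol.odd_orderOf_of_dvd hxa (orderOf_pow_dvd 2)
  have hzw : (e * x) ^ 2 * (f * x) ^ 2 ≠ 1 := by
    intro h1
    rw [h1, mul_one, mul_inv_cancel] at hconj
    have h2 : (x * a) ^ 2 = 1 := by
      rw [eq_comm, conj_eq_one_iff] at hconj
      exact hconj
    have h3 := CfsgLib.Invol.eq_one_of_odd_of_sq hxa (by rwa [← pow_two])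
    exact hax.2.2.1 (by
      calc a = x * x * a := by rw [mul_self hD hx, one_mul]
        _ = x := by rw [mul_assoc, h3, mul_one])
  -- both centres commute with `x`
  have cx : ∀ q : G, q ∈ D → (q * x) ^ 2 ∈ D → x * (q * x) ^ 2 = (q * x) ^ 2 * x := by
    intro q hq hq2
    have h := inv_eq hD hq2
    calc x * (q * x) ^ 2 = (x * q) ^ 2 * x := by simp only [pow_two, mul_assoc]
      _ = ((q * x) ^ 2)⁻¹ * x := by
        rw [← inv_pow, mul_inv_rev, xi, inv_eq hD hq]
      _ = (q * x) ^ 2 * x := by rw [h]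
  have hpm : (e * x) ^ 2 * x ∈ D := by
    have := hD.conj_mem x hx e
    rw [ei] at this
    rwa [pow_two, show e * x * (e * x) * x = e * x * e * (x * x) by group, mul_self hD hx, mul_one]
  have h1 := no_odd hD hx hw (cx e he hz) hpm (cx f hf hw).symm (by
    rw [show (f * x) ^ 2 * (e * x) ^ 2 = ((e * x) ^ 2 * (f * x) ^ 2)⁻¹ by
      rw [mul_inv_rev, inv_eq hD hz, inv_eq hD hw], orderOf_inv]
    exact hodd)
  apply hzw
  rw [← inv_eq_one, mul_inv_rev, inv_eq hD hz, inv_eq hD hw, h1]

theorem product_partner (hD : IsRootInvolutionSet D) {a e : G} (ha : a ∈ D) (he : e ∈ D)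
    (hae : e * a = a * e) (hf : e * a ∈ D) {x y : G} (hax : OddAdj D a x) (hey : OddAdj D e y) :
    Relation.ReflTransGen (OddAdj D) a e := by
  rcases line hD ha he hae hf hax with h | h
  · exact (Relation.ReflTransGen.single hax).tail (oddAdj_symm hD h)
  · have haf : Relation.ReflTransGen (OddAdj D) a (e * a) :=
      (Relation.ReflTransGen.single hax).tail (oddAdj_symm hD h)
    rcases line hD he ha hae.symm (hae ▸ hf) hey with h' | h'
    · exact (Relation.ReflTransGen.single h').tail (oddAdj_symm hD hey)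
    · rw [← hae] at h'
      exact (haf.tail h').tail (oddAdj_symm hD hey)

variable [Finite G]

theorem isolated_mem_pCore (hD : IsRootInvolutionSet D) {w : G} (hw : IsIsolatedElem (OddAdj D) D w) :
    w ∈ pCore 2 G := by
  have hpair : ∀ g : G, IsPGroup 2 ↥(Subgroup.zpowers w ⊔ (Subgroup.zpowers w).map (MulAut.conj g).toMonoidHom) := by
    intro g
    rw [MonoidHom.map_zpowers, Subgroup.zpowers_eq_closure, Subgroup.zpowers_eq_closure, ← Subgroup.closure_union]
    set v := (MulAut.conj g).toMonoidHom w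
    have hv : v ∈ D := hD.conj_mem w hw.1 g
    have hvi := hD.orderOf_eq v hv
    have hwi := hD.orderOf_eq w hw.1
    have h4 : orderOf (w * v) ∣ 4 := by
      rcases hD.pair w hw.1 v hv with h | h | ⟨h, -⟩
      · refine dvd_trans (orderOf_dvd_of_pow_eq_one (n := 2) ?_) (by norm_num)
        rw [(show Commute w v from h).mul_pow, pow_two, pow_two, mul_self hD hw.1, mul_self hD hv, one_mul]
      · by_cases hwv : w = v
        · rw [← hwv, mul_self hD hw.1, orderOf_one]; exact one_dvd _
        · exact absurd ⟨hw.1, hv, hwv, h⟩ (hw.2 v).1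
      · rw [h]
    rw [show ({w} : Set G) ∪ {v} = {w, v} from rfl]
    intro d
    obtain ⟨k, hk⟩ := (CfsgLib.Invol.mem_closure_pair_iff hwi hvi).mp d.2
    refine ⟨3, Subtype.ext ?_⟩
    rw [Subgroup.coe_pow, Subgroup.coe_one]
    rcases hk with hk | hk <;> rw [hk]
    · rw [← zpow_natCast, ← zpow_mul, mul_comm, zpow_mul, zpow_natCast,
        orderOf_dvd_iff_pow_eq_one.mp (h4.trans (by norm_num)), one_zpow]
    · have h1 : (w * (w * v) ^ k) ^ 2 = 1 := by
        rw [pow_two, CfsgLib.Invol.left_mul_zpow_mul_self hwi hvi, sub_self, zpow_zero]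
      rw [show (2 : ℕ) ^ 3 = 2 * 4 from rfl, pow_mul, h1, one_pow]
  have hwp : IsPGroup 2 ↥(Subgroup.zpowers w) := by
    refine IsPGroup.of_card (n := 1) ?_
    rw [Nat.card_zpowers, hD.orderOf_eq w hw.1, pow_one]
  obtain ⟨N, hN, hN2, hle⟩ := CfsgLib.Baer.baer_suzuki _ hwp hpair
  exact CfsgLib.Fitting.le_pCore hN hN2 (hle (Subgroup.mem_zpowers w))

theorem isolated_of_mem_pCore (hD : IsRootInvolutionSet D) {d : G} (hd : d ∈ D) (hQ : d ∈ pCore 2 G) :
    IsIsolatedElem (OddAdj D) D d := by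
  refine ⟨hd, fun e => ?_⟩
  have key : ¬ OddAdj D d e := fun h => by
    have hn := CfsgLib.Fitting.pCore_normal (G := G) 2
    have hx : (d * e) * (d * e) ∈ pCore 2 G := by
      have h1 := mul_mem hQ (hn.conj_mem d hQ e)
      rwa [inv_eq hD h.2.1, show d * (e * d * e) = d * e * (d * e) by group] at h1
    obtain ⟨k, hk⟩ := CfsgLib.Fitting.pCore_isPGroup (G := G) 2 ⟨_, hx⟩
    have hk' : ((d * e) * (d * e)) ^ (2 ^ k) = 1 := congrArg Subtype.val hk
    rw [← pow_two, ← pow_mul, ← pow_succ'] at hk'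
    obtain ⟨j, -, hj⟩ := (Nat.dvd_prime_pow Nat.prime_two).mp (orderOf_dvd_of_pow_eq_one hk')
    have hodd := h.2.2.2
    rw [hj] at hodd
    obtain rfl : j = 0 := by
      by_contra hj0
      exact (Nat.not_odd_iff_even.mpr (even_two.pow_of_ne_zero hj0)) hodd
    rw [pow_zero, orderOf_eq_one_iff] at hj
    exact h.2.2.1 (by
      calc d = d * e * e := by rw [mul_assoc, mul_self hD h.2.1, mul_one]
        _ = e := by rw [hj, one_mul])
  exact ⟨key, fun h => key (oddAdj_symm hD h)⟩

/-- Members with odd product do not differ by the 2-core. -/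
theorem comm_of_congr (hD : IsRootInvolutionSet D) {a a' e : G} (ha : a ∈ D) (ha' : a' ∈ D) (he : e ∈ D)
    (hea : e * a = a * e) (hQ : a * a' ∈ pCore 2 G) (h4 : ∀ x ∈ D, ∀ y ∈ D, orderOf (x * y) ≠ 4) :
    e * a' = a' * e := by
  rcases hD.pair e he a' ha' with h | h | ⟨h, -⟩
  · exact h
  · have hn := CfsgLib.Fitting.pCore_normal (G := G) 2
    have hx : (e * a') * (e * a') ∈ pCore 2 G := by
      refine (QuotientGroup.eq_one_iff _).mp ?_
      have e1 : (a' : G ⧸ pCore 2 G) = (a : G ⧸ pCore 2 G) := by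
        rw [eq_comm, QuotientGroup.eq, inv_eq hD ha]
        exact hQ
      rw [QuotientGroup.mk_mul, QuotientGroup.mk_mul, e1, ← QuotientGroup.mk_mul, ← QuotientGroup.mk_mul]
      refine (QuotientGroup.eq_one_iff _).mpr ?_
      rw [show e * a * (e * a) = e * a * (a * e) by rw [← hea]]
      rw [show e * a * (a * e) = e * (a * a) * e by group, mul_self hD ha, mul_one, mul_self hD he]
      exact one_mem _
    obtain ⟨k, hk⟩ := CfsgLib.Fitting.pCore_isPGroup (G := G) 2 ⟨_, hx⟩
    have hk' : ((e * a') * (e * a')) ^ (2 ^ k) = 1 := congrArg Subtype.val hk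
    rw [← pow_two, ← pow_mul, ← pow_succ'] at hk'
    obtain ⟨j, -, hj⟩ := (Nat.dvd_prime_pow Nat.prime_two).mp (orderOf_dvd_of_pow_eq_one hk')
    rw [hj] at h
    obtain rfl : j = 0 := by
      by_contra hj0
      exact (Nat.not_odd_iff_even.mpr (even_two.pow_of_ne_zero hj0)) h
    rw [pow_zero, orderOf_eq_one_iff] at hj
    rw [hj]
    calc (1 : G) = (e * a')⁻¹ := by rw [hj, inv_one]
      _ = a' * e := by rw [mul_inv_rev, inv_eq hD he, inv_eq hD ha']
  · exact absurd h (h4 e he a' ha')

end CfsgLib.RootSub.Invol
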