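import Cfsg.Agent.Lib.RootSub.SameClass
import Cfsg.Agent.Lib.PSolvable.Core
import Cfsg.Prelude.Def_QuasithinSetup

/-!
Root involutions with lines: normal subgroups avoiding the members are central modulo the 2-core.
-/

set_option autoImplicit false
set_option linter.style.haveILetI false

open Cfsg

namespace CfsgLib.RootSub.Invol

theorem solvable_of_comm {A : Type*} [Group A] (h : ∀ a b : A, a * b = b * a) : Group.IsSolvable A :=
  letI : CommGroup A := { (inferInstance : Group A) with mul_comm := h }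
  inferInstance

variable {G : Type*} [Group G] [Finite G] {D : Set G}

/-- A normal subgroup avoiding the members is central, if the `2`-core is trivial. -/
theorem le_center_of_avoid (hD : IsRootInvolutionSet D) (hQ : pCore 2 G = ⊥)
    (hline : ∀ d ∈ D, ∃ e, Line D d e) (N : Subgroup G) [hN : N.Normal] (hdis : ∀ d ∈ D, d ∉ N) :
    N ≤ Subgroup.center G := by
  have hsq : ∀ a ∈ D, ∀ n ∈ N, a * (n * a * n⁻¹) ∈ N := fun a ha n hn => by
    have h1 := mul_mem (hN.conj_mem n hn a) (inv_mem hn)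
    rwa [inv_eq hD ha, show a * n * a * n⁻¹ = a * (n * a * n⁻¹) by group] at h1
  have hcomm : ∀ a ∈ D, ∀ n ∈ N, a * (n * a * n⁻¹) = n * a * n⁻¹ * a := by
    intro a ha n hn
    set a' := n * a * n⁻¹
    have ha' : a' ∈ D := hD.conj_mem a ha n
    have hmem : a * a' ∈ N := hsq a ha n hn
    rcases hD.pair a ha a' ha' with h | h | ⟨-, h⟩
    · exact h
    · by_contra hne
      have hadj : OddAdj D a a' := ⟨ha, ha', fun e => hne (by rw [← e]), h⟩
      obtain ⟨e, hl⟩ := hline a ha
      obtain ⟨f, hfa, hfx⟩ : ∃ f, f * a ∈ D ∧ OddAdj D f a' := by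
        rcases line hD hl.1 hl.2.1 hl.2.2.1 hl.2.2.2 hadj with h' | h'
        · exact ⟨e, hl.2.2.2, h'⟩
        · exact ⟨e * a, by rw [mul_assoc, mul_self hD ha, mul_one]; exact hl.2.1, h'⟩
      refine hdis _ hfa ?_
      have heq : ((f * a' : G) : G ⧸ N) = ((f * a : G) : G ⧸ N) := by
        rw [eq_comm, QuotientGroup.eq]
        have h2 := hmem
        rw [show a * a' = a⁻¹ * a' by rw [inv_eq hD ha]] at h2
        rw [show (f * a)⁻¹ * (f * a') = a⁻¹ * a' by group]
        exact h2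
      have h1 : orderOf ((f * a : G) : G ⧸ N) ∣ orderOf (f * a') :=
        heq ▸ orderOf_map_dvd (QuotientGroup.mk' N) (f * a')
      have h2 : ((f * a : G) : G ⧸ N) * ((f * a : G) : G ⧸ N) = 1 := by
        rw [← QuotientGroup.mk_mul, mul_self hD hfa, QuotientGroup.mk_one]
      exact (QuotientGroup.eq_one_iff _).mp (CfsgLib.Invol.eq_one_of_odd_of_sq (hfx.2.2.2.of_dvd_nat h1) h2)
    · exfalso
      exact hdis _ h (pow_mem hmem 2)
  have hNd : ∀ a ∈ D, ∀ n ∈ N, a * n = n * a := by
    intro a ha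
    set Z : Set G := (fun n => a * (n * a * n⁻¹)) '' (N : Set G) with hZ
    have hZN : Z ⊆ N := by
      rintro _ ⟨n, hn, rfl⟩
      exact hsq a ha n hn
    -- conjugates of `a` under `N` commute
    have hcc : ∀ m ∈ N, ∀ n ∈ N, (m * a * m⁻¹) * (n * a * n⁻¹) = (n * a * n⁻¹) * (m * a * m⁻¹) := by
      intro m hm n hn
      have h := hcomm a ha (m⁻¹ * n) (mul_mem (inv_mem hm) hn)
      have h2 := congrArg (fun z => m * z * m⁻¹) h
      calc (m * a * m⁻¹) * (n * a * n⁻¹) = m * (a * (m⁻¹ * n * a * (m⁻¹ * n)⁻¹)) * m⁻¹ := by group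
        _ = m * (m⁻¹ * n * a * (m⁻¹ * n)⁻¹ * a) * m⁻¹ := h2
        _ = (n * a * n⁻¹) * (m * a * m⁻¹) := by group
    set A := Subgroup.closure Z with hA
    have hAN : A ≤ N := (Subgroup.closure_le N).mpr hZN
    have hgen : ∀ z ∈ Z, z * z = 1 := by
      rintro _ ⟨n, hn, rfl⟩
      show a * (n * a * n⁻¹) * (a * (n * a * n⁻¹)) = 1
      rw [mul_assoc a (n * a * n⁻¹), ← mul_assoc (n * a * n⁻¹) a, ← hcomm a ha n hn, mul_assoc a,
        mul_self hD (hD.conj_mem a ha n), mul_one, mul_self hD ha]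
    have hpair : ∀ z ∈ Z, ∀ w ∈ Z, z * w = w * z := by
      rintro _ ⟨m, hm, rfl⟩ _ ⟨n, hn, rfl⟩
      have cm : Commute a (m * a * m⁻¹) := hcomm a ha m hm
      have cn : Commute a (n * a * n⁻¹) := hcomm a ha n hn
      have cmn : Commute (m * a * m⁻¹) (n * a * n⁻¹) := hcc m hm n hn
      exact ((Commute.refl a).mul_right cn).mul_left (cm.symm.mul_right cmn)
    haveI hAc : IsMulCommutative A := Subgroup.isMulCommutative_closure hpair
    have hA2 : IsPGroup 2 A := by
      intro x
      refine ⟨1, Subtype.ext ?_⟩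
      rw [Subgroup.coe_pow, Subgroup.coe_one, pow_one, pow_two]
      suffices hs : ∀ y ∈ Subgroup.closure Z, y * y = 1 from hs _ x.2
      intro y hx
      induction hx using Subgroup.closure_induction with
      | mem z hz => exact hgen z hz
      | one => exact one_mul 1
      | mul u v hu hv h1 h2 =>
        have huv : u * v = v * u := congrArg Subtype.val
          (hAc.is_comm.comm (⟨u, hu⟩ : A) ⟨v, hv⟩)
        calc u * v * (u * v) = u * (v * u) * v := by group
          _ = (u * u) * (v * v) := by rw [← huv]; group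
          _ = 1 := by rw [h1, h2, one_mul]
      | inv u hu h1 => rw [← mul_inv_rev, h1, inv_one]
    haveI hAn : (A.subgroupOf N).Normal := by
      refine (Subgroup.normal_subgroupOf_iff_le_normalizer hAN).mpr fun g hg => ?_
      refine Subgroup.mem_normalizer_fintype fun x hx => ?_
      induction hx using Subgroup.closure_induction with
      | mem z hz =>
        obtain ⟨n, hn, rfl⟩ := hz
        show g * (a * (n * a * n⁻¹)) * g⁻¹ ∈ A
        rw [show g * (a * (n * a * n⁻¹)) * g⁻¹ = g * (a⁻¹ * (n * a * n⁻¹)) * g⁻¹ by rw [inv_eq hD ha],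
          show g * (a⁻¹ * (n * a * n⁻¹)) * g⁻¹ =
          (a * (g * a * g⁻¹))⁻¹ * (a * ((g * n) * a * (g * n)⁻¹)) by group]
        exact A.mul_mem (A.inv_mem (Subgroup.subset_closure ⟨g, hg, rfl⟩))
          (Subgroup.subset_closure ⟨g * n, mul_mem hg hn, rfl⟩)
      | one => rw [mul_one, mul_inv_cancel]; exact A.one_mem
      | mul u v _ _ h1 h2 => rw [show g * (u * v) * g⁻¹ = (g * u * g⁻¹) * (g * v * g⁻¹) by group]; exact A.mul_mem h1 h2
      | inv u _ h1 => rw [show g * u⁻¹ * g⁻¹ = (g * u * g⁻¹)⁻¹ by group]; exact A.inv_mem h1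
    have hbot : (pCore 2 N).map N.subtype ≤ (⊥ : Subgroup G) := by
      rw [← hQ]
      exact CfsgLib.Fitting.le_pCore inferInstance ((CfsgLib.Fitting.pCore_isPGroup (G := N) 2).map N.subtype)
    intro n hn
    have h1 : a * (n * a * n⁻¹) ∈ A := Subgroup.subset_closure ⟨n, hn, rfl⟩
    have h2 : (⟨_, hAN h1⟩ : N) ∈ pCore 2 N :=
      CfsgLib.Fitting.le_pCore hAn (hA2.comap_of_injective N.subtype N.subtype_injective) h1
    have h3 : a * (n * a * n⁻¹) = 1 := Subgroup.mem_bot.mp (hbot ⟨_, h2, rfl⟩)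
    calc a * n = a * (a * (n * a * n⁻¹)) * n := by rw [h3, mul_one]
      _ = n * a := by rw [← mul_assoc a a, mul_self hD ha, one_mul]; group
  have htop : Subgroup.closure D ≤ Subgroup.centralizer (N : Set G) := by
    rw [Subgroup.closure_le]
    intro a ha n hn
    exact (hNd a ha n hn).symm
  intro n hn
  refine Subgroup.mem_center_iff.mpr fun g => ?_
  have hg := htop (hD.generates ▸ Subgroup.mem_top g)
  exact (hg n hn).symm

variable (hD : IsRootInvolutionSet D) (hc : IsConnectedSet (OddAdj D) D) (hDD : (D ∩ commutingProducts D).Nonempty)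
include hD hc hDD

theorem exists_line {d : G} (hd : d ∈ D) : ∃ e, Line D d e := by
  obtain ⟨d₀, hd₀, a, ha, b, hb, hab, -, rfl⟩ := hDD
  have hl : Line D b a := ⟨hb, ha, hab, hd₀⟩
  obtain ⟨g, rfl⟩ := class_of_connected hD hc hb hd
  refine ⟨g * a * g⁻¹, hd, hD.conj_mem a ha g, ?_, ?_⟩
  · rw [show g * a * g⁻¹ * (g * b * g⁻¹) = g * (a * b) * g⁻¹ by group, hab]; group
  · rw [show g * a * g⁻¹ * (g * b * g⁻¹) = g * (a * b) * g⁻¹ by group]
    exact hD.conj_mem _ hd₀ g

theorem exists_odd {d : G} (hd : d ∈ D) : ∃ x, OddAdj D d x := by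
  obtain ⟨e, hl⟩ := exists_line hD hc hDD hd
  have hne : d ≠ e := by
    intro h
    subst h
    have := hl.2.2.2
    rw [mul_self hD hd] at this
    have h1 := hD.orderOf_eq 1 this
    rw [orderOf_one] at h1
    omega
  rcases (hc d hd e hl.2.1).cases_head with h | ⟨x, hx, -⟩
  · exact absurd h hne
  · exact ⟨x, hx⟩

theorem perfect : commutator G = ⊤ := by
  rw [eq_top_iff, ← hD.generates, Subgroup.closure_le]
  intro d hd
  obtain ⟨e, hl⟩ := exists_line hD hc hDD hd
  have key : ∀ u ∈ D, ∀ v ∈ D, (u : G ⧸ commutator G) = v := by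
    intro u hu v hv
    obtain ⟨g, rfl⟩ := class_of_connected hD hc hu hv
    rw [QuotientGroup.eq, show u⁻¹ * (g * u * g⁻¹) = u⁻¹ * g * u * g⁻¹ by group,
      show u⁻¹ * g * u * g⁻¹ = u⁻¹ * g * (u⁻¹)⁻¹ * g⁻¹ by rw [inv_inv]]
    exact Subgroup.commutator_mem_commutator (Subgroup.mem_top _) (Subgroup.mem_top _)
  have h1 : ((e * d : G) : G ⧸ commutator G) = (e : G ⧸ commutator G) := key _ hl.2.2.2 _ hl.2.1
  rw [QuotientGroup.mk_mul, mul_eq_left, QuotientGroup.eq_one_iff] at h1
  exact h1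

theorem not_solvable (hd : D.Nonempty) : ¬ Group.IsSolvable G := fun hs => by
  obtain ⟨d, hd⟩ := hd
  haveI : Nontrivial G := ⟨⟨d, 1, fun e => by
    have := hD.orderOf_eq d hd
    rw [e, orderOf_one] at this
    omega⟩⟩
  exact (Group.IsSolvable.commutator_lt_top_of_nontrivial G).ne (perfect hD hc hDD)

theorem nonempty : D.Nonempty := hDD.mono Set.inter_subset_left

theorem notMem_pCore {d : G} (hd : d ∈ D) : d ∉ pCore 2 G := fun h => by
  obtain ⟨x, hx⟩ := exists_odd hD hc hDD hd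
  exact ((isolated_of_mem_pCore hD hd h).2 x).1 hx

theorem image_root : IsRootInvolutionSet ((QuotientGroup.mk' (pCore 2 G)) '' D) := by
  set π := QuotientGroup.mk' (pCore 2 G)
  refine ⟨?_, ?_, ?_, ?_⟩
  · rintro _ ⟨d, hd, rfl⟩
    refine orderOf_eq_prime ?_ (fun h => notMem_pCore hD hc hDD hd ((QuotientGroup.eq_one_iff _).mp h))
    rw [← map_pow, pow_two, mul_self hD hd, map_one]
  · rw [← MonoidHom.map_closure, hD.generates, Subgroup.map_top_of_surjective _ (QuotientGroup.mk'_surjective _)]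
  · rintro _ ⟨d, hd, rfl⟩ g
    obtain ⟨g, rfl⟩ := QuotientGroup.mk'_surjective (pCore 2 G) g
    exact ⟨g * d * g⁻¹, hD.conj_mem d hd g, by simp [π]⟩
  · rintro _ ⟨a, ha, rfl⟩ _ ⟨b, hb, rfl⟩
    rcases hD.pair a ha b hb with h | h | ⟨h, h'⟩
    · exact Or.inl (by rw [← map_mul, h, map_mul])
    · exact Or.inr (Or.inl (by rw [← map_mul]; exact h.of_dvd_nat (orderOf_map_dvd π _)))
    · refine Or.inr (Or.inr ⟨?_, (a * b) ^ 2, h', by rw [map_pow, map_mul]⟩)
      have h2 : ¬ π (a * b) ^ 2 ^ 1 = 1 := fun e => notMem_pCore hD hc hDD h'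
        ((QuotientGroup.eq_one_iff _).mp (by rw [← e, ← map_pow]; rfl))
      have h4 : π (a * b) ^ 2 ^ (1 + 1) = 1 := by
        rw [show (2 : ℕ) ^ (1 + 1) = orderOf (a * b) by rw [h]; rfl, ← map_pow, pow_orderOf_eq_one, map_one]
      rw [← map_mul]
      exact orderOf_eq_prime_pow h2 h4

theorem pCore_quotient : pCore 2 (G ⧸ pCore 2 G) = ⊥ := by
  set Q := pCore 2 G
  rw [eq_bot_iff]
  intro x hx
  obtain ⟨x, rfl⟩ := QuotientGroup.mk'_surjective Q x
  have hp : IsPGroup 2 ((pCore 2 (G ⧸ Q)).comap (QuotientGroup.mk' Q)) :=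
    (CfsgLib.Fitting.pCore_isPGroup (G := G ⧸ Q) 2).comap_of_ker_isPGroup _
      (by rw [QuotientGroup.ker_mk']; exact CfsgLib.Fitting.pCore_isPGroup 2)
  haveI := CfsgLib.Fitting.pCore_normal (G := G ⧸ Q) 2
  have hle := CfsgLib.Fitting.le_pCore (inferInstance : ((pCore 2 (G ⧸ Q)).comap (QuotientGroup.mk' Q)).Normal) hp
  exact Subgroup.mem_bot.mpr ((QuotientGroup.eq_one_iff x).mpr (hle hx))

/-- A normal subgroup containing the `2`-core but no member lies in `Z_2`. -/
theorem le_twoZCore (N : Subgroup G) [N.Normal] (hQN : pCore 2 G ≤ N) (hdis : ∀ d ∈ D, d ∉ N) :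
    N ≤ twoZCore G := by
  set π := QuotientGroup.mk' (pCore 2 G)
  haveI : (N.map π).Normal := Subgroup.Normal.map inferInstance _ (QuotientGroup.mk'_surjective _)
  have hD' := image_root hD hc hDD
  have hl : ∀ d ∈ π '' D, ∃ e, Line (π '' D) d e := by
    rintro _ ⟨d, hd, rfl⟩
    obtain ⟨e, hl⟩ := exists_line hD hc hDD hd
    exact ⟨π e, ⟨d, hd, rfl⟩, ⟨e, hl.2.1, rfl⟩, by rw [← map_mul, hl.2.2.1, map_mul],
      ⟨e * d, hl.2.2.2, map_mul π e d⟩⟩
  have h := le_center_of_avoid hD' (pCore_quotient hD hc hDD) hl (N.map π) (by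
    rintro _ ⟨d, hd, rfl⟩ hmem
    have h1 : d ∈ (N.map π).comap π := hmem
    rw [Subgroup.comap_map_eq, QuotientGroup.ker_mk', sup_eq_left.mpr hQN] at h1
    exact hdis d hd h1)
  exact Subgroup.map_le_iff_le_comap.mp h

theorem pCore_le_twoZCore : pCore 2 G ≤ twoZCore G := fun x hx => by
  show QuotientGroup.mk' (pCore 2 G) x ∈ Subgroup.center (G ⧸ pCore 2 G)
  rw [show QuotientGroup.mk' (pCore 2 G) x = 1 from (QuotientGroup.eq_one_iff x).mpr hx]
  exact one_mem _

theorem twoZCore_solvable : Group.IsSolvable (twoZCore G) := by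
  set π := QuotientGroup.mk' (pCore 2 G)
  let f : twoZCore G →* Subgroup.center (G ⧸ pCore 2 G) := (π.comp (twoZCore G).subtype).codRestrict _ fun x => x.2
  haveI : Group.IsNilpotent (pCore 2 G) := (CfsgLib.Fitting.pCore_isPGroup (G := G) 2).isNilpotent
  haveI : IsMulCommutative (Subgroup.center (G ⧸ pCore 2 G)) := inferInstance
  haveI : Group.IsSolvable (Subgroup.center (G ⧸ pCore 2 G)) :=
    CfsgLib.RootSub.Invol.solvable_of_comm fun a b => this.is_comm.comm a b
  refine Group.isSolvable_of_ker_le_range (Subgroup.inclusion (pCore_le_twoZCore hD hc hDD)) f ?_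
  intro x hx
  exact ⟨⟨(x : G), (QuotientGroup.eq_one_iff _).mp (congrArg Subtype.val hx)⟩, rfl⟩

theorem radical_eq : solvableRadical G = twoZCore G ∧ IsSimpleGroup (G ⧸ twoZCore G) := by
  have hne := nonempty hD hc hDD
  have hns := not_solvable hD hc hDD hne
  have hall : ∀ N : Subgroup G, N.Normal → (∃ d ∈ D, d ∈ N) → N = ⊤ := by
    rintro N hN ⟨d, hd, hdN⟩
    rw [eq_top_iff, ← hD.generates, Subgroup.closure_le]
    intro e he
    obtain ⟨g, rfl⟩ := class_of_connected hD hc hd he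
    exact hN.conj_mem d hdN g
  have htop : ¬ Group.IsSolvable (⊤ : Subgroup G) := fun h => hns
    (Group.isSolvable_of_surjective (f := (Subgroup.topEquiv : (⊤ : Subgroup G) ≃* G).toMonoidHom)
      Subgroup.topEquiv.surjective)
  haveI hQn := CfsgLib.Fitting.pCore_normal (G := G) 2
  have hZ := twoZCore_solvable hD hc hDD
  refine ⟨le_antisymm (sSup_le ?_) (le_sSup ⟨inferInstance, hZ⟩), ?_⟩
  · rintro N ⟨hN, hNs⟩
    haveI := hN
    refine le_trans le_sup_left (le_twoZCore hD hc hDD (N ⊔ pCore 2 G) le_sup_right fun d hd hdN => htop ?_)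
    rw [← hall (N ⊔ pCore 2 G) inferInstance ⟨d, hd, hdN⟩]
    -- the join of two normal solvable subgroups
    haveI : Group.IsNilpotent (pCore 2 G) := (CfsgLib.Fitting.pCore_isPGroup (G := G) 2).isNilpotent
    let f := (QuotientGroup.mk' N).comp (N ⊔ pCore 2 G).subtype
    haveI : Group.IsSolvable f.range := by
      have hr : f.range ≤ (pCore 2 G).map (QuotientGroup.mk' N) := by
        rintro _ ⟨x, rfl⟩
        have h1 : QuotientGroup.mk' N (x : G) ∈ (N ⊔ pCore 2 G).map (QuotientGroup.mk' N) := ⟨x, x.2, rfl⟩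
        rw [Subgroup.map_sup, QuotientGroup.map_mk'_self, bot_sup_eq] at h1
        exact h1
      haveI : Group.IsSolvable ((pCore 2 G).map (QuotientGroup.mk' N)) :=
        Group.isSolvable_of_surjective ((QuotientGroup.mk' N).subgroupMap_surjective (pCore 2 G))
      exact Group.isSolvable_of_isSolvable_injective (f := Subgroup.inclusion hr) (Subgroup.inclusion_injective hr)
    refine Group.isSolvable_of_ker_le_range (Subgroup.inclusion (le_sup_left : N ≤ N ⊔ pCore 2 G)) f.rangeRestrict ?_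
    intro x hx
    rw [MonoidHom.ker_rangeRestrict] at hx
    exact ⟨⟨(x : G), (QuotientGroup.eq_one_iff _).mp hx⟩, rfl⟩
  · haveI : Nontrivial (G ⧸ twoZCore G) := QuotientGroup.nontrivial_iff.mpr fun h => htop (h ▸ hZ)
    refine ⟨fun M hM => ?_⟩
    set π := QuotientGroup.mk' (twoZCore G)
    haveI := hM
    have hback : (M.comap π).map π = M :=
      Subgroup.map_comap_eq_self_of_surjective (QuotientGroup.mk'_surjective _) M
    by_cases h : ∃ d ∈ D, d ∈ M.comap π
    · right
      rw [← hback, hall _ inferInstance h, Subgroup.map_top_of_surjective _ (QuotientGroup.mk'_surjective _)]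
    · left
      push Not at h
      have hle : M.comap π ≤ twoZCore G := le_twoZCore hD hc hDD _
        ((pCore_le_twoZCore hD hc hDD).trans fun x hx => by
          show π x ∈ M
          rw [show π x = 1 from (QuotientGroup.eq_one_iff x).mpr hx]
          exact M.one_mem) h
      rw [← hback, eq_bot_iff]
      rintro _ ⟨x, hx, rfl⟩
      exact Subgroup.mem_bot.mpr ((QuotientGroup.eq_one_iff x).mpr (hle hx))

end CfsgLib.RootSub.Invol
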