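import Cfsg.Agent.Lib.RootSub.SameClass

/-!
Root involutions, towards the root structure theorem: the isolated members `W D d` of the commuting members of `d`,
the `2`-group they lie in, and the class of `d` as the centre of that group.
-/

set_option autoImplicit false
set_option linter.unusedSectionVars false
set_option linter.style.haveILetI false

open Cfsg

namespace CfsgLib.RootSub.RootStruct

open CfsgLib.RootSub.Invol

variable {G : Type*} [Group G] {D : Set G}

/-- The members commuting with `d` without an opposite among them. -/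
def W (D : Set G) (d : G) : Set G :=
  {w | IsIsolatedElem (OddAdj (commutingMembers D d)) (commutingMembers D d) w}

/-- A member with the same odd partners as `d`. -/
def Same (D : Set G) (d v : G) : Prop := v ∈ D ∧ odds D v = odds D d

/-- All centres of `a` with members of `W D d` lie in the class of `d`. -/
def Good (D : Set G) (d a : G) : Prop :=
  ∀ z ∈ W D d, a * z ≠ z * a → odds D ((a * z) ^ 2) = odds D d

/-- The `2`-core of the group generated by the members commuting with `d`. -/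
def Two (D : Set G) (d : G) : Subgroup G :=
  (pCore 2 ↥(Subgroup.closure (commutingMembers D d))).map (Subgroup.closure (commutingMembers D d)).subtype

/-- The standing hypotheses. -/
structure Setting (D : Set G) : Prop where
  hD : IsRootInvolutionSet D
  hclass : ∀ a ∈ D, ∀ b ∈ D, ∃ g : G, b = g * a * g⁻¹
  hE : ∀ d ∈ D, (sameCommutingSubgroup D d : Set G) = sameCommutingClass D d ∪ {1}

section Elementary

variable (hD : IsRootInvolutionSet D)
include hD

theorem conj_eq {g a : G} (hg : g ∈ D) : g * a * g⁻¹ = g * a * g := by rw [inv_eq hD hg]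

theorem conj_mem' {g a : G} (hg : g ∈ D) (ha : a ∈ D) : g * a * g ∈ D := conj_eq hD hg ▸ hD.conj_mem a ha g

theorem ne_one {a : G} (ha : a ∈ D) : a ≠ 1 := fun h => by
  have := hD.orderOf_eq a ha
  rw [h, orderOf_one] at this
  omega

theorem sq_of_comm {a b : G} (ha : a ∈ D) (hb : b ∈ D) (h : a * b = b * a) : (a * b) ^ 2 = 1 := by
  rw [(show Commute a b from h).mul_pow, pow_two, pow_two, mul_self hD ha, mul_self hD hb, one_mul]

theorem not_comm_of_four {a b : G} (ha : a ∈ D) (hb : b ∈ D) (h4 : orderOf (a * b) = 4) : a * b ≠ b * a := by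
  intro h
  have := orderOf_dvd_of_pow_eq_one (sq_of_comm hD ha hb h)
  rw [h4] at this
  norm_num at this

theorem sq_inv {a b : G} (ha : a ∈ D) (hb : b ∈ D) : ((a * b) ^ 2)⁻¹ = (b * a) ^ 2 := by
  rw [← inv_pow, mul_inv_rev, inv_eq hD ha, inv_eq hD hb]

theorem four_symm {a b : G} (ha : a ∈ D) (hb : b ∈ D) (h4 : orderOf (a * b) = 4) : orderOf (b * a) = 4 := by
  rw [show b * a = (a * b)⁻¹ by rw [mul_inv_rev, inv_eq hD ha, inv_eq hD hb], orderOf_inv, h4]

theorem sq_symm {a b : G} (ha : a ∈ D) (hb : b ∈ D) (h : a * b = b * a ∨ orderOf (a * b) = 4) :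
    (b * a) ^ 2 = (a * b) ^ 2 := by
  rcases h with h | h
  · rw [h]
  · rw [← sq_inv hD ha hb, inv_eq hD (four_center hD ha hb h).1.2.1]

/-- No member centralizing an involution `z` meets a partner `x` of `z` with odd product. -/
theorem no_odd' {z x d : G} (hz : orderOf z = 2) (hd : d ∈ D)
    (hzx : z * x = x * z) (hp : x * z ∈ D) (hdz : d * z = z * d) (ho : Odd (orderOf (d * x))) : d * x = 1 := by
  have hcz : Commute (d * x) z := by
    show d * x * z = z * (d * x)
    rw [mul_assoc, ← hzx, ← mul_assoc, hdz, mul_assoc]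
  have hord : orderOf (d * (x * z)) = orderOf (d * x) * 2 := by
    rw [← mul_assoc, hcz.orderOf_mul_eq_mul_orderOf_of_coprime (by rw [hz]; exact Nat.coprime_two_right.mpr ho), hz]
  rcases hD.pair d hd (x * z) hp with h | h | ⟨h, -⟩
  · have h3 := orderOf_dvd_of_pow_eq_one (sq_of_comm hD hd hp h)
    rw [hord] at h3
    have h4 := Nat.le_of_dvd two_pos h3
    obtain ⟨m, hm⟩ := ho
    exact orderOf_eq_one_iff.mp (by omega)
  · rw [hord] at h
    obtain ⟨m, hm⟩ := h
    omega
  · rw [hord] at h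
    obtain ⟨m, hm⟩ := ho
    omega

/-- No opposite of a member commutes with an involution partner of that member. -/
theorem odd_not_comm {z x d : G} (hz : orderOf z = 2) (hzx : z * x = x * z) (hp : x * z ∈ D)
    (ho : OddAdj D d x) : d * z ≠ z * d := fun h => by
  have h1 := no_odd' hD hz ho.1 hzx hp h ho.2.2.2
  exact ho.2.2.1 (by rw [← mul_one d, ← mul_self hD ho.2.1, ← mul_assoc, h1, one_mul])

theorem line_odd_not_comm {z x d : G} (hl : Line D x z) (ho : OddAdj D d x) : d * z ≠ z * d :=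
  odd_not_comm hD (hD.orderOf_eq z hl.2.1) hl.2.2.1 (hl.2.2.1 ▸ hl.2.2.2) ho

theorem mem_W_iff {d w : G} :
    w ∈ W D d ↔ w ∈ D ∧ w * d = d * w ∧ ∀ f ∈ D, f * d = d * f → ¬ OddAdj D w f := by
  constructor
  · intro h
    refine ⟨h.1.1, h.1.2, fun f hf hfd ho => ?_⟩
    exact (h.2 f).1 ⟨h.1, ⟨hf, hfd⟩, ho.2.2.1, ho.2.2.2⟩
  · rintro ⟨h1, h2, h3⟩
    refine ⟨⟨h1, h2⟩, fun f => ⟨fun ho => h3 f ho.2.1.1 ho.2.1.2 ⟨h1, ho.2.1.1, ho.2.2.1, ho.2.2.2⟩,
      fun ho => h3 f ho.1.1 ho.1.2 (oddAdj_symm hD ⟨ho.1.1, h1, ho.2.2.1, ho.2.2.2⟩)⟩⟩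

theorem W_mem {d w : G} (h : w ∈ W D d) : w ∈ D := h.1.1

theorem W_comm {d w : G} (h : w ∈ W D d) : w * d = d * w := h.1.2

theorem W_not_odd {d w f : G} (h : w ∈ W D d) (hf : f ∈ D) (hfd : f * d = d * f) : ¬ OddAdj D w f :=
  ((mem_W_iff hD).mp h).2.2 f hf hfd

theorem W_of_line {d e : G} (hl : Line D d e) : e ∈ W D d :=
  (mem_W_iff hD).mpr ⟨hl.2.1, hl.2.2.1, fun f _ hfd ho => by
    exact line_odd_not_comm hD hl.symm (oddAdj_symm hD ho) hfd⟩

theorem W_self {d : G} (hd : d ∈ D) : d ∈ W D d :=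
  (mem_W_iff hD).mpr ⟨hd, rfl, fun f _ hfd ho => odd_ne_comm hD ho hfd.symm⟩

theorem W_pair {d a b : G} (ha : a ∈ W D d) (hb : b ∈ W D d) : a * b = b * a ∨ orderOf (a * b) = 4 := by
  rcases hD.pair a (W_mem hD ha) b (W_mem hD hb) with h | h | ⟨h, -⟩
  · exact Or.inl h
  · by_cases e : a = b
    · exact Or.inl (by rw [e])
    · exact absurd ⟨W_mem hD ha, W_mem hD hb, e, h⟩ (W_not_odd hD ha (W_mem hD hb) (W_comm hD hb))
  · exact Or.inr h

theorem W_four {d a b : G} (ha : a ∈ W D d) (hb : b ∈ W D d) (h : a * b ≠ b * a) : orderOf (a * b) = 4 :=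
  (W_pair hD ha hb).resolve_left h

theorem W_conj {d w : G} (g : G) (h : w ∈ W D d) : g * w * g⁻¹ ∈ W D (g * d * g⁻¹) := by
  refine (mem_W_iff hD).mpr ⟨hD.conj_mem w (W_mem hD h) g, ?_, fun f hf hfd ho => ?_⟩
  · rw [conj_mul, conj_mul, W_comm hD h]
  · have h2 := conj_oddAdj hD g⁻¹ ho
    rw [show g⁻¹ * (g * w * g⁻¹) * g⁻¹⁻¹ = w by group] at h2
    refine W_not_odd hD h h2.2.1 ?_ h2
    have h3 := congrArg (fun z => g⁻¹ * z * g) hfd
    rw [inv_inv]
    calc g⁻¹ * f * g * d = g⁻¹ * (f * (g * d * g⁻¹)) * g := by group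
      _ = g⁻¹ * (g * d * g⁻¹ * f) * g := h3
      _ = d * (g⁻¹ * f * g) := by group

theorem good_conj {d a : G} (g : G) (h : Good D d a) : Good D (g * d * g⁻¹) (g * a * g⁻¹) := by
  intro z hz hne
  have hz' : g⁻¹ * z * g ∈ W D d := by
    have := W_conj hD g⁻¹ hz
    rwa [show g⁻¹ * (g * d * g⁻¹) * g⁻¹⁻¹ = d by group, inv_inv] at this
  have hne' : a * (g⁻¹ * z * g) ≠ g⁻¹ * z * g * a := fun e => hne (by
    calc g * a * g⁻¹ * z = g * (a * (g⁻¹ * z * g)) * g⁻¹ := by group
      _ = g * (g⁻¹ * z * g * a) * g⁻¹ := by rw [e]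
      _ = z * (g * a * g⁻¹) := by group)
  rw [show (g * a * g⁻¹ * z) ^ 2 = g * (a * (g⁻¹ * z * g)) ^ 2 * g⁻¹ by rw [pow_two, pow_two]; group,
    odds_conj hD, odds_conj hD, h _ hz' hne']

/-- An opposite of one point of a line with product of order `3` swaps centres with it. -/
theorem center_three {c x b : G} (hcx : OddAdj D c x) (h3 : orderOf (c * x) = 3) (hl : Line D c b)
    (hn : ¬ OddAdj D b x) : (c * (x * b) ^ 2) ^ 2 = b := by
  have hx := hcx.2.1
  obtain ⟨h4, h4'⟩ := center_line hD hcx hl hn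
  obtain ⟨⟨-, hnD, hnx, -⟩, ⟨-, -, hnb, -⟩, e1, -⟩ := four_center hD hx hl.2.1 h4
  set n := (x * b) ^ 2 with hndef
  obtain ⟨hl2, ⟨-, hb2, hb2n, -⟩, -, -⟩ := four_center hD hl.1 hnD h4'
  set b2 := (c * n) ^ 2 with hb2def
  have hcc := mul_self hD hl.1
  have hxx := mul_self hD hx
  have hci := inv_eq hD hl.1
  have hxi := inv_eq hD hx
  have n2 : ¬ OddAdj D b2 x := fun h => by
    have hxn : Line D x n := (four_center hD hx hl.2.1 h4).1
    have hcn : c * n ≠ n * c := not_comm_of_four hD hl.1 hnD h4'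
    exact line_odd_not_comm hD hxn h hb2n
  have e3 : c * x * c = x * c * x := by
    have h := pow_orderOf_eq_one (c * x)
    rw [h3, pow_succ, pow_two] at h
    calc c * x * c = c * x * c * (x * c * x) * (x * c * x)⁻¹ := by group
      _ = (c * x * (c * x) * (c * x)) * (x * c * x)⁻¹ := by group
      _ = x * c * x := by rw [h, one_mul, mul_inv_rev, mul_inv_rev, hci, hxi]; group
  have hcb : c * b * c = b := by rw [← hl.2.2.1, mul_assoc, hcc, mul_one]
  -- conjugate the centre by `c`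
  have hA : c * n * c = (x * c * x * b) ^ 2 := by
    calc c * n * c = c * x * c * (c * b * c) * (c * x * c) * (c * b * c) := by
          rw [hndef, pow_two, show c * x * c * (c * b * c) * (c * x * c) * (c * b * c) =
            c * x * (c * c) * b * (c * c) * x * (c * c) * b * c by group, hcc]
          group
      _ = (x * c * x * b) ^ 2 := by rw [hcb, e3, pow_two]; group
  have hB : (x * c * x * b) ^ 2 = x * (c * (b * n)) ^ 2 * x := by
    rw [← e1, pow_two, pow_two]
    calc x * c * x * b * (x * c * x * b) = x * c * x * b * x * c * x * b * (x * x) := by rw [hxx]; group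
      _ = x * (c * (x * b * x) * (c * (x * b * x))) * x := by group
  have hcbn : (c * (b * n)) ^ 2 = b2 := by
    have hc1 : Commute b (c * n) := Commute.mul_right hl.2.2.1 (show n * b = b * n from hnb).symm
    rw [show c * (b * n) = c * b * n by group, ← hl.2.2.1, mul_assoc, hc1.mul_pow, pow_two b,
      mul_self hD hl.2.1, one_mul, hb2def]
  have hC : x * b2 * x = b2 * n := by
    rw [← hcbn, ← hB, ← hA, hcbn, hb2def, pow_two]
    rw [show c * n * (c * n) * n = c * n * c * (n * n) by group, mul_self hD hnD, mul_one]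
  refine center_inj hD hcx hl2 hl n2 hn ?_
  show (x * b2) ^ 2 = n
  rw [pow_two, show x * b2 * (x * b2) = x * b2 * x * b2 by group, hC, mul_assoc, show n * b2 = b2 * n from hb2n.symm,
    ← mul_assoc, mul_self hD hb2, one_mul]

/-- A member moving the centre of a pair is opposite to one of the pair with product of order `3`. -/
theorem three_of_mover {a e b x : G} (ha : a ∈ D) (he : e ∈ D) (hx : x ∈ D) (h4 : orderOf (a * e) = 4)
    (hsq : (a * e) ^ 2 = b) (hxe : x * e = e * x) (hxb : x * b * x = b * e) :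
    OddAdj D a x ∧ orderOf (a * x) = 3 := by
  obtain ⟨-, hle, e1, -⟩ := four_center hD ha he h4
  obtain ⟨⟨-, hb, hba, -⟩, -, -, -⟩ := four_center hD ha he h4
  rw [hsq] at hle e1 hb hba
  have hb1 : b ≠ 1 := ne_one hD hb
  have four : ∀ p q : G, p ∈ D → q ∈ D → (∃ r ∈ D, (p * q) ^ 2 = r) → orderOf (p * q) = 4 := by
    rintro p q hp hq ⟨r, hr, hpq⟩
    rcases hD.pair p hp q hq with h | h | ⟨h, -⟩
    · exact absurd (hpq ▸ sq_of_comm hD hp hq h : r = 1) (ne_one hD hr)
    · exfalso
      have h4 : (p * q) ^ 4 = 1 := by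
        rw [show (4 : ℕ) = 2 * 2 from rfl, pow_mul, hpq, pow_two, mul_self hD hr]
      have h1 : orderOf (p * q) = 1 := Nat.eq_one_of_dvd_coprimes
        ((Nat.coprime_two_left.mpr h).pow_left 2 |> Nat.Coprime.symm) dvd_rfl
        ((orderOf_dvd_of_pow_eq_one h4).trans (by norm_num))
      exact ne_one hD hr (by rw [← hpq, orderOf_eq_one_iff.mp h1, one_pow])
    · exact h
  have hax : OddAdj D a x := odd_of_mover hD ha he hx h4 hxe (hsq.symm ▸ hxb)
  have hai := inv_eq hD ha
  have hxi := inv_eq hD hx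
  have hab' : a * b * a = b := by rw [← hba, mul_assoc, mul_self hD ha, mul_one]
  have hxe' : x * e * x = e := by rw [hxe, mul_assoc, mul_self hD hx, mul_one]
  have hbbe : b * (e * b) = e := by
    rw [← hle.2.2.1, ← mul_assoc, mul_self hD hb, one_mul]
  set u := a * x * a with hu
  set v := x * a * x with hv
  have hub : u * b * u = e := by
    calc u * b * u = a * x * (a * b * a) * x * a := by rw [hu]; group
      _ = a * (b * e) * a := by rw [hab', ← hxb]; group
      _ = (a * b * a) * (a * e * a) := by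
        rw [show a * b * a * (a * e * a) = a * b * (a * a) * e * a by group, mul_self hD ha, mul_one]; group
      _ = e := by rw [hab', e1, hbbe]
  have hvb : v * b * v = e := by
    calc v * b * v = x * a * (x * b * x) * a * x := by rw [hv]; group
      _ = x * ((a * b * a) * (a * e * a)) * x := by
        rw [hxb, show a * b * a * (a * e * a) = a * b * (a * a) * e * a by group, mul_self hD ha, mul_one]; group
      _ = e := by rw [hab', e1, hbbe, hxe']
  have huD : u ∈ D := conj_mem' hD ha hx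
  have hvD : v ∈ D := conj_mem' hD hx ha
  have third : ∀ w ∈ D, w * b * w = e → w * (e * b) = (e * b) * w ∧ (w * b) ^ 2 = e * b := by
    intro w hw hwb
    have h1 : w * e * w = b := by
      rw [← hwb, show w * (w * b * w) * w = w * w * b * (w * w) by group, mul_self hD hw, one_mul, mul_one]
    refine ⟨?_, by rw [pow_two, show w * b * (w * b) = w * b * w * b by group, hwb]⟩
    have h2 : w * (e * b) * w = b * e := by
      calc w * (e * b) * w = (w * e * w) * (w * b * w) := by
            rw [show w * e * w * (w * b * w) = w * e * (w * w) * b * w by group, mul_self hD hw, mul_one]; group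
        _ = b * e := by rw [h1, hwb]
    calc w * (e * b) = w * (e * b) * w * w := by rw [mul_assoc (w * (e * b)), mul_self hD hw, mul_one]
      _ = e * b * w := by rw [h2, hle.2.2.1]
  have hlz : Line D v (e * b) := by
    have h1 := (third v hvD hvb).2
    rw [← h1]
    exact (four_center hD hvD hb (four v b hvD hb ⟨e * b, hle.2.2.1 ▸ hle.2.2.2, h1⟩)).1
  have hodd : Odd (orderOf (u * v)) := by
    rw [show u * v = (a * x) ^ 3 by rw [hu, hv, pow_succ, pow_two]; group]
    exact CfsgLib.Invol.odd_orderOf_of_dvd hax.2.2.2 (orderOf_pow_dvd 3)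
  have huv := no_odd hD hlz.2.1 huD hlz.2.2.1 (hlz.2.2.1 ▸ hlz.2.2.2) (third u huD hub).1 hodd
  refine ⟨hax, orderOf_eq_prime ?_ (fun h => hax.2.2.1 ?_)⟩
  · rw [← huv, hu, hv, pow_succ, pow_two]; group
  · calc a = a * x * x := by rw [mul_assoc, mul_self hD hx, mul_one]
      _ = x := by rw [h, one_mul]

end Elementary

section Structure

variable [Finite G] (S : Setting D)
include S

theorem same_iff {d v : G} (hd : d ∈ D) : Same D d v ↔ v ∈ sameCommutingClass D d :=
  ⟨fun h => ⟨h.1, (sameClass_iff S.hD S.hclass hd h.1).mpr h.2.symm⟩,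
    fun h => ⟨h.1, ((sameClass_iff S.hD S.hclass hd h.1).mp h.2).symm⟩⟩

theorem mem_E_iff {d x : G} (hd : d ∈ D) : x ∈ sameCommutingSubgroup D d ↔ x = 1 ∨ Same D d x := by
  rw [← SetLike.mem_coe, S.hE d hd, same_iff S hd]
  simp [or_comm]

theorem comm_mem_iff {d v : G} (hd : d ∈ D) (h : Same D d v) :
    commutingMembers D v = commutingMembers D d :=
  ((sameClass_iff S.hD S.hclass hd h.1).mpr h.2.symm).symm

theorem W_congr {d v : G} (hd : d ∈ D) (h : Same D d v) : W D v = W D d := by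
  unfold W
  rw [comm_mem_iff S hd h]

theorem good_congr {d v a : G} (hd : d ∈ D) (h : Same D d v) (hg : Good D d a) : Good D v a := by
  intro z hz hne
  rw [W_congr S hd h] at hz
  rw [hg z hz hne, h.2]

theorem W_of_same {d u v : G} (hd : d ∈ D) (hu : u ∈ W D d) (h : Same D u v) : v ∈ W D d := by
  have hud := W_mem S.hD hu
  refine (mem_W_iff S.hD).mpr ⟨h.1, ?_, fun f hf hfd ho => ?_⟩
  · exact (comm_of_odds_eq S.hD S.hclass hud h.1 h.2.symm hd (W_comm S.hD hu).symm).symm
  · have h1 : f ∈ odds D v := ho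
    rw [h.2] at h1
    exact W_not_odd S.hD hu hf hfd h1

theorem same_mem_W {d v : G} (hd : d ∈ D) (h : Same D d v) : v ∈ W D d :=
  W_of_same S hd (W_self S.hD hd) h

theorem same_central {d v w : G} (hd : d ∈ D) (h : Same D d v) (hw : w ∈ W D d) : w * v = v * w :=
  comm_of_odds_eq S.hD S.hclass hd h.1 h.2.symm (W_mem S.hD hw) (W_comm S.hD hw)

theorem E_central {d x w : G} (hd : d ∈ D) (h : x ∈ sameCommutingSubgroup D d) (hw : w ∈ W D d) :
    w * x = x * w := by
  rcases (mem_E_iff S hd).mp h with rfl | h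
  · simp
  · exact same_central S hd h hw

theorem E_sq {d x : G} (hd : d ∈ D) (h : x ∈ sameCommutingSubgroup D d) : x * x = 1 := by
  rcases (mem_E_iff S hd).mp h with rfl | h
  · simp
  · exact mul_self S.hD h.1

/-- The members commuting with `d` form a set of root involutions of the group they generate. -/
theorem comm_root (d : G) :
    IsRootInvolutionSet {p : ↥(Subgroup.closure (commutingMembers D d)) | (p : G) ∈ commutingMembers D d} := by
  have hcomm : ∀ g ∈ Subgroup.closure (commutingMembers D d), g * d = d * g := fun g hg => by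
    induction hg using Subgroup.closure_induction with
    | mem u hu => exact hu.2
    | one => simp
    | mul u v _ _ h1 h2 => rw [mul_assoc, h2, ← mul_assoc, h1, mul_assoc]
    | inv u _ h1 => exact (show Commute u d from h1).inv_left
  refine ⟨fun p hp => by rw [← Subgroup.orderOf_coe]; exact S.hD.orderOf_eq _ hp.1,
    Subgroup.closure_closure_coe_preimage (k := commutingMembers D d), fun p hp g => ?_, fun u hu v hv => ?_⟩
  · refine ⟨S.hD.conj_mem _ hp.1 g, ?_⟩
    show (g : G) * p * (g : G)⁻¹ * d = d * (g * p * (g : G)⁻¹)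
    exact (((show Commute (g : G) d from hcomm g g.2).mul_left hp.2).mul_left (Commute.inv_left (hcomm g g.2))).eq
  · rcases S.hD.pair u hu.1 v hv.1 with h | h | ⟨h, h'⟩
    · exact Or.inl (Subtype.ext h)
    · exact Or.inr (Or.inl (by rw [← Subgroup.orderOf_coe]; exact h))
    · refine Or.inr (Or.inr ⟨by rw [← Subgroup.orderOf_coe]; exact h, h', ?_⟩)
      exact ((show Commute (u : G) d from hu.2).mul_left hv.2 |>.pow_left 2).eq

theorem W_le_Two {d w : G} (hw : w ∈ W D d) : w ∈ Two D d := by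
  refine ⟨⟨w, Subgroup.subset_closure hw.1⟩, isolated_mem_pCore (comm_root S d) ⟨hw.1, fun b => ⟨fun h => ?_, fun h => ?_⟩⟩, rfl⟩
  · refine (hw.2 b).1 ⟨hw.1, h.2.1, fun e => h.2.2.1 (Subtype.ext e), ?_⟩
    have := h.2.2.2
    rwa [← Subgroup.orderOf_coe, Subgroup.coe_mul] at this
  · refine (hw.2 b).2 ⟨h.1, hw.1, fun e => h.2.2.1 (Subtype.ext e), ?_⟩
    have := h.2.2.2
    rwa [← Subgroup.orderOf_coe, Subgroup.coe_mul] at this

theorem Two_comm {d x : G} (hx : x ∈ Two D d) : x * d = d * x := by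
  obtain ⟨x, -, rfl⟩ := hx
  suffices h : ∀ g ∈ Subgroup.closure (commutingMembers D d), g * d = d * g from h _ x.2
  intro g hg
  induction hg using Subgroup.closure_induction with
  | mem u hu => exact hu.2
  | one => simp
  | mul u v _ _ h1 h2 => rw [mul_assoc, h2, ← mul_assoc, h1, mul_assoc]
  | inv u _ h1 => exact (show Commute u d from h1).inv_left

theorem W_of_Two {d w : G} (hx : w ∈ Two D d) (hw : w ∈ D) : w ∈ W D d := by
  have hwd := Two_comm S hx
  obtain ⟨p, hp, rfl⟩ := hx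
  have h := isolated_of_mem_pCore (comm_root S d) (show (p : G) ∈ commutingMembers D d from ⟨hw, hwd⟩) hp
  refine (mem_W_iff S.hD).mpr ⟨hw, hwd, fun f hf hfd ho => ?_⟩
  refine (h.2 ⟨f, Subgroup.subset_closure ⟨hf, hfd⟩⟩).1 ⟨⟨hw, hwd⟩, ⟨hf, hfd⟩, fun e => ho.2.2.1 (congrArg Subtype.val e), ?_⟩
  rw [← Subgroup.orderOf_coe]
  exact ho.2.2.2

theorem W_of_mul {d a b : G} (ha : a ∈ W D d) (hb : b ∈ W D d) (hab : a * b ∈ D) : a * b ∈ W D d :=
  W_of_Two S (mul_mem (W_le_Two S ha) (W_le_Two S hb)) hab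

theorem Two_isPGroup (d : G) : IsPGroup 2 ↥(Two D d) :=
  (CfsgLib.Fitting.pCore_isPGroup 2).map _

theorem Two_odd {d x : G} (hx : x ∈ Two D d) (ho : Odd (orderOf x)) : x = 1 := by
  obtain ⟨k, hk⟩ := Two_isPGroup S d ⟨x, hx⟩
  have h1 : x ^ (2 ^ k) = 1 := congrArg Subtype.val hk
  exact orderOf_eq_one_iff.mp (Nat.eq_one_of_dvd_coprimes
    ((Nat.coprime_two_left.mpr ho).pow_left k |> Nat.Coprime.symm) dvd_rfl (orderOf_dvd_of_pow_eq_one h1))

theorem four_mem {d a b : G} (ha : a ∈ W D d) (hb : b ∈ W D d) (h : a * b ≠ b * a) :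
    (a * b) ^ 2 ∈ W D d :=
  W_of_Two S (pow_mem (mul_mem (W_le_Two S ha) (W_le_Two S hb)) 2)
    (four_center S.hD (W_mem S.hD ha) (W_mem S.hD hb) (W_four S.hD ha hb h)).1.2.1

/-- Centre map onto the class of `d`. -/
theorem centre_surj {d a z : G} (hd : d ∈ D) (ha : a ∈ D) (hz : z ∈ D)
    (h : ∀ w, Same D z w → orderOf (a * w) = 4 ∧ odds D ((a * w) ^ 2) = odds D d)
    {v : G} (hv : Same D d v) : ∃ w, Same D z w ∧ (a * w) ^ 2 = v ∧ Line D a v ∧ Line D w v := by
  obtain ⟨g, hg⟩ := S.hclass z hz d hd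
  have hconj : ∀ w, Same D z w → Same D d (g * w * g⁻¹) := fun w hw =>
    ⟨S.hD.conj_mem w hw.1 g, by rw [odds_conj S.hD, hw.2, hg, odds_conj S.hD]⟩
  have hconj' : ∀ w, Same D d w → Same D z (g⁻¹ * w * g) := fun w hw => by
    have e : z = g⁻¹ * d * g⁻¹⁻¹ := by rw [hg]; group
    refine ⟨by simpa using S.hD.conj_mem w hw.1 g⁻¹, ?_⟩
    rw [show g⁻¹ * w * g = g⁻¹ * w * g⁻¹⁻¹ by group, odds_conj S.hD, hw.2, e, odds_conj S.hD]
  let F : {w // Same D d w} → {w // Same D d w} := fun u =>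
    ⟨(a * (g⁻¹ * u.1 * g)) ^ 2, (four_center S.hD ha (hconj' _ u.2).1 (h _ (hconj' _ u.2)).1).1.2.1,
      (h _ (hconj' _ u.2)).2⟩
  have hinj : Function.Injective F := by
    intro u₁ u₂ he
    have h1 := hconj' _ u₁.2
    have h2 := hconj' _ u₂.2
    set w₁ := g⁻¹ * u₁.1 * g with hw₁
    set w₂ := g⁻¹ * u₂.1 * g with hw₂
    have he' : (a * w₁) ^ 2 = (a * w₂) ^ 2 := congrArg Subtype.val he
    have hc : w₁ * a * w₁ = w₂ * a * w₂ := by
      rw [(four_center S.hD ha h1.1 (h _ h1).1).2.2.2, (four_center S.hD ha h2.1 (h _ h2).1).2.2.2, he']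
    have hE2 : w₂ * w₁ ∈ sameCommutingSubgroup D z :=
      mul_mem ((mem_E_iff S hz).mpr (Or.inr h2)) ((mem_E_iff S hz).mpr (Or.inr h1))
    have hcomm : w₂ * w₁ * a = a * (w₂ * w₁) := by
      have := congrArg (fun t => w₂ * t * w₁) hc
      simp only [mul_assoc, mul_self S.hD h1.1, mul_one] at this
      simp only [← mul_assoc, mul_self S.hD h2.1, one_mul] at this
      rw [this, mul_assoc]
    have key : w₁ = w₂ := by
      rcases (mem_E_iff S hz).mp hE2 with e | e
      · calc w₁ = w₂ * w₂ * w₁ := by rw [mul_self S.hD h2.1, one_mul]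
          _ = w₂ := by rw [mul_assoc, e, mul_one]
      · exfalso
        exact not_comm_of_four S.hD ha h1.1 (h _ h1).1
          (comm_of_odds_eq S.hD S.hclass e.1 h1.1 (e.2.trans h1.2.symm) ha hcomm.symm)
    refine Subtype.ext ?_
    have := congrArg (fun t => g * t * g⁻¹) key
    simp only [hw₁, hw₂] at this
    simpa [mul_assoc] using this
  obtain ⟨u, hu⟩ := Finite.surjective_of_injective hinj ⟨v, hv⟩
  have hu' : (a * (g⁻¹ * u.1 * g)) ^ 2 = v := congrArg Subtype.val hu
  obtain ⟨hl1, hl2, -, -⟩ := four_center S.hD ha (hconj' _ u.2).1 (h _ (hconj' _ u.2)).1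
  exact ⟨_, hconj' _ u.2, hu', hu' ▸ hl1, hu' ▸ hl2⟩

/-- `centre_surj` for a pair inside `W D d`. -/
theorem centre_surj_W {d a z : G} (hd : d ∈ D) (ha : a ∈ W D d) (hz : z ∈ W D d) (hne : a * z ≠ z * a)
    (h : ∀ w, Same D z w → odds D ((a * w) ^ 2) = odds D d)
    {v : G} (hv : Same D d v) : ∃ w, Same D z w ∧ (a * w) ^ 2 = v ∧ Line D a v ∧ Line D w v :=
  centre_surj S hd (W_mem S.hD ha) (W_mem S.hD hz) (fun w hw => ⟨W_four S.hD ha (W_of_same S hd hz hw) fun e =>
    hne (comm_of_odds_eq S.hD S.hclass hw.1 (W_mem S.hD hz) hw.2 (W_mem S.hD ha) e), h w hw⟩) hv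

end Structure

end CfsgLib.RootSub.RootStruct
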