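import Cfsg.Agent.Lib.RootSub.RootStructBasic
import Mathlib.GroupTheory.Nilpotent

/-!
Root involutions, towards the root structure theorem: every centre of two isolated members of the commuting members
of `d` lies in the class of `d` (`good_all`). The proof goes down the lower central series of the `2`-group `Two D d`.
-/

set_option autoImplicit false
set_option linter.unusedSectionVars false
set_option linter.style.haveILetI false

open Cfsg

namespace CfsgLib.RootSub.RootStruct

open CfsgLib.RootSub.Invol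

variable {G : Type*} [Group G] [Finite G] {D : Set G} (S : Setting D)
include S

/-- The relations of two isolated members, whether they commute or not. -/
theorem pair_facts {d a b : G} (ha : a ∈ W D d) (hb : b ∈ W D d) :
    a * b * a = b * (a * b) ^ 2 ∧ (a * b) ^ 2 * a = a * (a * b) ^ 2 ∧ (a * b) ^ 2 * b = b * (a * b) ^ 2 ∧
      (b * a) ^ 2 = (a * b) ^ 2 ∧ (a * b) ^ 2 * (a * b) ^ 2 = 1 := by
  have haD := W_mem S.hD ha
  have hbD := W_mem S.hD hb
  have hs := sq_symm S.hD haD hbD (W_pair S.hD ha hb)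
  rcases W_pair S.hD ha hb with h | h
  · have h1 := sq_of_comm S.hD haD hbD h
    refine ⟨?_, by rw [h1, one_mul, mul_one], by rw [h1, one_mul, mul_one], hs, by rw [h1, one_mul]⟩
    rw [h1, mul_one, h, mul_assoc, mul_self S.hD haD, mul_one]
  · obtain ⟨⟨-, hcD, c1, -⟩, ⟨-, -, c2, -⟩, e1, -⟩ := four_center S.hD haD hbD h
    exact ⟨e1, c1, c2, hs, mul_self S.hD hcD⟩

theorem sq_eq_one_or {d a b : G} (ha : a ∈ W D d) (hb : b ∈ W D d) :
    (a * b) ^ 2 = 1 ∨ a * b ≠ b * a ∧ (a * b) ^ 2 ∈ W D d ∧ Line D a ((a * b) ^ 2) ∧ Line D b ((a * b) ^ 2) := by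
  by_cases h : a * b = b * a
  · exact Or.inl (sq_of_comm S.hD (W_mem S.hD ha) (W_mem S.hD hb) h)
  · obtain ⟨h1, h2, -, -⟩ := four_center S.hD (W_mem S.hD ha) (W_mem S.hD hb) (W_four S.hD ha hb h)
    exact Or.inr ⟨h, four_mem S ha hb h, h1, h2⟩

/-- The centre of a good element with a member that does not commute with it is in the class of `d`. -/
theorem good_same {d a z : G} (ha : a ∈ W D d) (hG : Good D d a) (hz : z ∈ W D d) (hne : a * z ≠ z * a) :
    Same D d ((a * z) ^ 2) :=
  ⟨W_mem S.hD (four_mem S ha hz hne), hG z hz hne⟩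

theorem good_sq_mem_E {d a z : G} (hd : d ∈ D) (ha : a ∈ W D d) (hG : Good D d a) (hz : z ∈ W D d) :
    (a * z) ^ 2 ∈ sameCommutingSubgroup D d := by
  by_cases h : a * z = z * a
  · rw [sq_of_comm S.hD (W_mem S.hD ha) (W_mem S.hD hz) h]; exact one_mem _
  · exact (mem_E_iff S hd).mpr (Or.inr (good_same S ha hG hz h))

/-- The class of a good element consists of good elements. -/
theorem class_good {d c u : G} (hd : d ∈ D) (hc : c ∈ W D d) (hu : Same D c u) (hG : Good D d c) :
    Good D d u := by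
  intro b hb hne
  have huW := W_of_same S hd hc hu
  have hcD := W_mem S.hD hc
  have hbD := W_mem S.hD hb
  have hne' : c * b ≠ b * c := fun e => hne (by
    have := comm_of_odds_eq S.hD S.hclass hcD hu.1 hu.2.symm hbD e.symm
    exact this.symm)
  by_contra hbad
  -- the centre with `c`, and the member `e₀` moving it
  set β0 := (c * b) ^ 2 with hβ0
  have hβ : Same D d β0 := good_same S hc hG hb hne'
  have hbc4 := W_four S.hD hb hc (Ne.symm hne')
  have hcb4 := W_four S.hD hc hb hne'
  obtain ⟨hcl, hbl, hcbc, hbcb⟩ := four_center S.hD hcD hbD hcb4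
  rw [← hβ0] at hcl hbl hcbc hbcb
  have hnb : odds D β0 ≠ odds D b := fun e => hne' (same_central S hd ⟨hbD, e ▸ hβ.2⟩ hc)
  obtain ⟨e0, he0, he0b, he0β⟩ := exists_mover_of_odds_ne S.hD S.hclass hbl.symm hnb
  obtain ⟨hce, hce3⟩ := three_of_mover S.hD hcD hbD he0 hcb4 hβ0.symm he0b he0β
  have hue : OddAdj D u e0 := by
    have h1 : e0 ∈ odds D c := hce
    rw [← hu.2] at h1
    exact h1
  -- `e₀` is good at `b`
  have hrot : c * e0 * c * e0 * c = e0 := by
    have h := pow_orderOf_eq_one (c * e0)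
    rw [hce3, pow_succ, pow_two] at h
    calc c * e0 * c * e0 * c = c * e0 * (c * e0) * (c * e0) * e0⁻¹ := by group
      _ = e0 := by rw [h, one_mul, inv_eq S.hD he0]
  have hGe : Good D b e0 := by
    have h1 := good_conj S.hD (c * e0 * c) (good_congr S hd hβ hG)
    have hg : (c * e0 * c)⁻¹ = c * e0 * c := by
      rw [mul_inv_rev, mul_inv_rev, inv_eq S.hD hcD, inv_eq S.hD he0]; group
    have e1 : c * e0 * c * β0 * (c * e0 * c)⁻¹ = b := by
      rw [hg]
      calc c * e0 * c * β0 * (c * e0 * c) = c * e0 * (c * β0) * c * e0 * c := by group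
        _ = c * e0 * (β0 * (c * c)) * e0 * c := by rw [← hcl.2.2.1]; group
        _ = c * (e0 * β0 * e0) * c := by rw [mul_self S.hD hcD]; group
        _ = (c * β0 * c) * (c * b * c) := by
          rw [he0β, show c * β0 * c * (c * b * c) = c * β0 * (c * c) * b * c by group, mul_self S.hD hcD]; group
        _ = b := by
          rw [hcbc, show c * β0 * c = β0 * (c * c) by rw [← hcl.2.2.1, mul_assoc], mul_self S.hD hcD, mul_one,
            hbl.2.2.1.symm, ← mul_assoc, mul_self S.hD hβ.1, one_mul]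
    have e2 : c * e0 * c * c * (c * e0 * c)⁻¹ = e0 := by
      rw [hg, show c * e0 * c * c * (c * e0 * c) = c * e0 * (c * c) * c * e0 * c by group, mul_self S.hD hcD, mul_one]
      exact hrot
    rwa [e1, e2] at h1
  -- the bad centre
  set r := (u * b) ^ 2 with hr
  obtain ⟨hlu, hlb, -, -⟩ := four_center S.hD (W_mem S.hD huW) hbD (W_four S.hD huW hb hne)
  rw [← hr] at hlu hlb
  have he0W : e0 ∈ W D b := by
    have h4 : orderOf (β0 * e0) = 4 := by
      have h1 : (β0 * e0) ^ 2 = b := by
        rw [pow_two, show β0 * e0 * (β0 * e0) = β0 * (e0 * β0 * e0) by group, he0β, ← mul_assoc,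
          mul_self S.hD hβ.1, one_mul]
      rcases S.hD.pair β0 hβ.1 e0 he0 with h | h | ⟨h, -⟩
      · exact absurd (h1 ▸ sq_of_comm S.hD hβ.1 he0 h) (ne_one S.hD hbD)
      · exact absurd (oddAdj_symm S.hD hce) (by
          intro hh
          have h2 : CfsgLib.RootSub.Invol.Line D c β0 := hcl
          have h3 : OddAdj D β0 e0 := ⟨hβ.1, he0, fun e => hnb (by
            exfalso
            rw [← e, mul_self S.hD hβ.1, one_pow] at h1
            exact ne_one S.hD hbD h1.symm), h⟩
          exact line_odd_not_comm S.hD hbl.symm (oddAdj_symm S.hD h3) he0b)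
      · exact h
    have h1 : (β0 * e0) ^ 2 = b := by
      rw [pow_two, show β0 * e0 * (β0 * e0) = β0 * (e0 * β0 * e0) by group, he0β, ← mul_assoc,
        mul_self S.hD hβ.1, one_mul]
    have := (four_center S.hD hβ.1 he0 h4).2.1.symm
    rw [h1] at this
    exact W_of_line S.hD this
  have hrW : r ∈ W D b := W_of_line S.hD hlb
  have hre : e0 * r ≠ r * e0 := line_odd_not_comm S.hD hlu (oddAdj_symm S.hD hue)
  have hξ : Same D b ((e0 * r) ^ 2) := good_same S he0W hGe hrW hre
  have hβ0W : β0 ∈ W D b := W_of_line S.hD hbl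
  have hene : e0 * β0 ≠ β0 * e0 := line_odd_not_comm S.hD hcl (oddAdj_symm S.hD hce)
  obtain ⟨v, hv, hev, hle, -⟩ := centre_surj_W S hbD he0W hβ0W hene (fun w hw => by
    refine hGe w (W_of_same S hbD hβ0W hw) fun e => hene ?_
    exact comm_of_odds_eq S.hD S.hclass hw.1 hβ.1 hw.2 he0 e) hξ
  have hvd : Same D d v := ⟨hv.1, hv.2.trans hβ.2⟩
  -- `c` lies on a line with `v`
  obtain ⟨z, hz, hcz, hcv, hzv⟩ := centre_surj_W S hd hc hb hne' (fun w hw =>
    hG w (W_of_same S hd hb hw) fun e => hne' (comm_of_odds_eq S.hD S.hclass hw.1 hbD hw.2 hcD e)) hvd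
  -- `v` is good at `c`
  have hvc : odds D v ≠ odds D c := fun e => hne' (same_central S hd ⟨hcD, e ▸ hvd.2⟩ hb).symm
  obtain ⟨m, hm, hmc, hmv⟩ := exists_mover_of_odds_ne S.hD S.hclass hcv.symm hvc
  have hzD := hz.1
  have hzc4 : orderOf (c * z) = 4 := W_four S.hD hc (W_of_same S hd hb hz) fun e => by
    exact hne' (comm_of_odds_eq S.hD S.hclass hz.1 hbD hz.2 hcD e)
  obtain ⟨-, -, hczc, hzcz⟩ := four_center S.hD hcD hzD hzc4
  rw [hcz] at hczc hzcz
  have hvv := mul_self S.hD hv.1
  have hzvz : z * v * z = v := by rw [← hzv.2.2.1, mul_assoc, mul_self S.hD hzD, mul_one]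
  have hmcm : m * c * m = c := by rw [hmc, mul_assoc, mul_self S.hD hm, mul_one]
  have hGv : Good D c v := by
    have h1 := good_conj S.hD (z * m * z) (good_congr S hd hvd hG)
    have hg : (z * m * z)⁻¹ = z * m * z := by
      rw [mul_inv_rev, mul_inv_rev, inv_eq S.hD hzD, inv_eq S.hD hm]; group
    have e1 : z * m * z * v * (z * m * z)⁻¹ = c := by
      rw [hg]
      calc z * m * z * v * (z * m * z) = z * (m * (z * v * z) * m) * z := by group
        _ = (z * v * z) * (z * c * z) := by
          rw [hzvz, hmv, show v * (z * c * z) = v * z * c * z by group]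
          conv_lhs => rw [show z * (v * c) * z = z * v * (z * z) * c * z by rw [mul_self S.hD hzD]; group]
          rw [show z * v * (z * z) * c * z = z * v * z * (z * c * z) by group, hzvz]; group
        _ = c := by
          rw [hzvz, hzcz, hcv.2.2.1.symm, ← mul_assoc, hvv, one_mul]
    have e2 : z * m * z * c * (z * m * z)⁻¹ = v := by
      rw [hg]
      calc z * m * z * c * (z * m * z) = z * (m * (z * c * z) * m) * z := by group
        _ = z * ((m * c * m) * (m * v * m)) * z := by
          rw [hzcz, show m * (c * v) * m = m * c * (m * m) * v * m by rw [mul_self S.hD hm]; group]; group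
        _ = z * (c * (v * c)) * z := by rw [hmcm, hmv]
        _ = v := by rw [hcv.2.2.1, ← mul_assoc c, mul_self S.hD hcD, one_mul, hzvz]
    rwa [e1, e2] at h1
  -- so `u` lies on a line with `v`
  have hvm4 : orderOf (v * m) = 4 := by
    have h1 : (v * m) ^ 2 = c := by
      rw [pow_two, show v * m * (v * m) = v * (m * v * m) by group, hmv, ← mul_assoc, hvv, one_mul]
    rcases S.hD.pair v hv.1 m hm with h | h | ⟨h, -⟩
    · exact absurd (h1 ▸ sq_of_comm S.hD hv.1 hm h) (ne_one S.hD hcD)
    · have h3 : OddAdj D v m := ⟨hv.1, hm, fun e => by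
        rw [← e, hvv, one_pow] at h1
        exact ne_one S.hD hcD h1.symm, h⟩
      exact absurd hmc (line_odd_not_comm S.hD hcv.symm (oddAdj_symm S.hD h3))
    · exact h
  have hmW : m ∈ W D c := by
    have h1 : (v * m) ^ 2 = c := by
      rw [pow_two, show v * m * (v * m) = v * (m * v * m) by group, hmv, ← mul_assoc, hvv, one_mul]
    have := (four_center S.hD hv.1 hm hvm4).2.1.symm
    rw [h1] at this
    exact W_of_line S.hD this
  have hvm := not_comm_of_four S.hD hv.1 hm hvm4
  obtain ⟨-, -, -, hvu, -⟩ := centre_surj_W S hcD (W_of_line S.hD hcv) hmW hvm (fun w hw =>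
    hGv w (W_of_same S hcD hmW hw) fun e => hvm (comm_of_odds_eq S.hD S.hclass hw.1 hm hw.2 hv.1 e)) hu
  -- two points with one centre
  have hnr : ¬ OddAdj D r e0 := fun h => W_not_odd S.hD hrW he0 he0b h
  have hnv : ¬ OddAdj D v e0 := fun h => W_not_odd S.hD (W_of_same S hbD hβ0W hv) he0 he0b h
  have hrv : r = v := center_inj S.hD hue hlu hvu.symm hnr hnv hev.symm
  exact hbad (hrv ▸ hvd.2)

/-- A member not commuting with a good one lies on a line with every element of the class of `d`. -/
theorem lines_of_good {d b p : G} (hd : d ∈ D) (hb : b ∈ W D d) (hp : p ∈ W D d) (hne : b * p ≠ p * b)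
    (hG : Good D d p) {v : G} (hv : Same D d v) : Line D b v := by
  obtain ⟨-, -, -, hl, -⟩ := centre_surj_W S hd hb hp hne (fun w hw => by
    have hwW := W_of_same S hd hp hw
    rw [(pair_facts S hwW hb).2.2.2.1]
    exact class_good S hd hp hw hG b hb fun e =>
      hne (comm_of_odds_eq S.hD S.hclass hw.1 (W_mem S.hD hp) hw.2 (W_mem S.hD hb) e.symm)) hv
  exact hl

/-- No commuting outer pair has a central double centre. -/
theorem lstar {d b c y : G} (hd : d ∈ D) (hb : b ∈ W D d) (hc : c ∈ W D d) (hy : y ∈ W D d)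
    (hyb : y * b = b * y) (hcy : c * y ≠ y * c) (hbp : b * (c * y) ^ 2 ≠ (c * y) ^ 2 * b)
    (hβ : Same D d ((b * (c * y) ^ 2) ^ 2)) : False := by
  have hbD := W_mem S.hD hb
  have hyD := W_mem S.hD hy
  have hcD := W_mem S.hD hc
  set p := (c * y) ^ 2 with hp
  obtain ⟨hlc, hly, hcyc, -⟩ := four_center S.hD hcD hyD (W_four S.hD hc hy hcy)
  rw [← hp] at hlc hly hcyc
  have hpW : p ∈ W D d := four_mem S hc hy hcy
  have hpb4 : orderOf (p * b) = 4 := W_four S.hD hpW hb (Ne.symm hbp)
  have hsym := (pair_facts S hb hpW).2.2.2.1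
  set β := (b * p) ^ 2 with hβdef
  obtain ⟨-, hlb, -, -⟩ := four_center S.hD hly.2.1 hbD hpb4
  rw [hsym] at hlb
  have hnb : odds D β ≠ odds D b := fun e => hbp (same_central S hd ⟨hbD, e ▸ hβ.2⟩ hpW).symm
  obtain ⟨e, he, heb, heβ⟩ := exists_mover_of_odds_ne S.hD S.hclass hlb.symm hnb
  obtain ⟨hpe, hpe3⟩ := three_of_mover S.hD hly.2.1 hbD he hpb4 hsym heb heβ
  have hey : e * y ≠ y * e := line_odd_not_comm S.hD hly.symm (oddAdj_symm S.hD hpe)
  have hyβ : y * β = β * y := same_central S hd hβ hy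
  have hyy := mul_self S.hD hyD
  have hee := mul_self S.hD he
  have hββ := mul_self S.hD hβ.1
  have hyβy : y * β * y = β := by rw [hyβ, mul_assoc, hyy, mul_one]
  have hebe : e * b * e = b := by rw [heb, mul_assoc, hee, mul_one]
  have hyby : y * b * y = b := by rw [hyb, mul_assoc, hyy, mul_one]
  have hfix : (e * y) ^ 2 * β = β * (e * y) ^ 2 := by
    have h1 : (e * y) ^ 2 * β * ((e * y) ^ 2)⁻¹ = β := by
      rw [pow_two, mul_inv_rev, mul_inv_rev, inv_eq S.hD he, inv_eq S.hD hyD]
      calc e * y * (e * y) * β * (y * e * (y * e)) = e * (y * (e * (y * β * y) * e) * y) * e := by group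
        _ = e * ((y * β * y) * (y * b * y)) * e := by
          rw [hyβy, heβ, show β * (y * b * y) = β * y * b * y by group]
          conv_lhs => rw [show y * (β * b) * y = y * β * (y * y) * b * y by rw [hyy]; group]
          rw [show y * β * (y * y) * b * y = y * β * y * (y * b * y) by group, hyβy]; group
        _ = (e * β * e) * (e * b * e) := by
          rw [hyβy, hyby, show e * β * e * (e * b * e) = e * β * (e * e) * b * e by group, hee]; group
        _ = β := by rw [heβ, hebe, mul_assoc, mul_self S.hD hbD, mul_one]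
    calc (e * y) ^ 2 * β = (e * y) ^ 2 * β * ((e * y) ^ 2)⁻¹ * (e * y) ^ 2 := by group
      _ = β * (e * y) ^ 2 := by rw [h1]
  have hn : ¬ OddAdj D y e := fun h => by
    have ho := (oddAdj_symm S.hD h).2.2.2
    obtain ⟨m, hm⟩ := exists_pow_eq_self_of_coprime (x := e * y) (n := 2) (Nat.coprime_two_left.mpr ho)
    have hc2 : Commute ((e * y) ^ 2) β := hfix
    have h1 := (hc2.pow_left m).eq
    rw [hm] at h1
    have h2 : β = β * b := by
      calc β = y * β * y := hyβy.symm
        _ = e * (e * y * β) * y := by rw [show e * (e * y * β) * y = e * e * (y * β * y) by group, hee]; group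
        _ = e * (β * (e * y)) * y := by rw [h1]
        _ = e * β * e * (y * y) := by group
        _ = β * b := by rw [hyy, mul_one, heβ]
    exact ne_one S.hD hbD (mul_eq_left.mp h2.symm)
  obtain ⟨hey4, -⟩ := center_line S.hD hpe hly.symm hn
  have hF := center_three S.hD hpe hpe3 hly.symm hn
  obtain ⟨⟨-, hκD, -, -⟩, ⟨-, -, hκy, -⟩, -, -⟩ := four_center S.hD he hyD hey4
  set κ := (e * y) ^ 2 with hκ
  have hκd : κ * d = d * κ :=
    comm_of_odds_eq S.hD S.hclass hβ.1 hd hβ.2 hκD hfix
  have hκκ := mul_self S.hD hκD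
  have hcc := mul_self S.hD hcD
  have hpκp : κ * p * κ = p * y := by
    rw [pow_two] at hF
    calc κ * p * κ = (p * p) * κ * p * κ := by rw [mul_self S.hD hly.2.1, one_mul]
      _ = p * (p * κ * (p * κ)) := by group
      _ = p * y := by rw [hF]
  have hcpc : c * p * c = p := by rw [← hlc.2.2.1, mul_assoc, hcc, mul_one]
  have hcycp : c * y * c = p * y := by rw [hcyc, hly.2.2.1]
  -- `w` moves `p` to `y` and centralises `c`
  set w := κ * c * κ with hw
  have hww : w * p * w = y := by
    calc w * p * w = κ * (c * (κ * p * κ) * c) * κ := by rw [hw]; group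
      _ = κ * ((c * p * c) * (c * y * c)) * κ := by
        rw [hpκp, show c * p * c * (c * y * c) = c * p * (c * c) * y * c by group, hcc]; group
      _ = κ * (p * (p * y)) * κ := by rw [hcpc, hcycp]
      _ = κ * y * κ := by rw [← mul_assoc p p, mul_self S.hD hly.2.1, one_mul]
      _ = y := by rw [hκy, mul_assoc, hκκ, mul_one]
  have hwc : w * c = c * w := by
    rcases S.hD.pair c hcD κ hκD with h | h | ⟨h, -⟩
    · rw [hw, show κ * c * κ = c by rw [← h, mul_assoc, hκκ, mul_one]]
    · have hne : c ≠ κ := fun e' => hcy (by rw [e', hκy])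
      exact absurd ⟨hcD, hκD, hne, h⟩ (W_not_odd S.hD hc hκD hκd)
    · obtain ⟨⟨-, -, h1, -⟩, -, -, -⟩ := four_center S.hD hcD hκD h
      have e2 : κ * c * κ = c * (c * κ) ^ 2 := (four_center S.hD hcD hκD h).2.2.2
      rw [hw, e2, mul_assoc, h1]
  refine hcy ?_
  have h1 : c * y * c = y := by
    calc c * y * c = c * (w * p * w) * c := by rw [hww]
      _ = (c * w) * p * (w * c) := by group
      _ = (w * c) * p * (c * w) := by rw [hwc]
      _ = w * (c * p * c) * w := by group
      _ = y := by rw [hcpc, hww]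
  calc c * y = c * y * c * c := by rw [mul_assoc (c * y) c c, hcc, mul_one]
    _ = y * c := by rw [h1]

theorem comm_centre {d r c u : G} (hd : d ∈ D) (hr : r ∈ W D d) (hc : c ∈ W D d) (hu : u ∈ W D d)
    (hrc : r * c = c * r) (hδ : (r * u) ^ 2 ∈ sameCommutingSubgroup D d) : r * (c * u) ^ 2 = (c * u) ^ 2 * r := by
  have hrr := mul_self S.hD (W_mem S.hD hr)
  have h1 := (pair_facts S hr hu).1
  set δ := (r * u) ^ 2
  have h2 : r * (c * u) ^ 2 * r = (c * u) ^ 2 := by
    have hcu : Commute (c * u) δ := Commute.mul_left (E_central S hd hδ hc) (E_central S hd hδ hu)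
    have e : r * (c * u) * r = c * u * δ := by
      rw [← mul_assoc r c u, hrc, show c * r * u * r = c * (r * u * r) by group, h1, mul_assoc]
    calc r * (c * u) ^ 2 * r = r * (c * u) * r * (r * (c * u) * r) := by
          rw [pow_two, show r * (c * u) * r * (r * (c * u) * r) = r * (c * u) * (r * r) * (c * u) * r by group, hrr]
          group
      _ = (c * u) ^ 2 := by rw [e, ← pow_two, hcu.mul_pow, pow_two δ, E_sq S hd hδ, mul_one]
  calc r * (c * u) ^ 2 = r * (c * u) ^ 2 * r * r := by rw [mul_assoc (r * (c * u) ^ 2) r r, hrr, mul_one]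
    _ = (c * u) ^ 2 * r := by rw [h2]

/-- The Hall–Witt relation of a triple. -/
theorem hw_rel {d b c u : G} (hd : d ∈ D) (hb : b ∈ W D d) (hc : c ∈ W D d) (hu : u ∈ W D d)
    (hne : b * c ≠ c * b) (hδ : (((b * c) ^ 2) * u) ^ 2 ∈ sameCommutingSubgroup D d)
    (hβ : (b * (c * u) ^ 2) ^ 2 ∈ sameCommutingSubgroup D d) :
    ((b * u) ^ 2 * c) ^ 2 = ((b * c) ^ 2 * u) ^ 2 * (b * (c * u) ^ 2) ^ 2 := by
  have hr := four_mem S hb hc hne
  obtain ⟨hbcb, hrb, hrc, -, -⟩ := pair_facts S hb hc
  set r := (b * c) ^ 2 with hrdef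
  have hq := comm_centre S hd hr hb hu hrb hδ
  have hp := comm_centre S hd hr hc hu hrc hδ
  obtain ⟨hubu, -, hqu, hqs, hqq⟩ := pair_facts S hu hb
  obtain ⟨hucu, -, hpu, hps, hpp⟩ := pair_facts S hu hc
  obtain ⟨huru, -, -, hδs, -⟩ := pair_facts S hu hr
  obtain ⟨-, hqb, hqu', -, -⟩ := pair_facts S hb hu
  obtain ⟨-, hpc, hpu', -, -⟩ := pair_facts S hc hu
  rw [← hqs] at hubu hqu hqq
  rw [← hps] at hucu hpu hpp
  rw [← hδs] at huru
  have hbpb : b * (c * u) ^ 2 * b = (c * u) ^ 2 * (b * (c * u) ^ 2) ^ 2 := by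
    rcases sq_eq_one_or S hc hu with h | ⟨-, h, -, -⟩
    · rw [h, mul_one, one_mul, pow_two b]
    · exact (pair_facts S hb h).1
  set p := (c * u) ^ 2
  set q := (b * u) ^ 2 with hqdef
  set β := (b * p) ^ 2
  set δ := (r * u) ^ 2
  have hbb := mul_self S.hD (W_mem S.hD hb)
  have huu := mul_self S.hD (W_mem S.hD hu)
  have hcc := mul_self S.hD (W_mem S.hD hc)
  have cb : Commute β b := (E_central S hd hβ hb).symm
  have cc : Commute β c := (E_central S hd hβ hc).symm
  have cu : Commute β u := (E_central S hd hβ hu).symm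
  have cq : Commute β q := (cb.mul_right cu).pow_right 2
  have cp : Commute β p := (cc.mul_right cu).pow_right 2
  have hββ := E_sq S hd hβ
  have hupu : u * p * u = p := by rw [← hpu', mul_assoc, huu, mul_one]
  have hbβb : b * β * b = β := by rw [← cb.eq, mul_assoc, hbb, mul_one]
  have huβu : u * β * u = β := by rw [← cu.eq, mul_assoc, huu, mul_one]
  have hqp : q * p = p * q := by
    have h1 : q * p * q⁻¹ = p := by
      rw [hqdef, pow_two, mul_inv_rev, mul_inv_rev, inv_eq S.hD (W_mem S.hD hb), inv_eq S.hD (W_mem S.hD hu)]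
      calc b * u * (b * u) * p * (u * b * (u * b)) = b * (u * (b * (u * p * u) * b) * u) * b := by group
        _ = b * ((u * p * u) * (u * β * u)) * b := by
          rw [hupu, hbpb, show p * (u * β * u) = p * u * β * u by group]
          conv_lhs => rw [show u * (p * β) * u = u * p * (u * u) * β * u by rw [huu]; group]
          rw [show u * p * (u * u) * β * u = u * p * u * (u * β * u) by group, hupu]; group
        _ = (b * p * b) * (b * β * b) := by
          rw [hupu, huβu, show b * p * b * (b * β * b) = b * p * (b * b) * β * b by group, hbb]; group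
        _ = p := by rw [hbpb, hbβb, mul_assoc, hββ, mul_one]
    calc q * p = q * p * q⁻¹ * q := by group
      _ = p * q := by rw [h1]
  have hpb : p * b = b * p * β := by
    calc p * b = b * (b * p * b) := by rw [← mul_assoc, ← mul_assoc, hbb, one_mul]
      _ = b * p * β := by rw [hbpb, ← mul_assoc]
  have key : r * δ = r * ((q * c) ^ 2 * β) := by
    calc r * δ = u * r * u := huru.symm
      _ = (u * b * u) * (u * c * u) * ((u * b * u) * (u * c * u)) := by
        rw [hrdef, pow_two, show u * b * u * (u * c * u) * (u * b * u * (u * c * u)) =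
          u * b * (u * u) * c * (u * u) * b * (u * u) * c * u by group, huu]; group
      _ = b * q * c * (p * b) * q * c * p := by rw [hubu, hucu]; group
      _ = b * q * c * b * (p * (β * q)) * c * p := by rw [hpb]; group
      _ = b * q * c * b * q * (p * (β * c)) * p := by
        rw [cq.eq, ← mul_assoc p q, ← hqp]; group
      _ = b * q * c * b * q * c * (p * β * p) := by rw [cc.eq, ← mul_assoc p c, hpc]; group
      _ = (b * q) * c * b * q * c * β := by
        rw [← cp.eq, mul_assoc β p p, hpp, mul_one]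
      _ = q * (b * c * b) * q * c * β := by rw [← hqb]; group
      _ = q * c * (r * q) * c * β := by rw [hbcb]; group
      _ = q * c * q * (r * c) * β := by rw [hq]; group
      _ = r * ((q * c) ^ 2 * β) := by
        have hcr : Commute r ((q * c) ^ 2) := ((show Commute r q from hq).mul_right hrc).pow_right 2
        rw [← mul_assoc r, hcr.eq, show r * c = c * r from hrc, pow_two]; group
  have h2 := mul_left_cancel key
  calc (q * c) ^ 2 = (q * c) ^ 2 * β * β := by rw [mul_assoc, hββ, mul_one]
    _ = δ * β := by rw [← h2]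

theorem lstar' {d b c y : G} (hd : d ∈ D) (hb : b ∈ W D d) (hc : c ∈ W D d) (hy : y ∈ W D d)
    (hne : b * c ≠ c * b) (hG : Good D d ((b * c) ^ 2)) (hry : (b * c) ^ 2 * y ≠ y * (b * c) ^ 2)
    (hβ : (b * (c * y) ^ 2) ^ 2 ∈ sameCommutingSubgroup D d) (hyb : y * b = b * y) : False := by
  have hr := four_mem S hb hc hne
  have hδ := good_same S hr hG hy hry
  have h := hw_rel S hd hb hc hy hne ((mem_E_iff S hd).mpr (Or.inr hδ)) hβ
  rw [sq_of_comm S.hD (W_mem S.hD hb) (W_mem S.hD hy) hyb.symm, one_mul, pow_two c, mul_self S.hD (W_mem S.hD hc)] at h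
  have hβδ : (b * (c * y) ^ 2) ^ 2 = ((b * c) ^ 2 * y) ^ 2 := by
    rw [eq_comm, eq_comm]
    calc (b * (c * y) ^ 2) ^ 2 = ((b * c) ^ 2 * y) ^ 2 * (((b * c) ^ 2 * y) ^ 2 * (b * (c * y) ^ 2) ^ 2) := by
          rw [← mul_assoc, mul_self S.hD hδ.1, one_mul]
      _ = ((b * c) ^ 2 * y) ^ 2 := by rw [← h, mul_one]
  rcases sq_eq_one_or S hc hy with hp | ⟨hcy, hpW, -, -⟩
  · refine ne_one S.hD hδ.1 ?_
    rw [← hβδ, hp, mul_one, pow_two, mul_self S.hD (W_mem S.hD hb)]
  · refine lstar S hd hb hc hy hyb hcy (fun e => ne_one S.hD hδ.1 ?_) (hβδ ▸ hδ)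
    rw [← hβδ, sq_of_comm S.hD (W_mem S.hD hb) (W_mem S.hD hpW) e]

/-- The central computation: an opposite moving the centre fixes the double centre. -/
theorem core_fix {b c e p r β : G} (hb : b ∈ D) (hce : OddAdj D c e) (h3 : orderOf (c * e) = 3)
    (hcp : Line D c p) (hn : ¬ OddAdj D p e) (hr : r ∈ D) (heb : e * b = b * e) (hre : (r * e) ^ 2 = b)
    (hbcb : b * c * b = c * r) (hrc : r * c = c * r) (hrp : r * p = p * r) (hbpb : b * p * b = p * β)
    (hββ : β * β = 1) (hβc : β * c = c * β) (hβr : β * r = r * β) (hβp : β * p = p * β) :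
    e * β = β * e := by
  have he := hce.2.1
  have hee := mul_self S.hD he
  have hbb := mul_self S.hD hb
  have hrr := mul_self S.hD hr
  have hpp := mul_self S.hD hcp.2.1
  have hcc := mul_self S.hD hcp.1
  obtain ⟨hep4, -⟩ := center_line S.hD hce hcp hn
  have hF := center_three S.hD hce h3 hcp hn
  rw [← sq_symm S.hD he hcp.2.1 (Or.inr hep4)] at hF
  set a := (p * e) ^ 2 with ha
  have hrer : r * e * r = b * e := by
    rw [pow_two] at hre
    calc r * e * r = r * e * (r * e) * e := by rw [show r * e * (r * e) * e = r * e * r * (e * e) by group, hee, mul_one]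
      _ = b * e := by rw [hre]
  have hbeb : b * e * b = e := by rw [← heb, mul_assoc, hbb, mul_one]
  have hrpr : r * p * r = p := by rw [hrp, mul_assoc, hrr, mul_one]
  -- the two conjugates of `a`
  have hA : b * a * b = p * β * e * (p * β) * e := by
    calc b * a * b = (b * p * b) * (b * e * b) * ((b * p * b) * (b * e * b)) := by
          rw [ha, pow_two, show b * p * b * (b * e * b) * (b * p * b * (b * e * b)) =
            b * p * (b * b) * e * (b * b) * p * (b * b) * e * b by group, hbb]; group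
      _ = p * β * e * (p * β) * e := by rw [hbpb, hbeb]; group
  have hR : r * a * r = p * e * (p * β) * e := by
    calc r * a * r = (r * p * r) * (r * e * r) * ((r * p * r) * (r * e * r)) := by
          rw [ha, pow_two, show r * p * r * (r * e * r) * (r * p * r * (r * e * r)) =
            r * p * (r * r) * e * (r * r) * p * (r * r) * e * r by group, hrr]; group
      _ = p * (b * e) * p * (b * e) := by rw [hrpr, hrer]; group
      _ = p * (e * b) * p * (b * e) := by rw [heb]
      _ = p * e * (b * p * b) * e := by group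
      _ = p * e * (p * β) * e := by rw [hbpb]
  have hAR : b * a * b = β * (r * a * r) := by
    rw [hA, hR, ← hβp]; group
  have hpβ : p * β = β * (c * a * c) * (b * a * b) := by
    calc p * β = b * (c * a * (c * a)) * b := by rw [← hbpb, ← pow_two, hF]
      _ = (b * c * b) * (b * a * b) * ((b * c * b) * (b * a * b)) := by
        rw [show b * c * b * (b * a * b) * (b * c * b * (b * a * b)) =
          b * c * (b * b) * a * (b * b) * c * (b * b) * a * b by group, hbb]; group
      _ = c * (r * β) * (r * a * r) * (c * (r * β) * (r * a * r)) := by rw [hbcb, hAR]; group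
      _ = c * β * (r * r) * a * (r * c) * (r * β) * (r * a * r) := by rw [← hβr]; group
      _ = c * β * (r * r) * a * c * (r * r) * β * (r * a * r) := by rw [hrc]; group
      _ = (c * β) * a * c * (β * (r * a * r)) := by rw [hrr]; group
      _ = β * (c * a * c) * (b * a * b) := by rw [← hβc, hAR]; group
  have hp2 : p = c * a * c * (b * a * b) := by
    calc p = β * (p * β) := by rw [← mul_assoc, hβp, mul_assoc, hββ, mul_one]
      _ = β * (β * (c * a * c) * (b * a * b)) := by rw [hpβ]
      _ = β * β * (c * a * c * (b * a * b)) := by group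
      _ = c * a * c * (b * a * b) := by rw [hββ, one_mul]
  have haa : b * a * b = a := by
    refine mul_left_cancel (a := c * a * c) ?_
    rw [← hp2]
    conv_lhs => rw [← hF, pow_two]
    group
  rw [hA, ha, pow_two] at haa
  have h1 : β * e * (p * β) = e * p := by
    refine mul_left_cancel (a := p) (mul_right_cancel (b := e) ?_)
    rw [show p * (β * e * (p * β)) * e = p * β * e * (p * β) * e by group, haa]; group
  have h2 : β * e * β = e := by
    refine mul_right_cancel (b := p) ?_
    rw [mul_assoc (β * e) β p, hβp, h1]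
  calc e * β = β * β * e * β := by rw [hββ, one_mul]
    _ = β * (β * e * β) := by group
    _ = β * e := by rw [h2]

/-- The mover attached to a pair with centre in the class of `d`. -/
theorem exists_deep_mover {d r y : G} (hd : d ∈ D) (hr : r ∈ W D d) (hy : y ∈ W D d) (hne : r * y ≠ y * r)
    (hG : Good D d r) : ∃ x, OddAdj D r x ∧ orderOf (r * x) = 3 ∧ x ∈ W D y ∧ Good D y x ∧ x * d ≠ d * x := by
  have hrD := W_mem S.hD hr
  have hyD := W_mem S.hD hy
  have hδ := good_same S hr hG hy hne
  obtain ⟨hlr, hly, hryr, -⟩ := four_center S.hD hrD hyD (W_four S.hD hr hy hne)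
  set δ := (r * y) ^ 2 with hδdef
  have hδy : odds D δ ≠ odds D y := fun e => hne (same_central S hd ⟨hyD, e ▸ hδ.2⟩ hr)
  obtain ⟨x, hx, hxy, hxδ⟩ := exists_mover_of_odds_ne S.hD S.hclass hly.symm hδy
  obtain ⟨hrx, h3⟩ := three_of_mover S.hD hrD hyD hx (W_four S.hD hr hy hne) hδdef.symm hxy hxδ
  have hrr := mul_self S.hD hrD
  have hδδ := mul_self S.hD hδ.1
  have hg : (r * x * r)⁻¹ = r * x * r := by
    rw [mul_inv_rev, mul_inv_rev, inv_eq S.hD hrD, inv_eq S.hD hx]; group
  have hrδr : r * δ * r = δ := by rw [← hlr.2.2.1, mul_assoc, hrr, mul_one]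
  have e1 : r * x * r * δ * (r * x * r)⁻¹ = y := by
    rw [hg]
    calc r * x * r * δ * (r * x * r) = r * (x * (r * δ * r) * x) * r := by group
      _ = (r * δ * r) * (r * y * r) := by
        rw [hrδr, hxδ, show δ * (r * y * r) = δ * r * y * r by group]
        conv_lhs => rw [show r * (δ * y) * r = r * δ * (r * r) * y * r by rw [hrr]; group]
        rw [show r * δ * (r * r) * y * r = r * δ * r * (r * y * r) by group, hrδr]; group
      _ = y := by rw [hrδr, hryr, hly.2.2.1.symm, ← mul_assoc, hδδ, one_mul]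
  have e2 : r * x * r * r * (r * x * r)⁻¹ = x := by
    have h := pow_orderOf_eq_one (r * x)
    rw [h3, pow_succ, pow_two] at h
    rw [hg, show r * x * r * r * (r * x * r) = r * x * (r * r) * r * x * r by group, hrr, mul_one]
    calc r * x * r * x * r = r * x * (r * x) * (r * x) * x⁻¹ := by group
      _ = x := by rw [h, one_mul, inv_eq S.hD hx]
  refine ⟨x, hrx, h3, ?_, ?_, fun e => ?_⟩
  · have := W_conj S.hD (r * x * r) ((W_congr S hd hδ).symm ▸ hr)
    rwa [e1, e2] at this
  · have := good_conj S.hD (r * x * r) (good_congr S hd hδ hG)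
    rwa [e1, e2] at this
  · have h1 : x * δ = δ * x := comm_of_odds_eq S.hD S.hclass hd hδ.1 hδ.2.symm hx e
    rw [h1, mul_assoc, mul_self S.hD hx, mul_one] at hxδ
    exact ne_one S.hD hyD (mul_eq_left.mp hxδ.symm)

/-- A bad pair whose first member lies on a line with the whole class of `d` does not exist. -/
theorem finish {d b c y : G} (hd : d ∈ D) (hb : b ∈ W D d) (hc : c ∈ W D d) (hne : b * c ≠ c * b)
    (hG : Good D d ((b * c) ^ 2)) (hlines : ∀ v, Same D d v → Line D b v)
    (hpair : ∀ u ∈ W D d, (b * c) ^ 2 * u ≠ u * (b * c) ^ 2 →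
      (b * (c * u) ^ 2) ^ 2 ∈ sameCommutingSubgroup D d)
    (hy : y ∈ W D d) (hry : (b * c) ^ 2 * y ≠ y * (b * c) ^ 2) (hβ1 : (b * (c * y) ^ 2) ^ 2 ≠ 1) : False := by
  have hbD := W_mem S.hD hb
  have hcD := W_mem S.hD hc
  have hyD := W_mem S.hD hy
  have hbc4 := W_four S.hD hb hc hne
  have hr := four_mem S hb hc hne
  obtain ⟨hlbr, hlcr, hbcb, hcbc⟩ := four_center S.hD hbD hcD hbc4
  obtain ⟨-, -, -, hcb2, -⟩ := pair_facts S hb hc
  set r := (b * c) ^ 2 with hrdef
  have hrD := W_mem S.hD hr
  obtain ⟨x, hrx, hrx3, hxW, hGx, hxd⟩ := exists_deep_mover S hd hr hy hry hG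
  have hx := hrx.2.1
  have hxx := mul_self S.hD hx
  have hδ := good_same S hr hG hy hry
  have hδW : (r * y) ^ 2 ∈ W D y :=
    W_of_line S.hD (four_center S.hD hrD hyD (W_four S.hD hr hy hry)).2.1
  -- elements of the class of `d` seen from `y`
  have hEy : ∀ v, Same D d v → v ∈ W D y ∧ x * v ≠ v * x := fun v hv =>
    ⟨W_of_same S hyD hδW ⟨hv.1, hv.2.trans hδ.2.symm⟩,
      fun e => hxd (comm_of_odds_eq S.hD S.hclass hv.1 hd hv.2 hx e)⟩
  have conjTwo : ∀ z ∈ W D d, z ∈ W D y → x * z * x ∈ Two D d := by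
    intro z hz hzy
    by_cases h : x * z = z * x
    · rw [h, mul_assoc, hxx, mul_one]; exact W_le_Two S hz
    · obtain ⟨-, -, e1, -⟩ := four_center S.hD hx (W_mem S.hD hzy) (W_four S.hD hxW hzy h)
      rw [e1]
      exact mul_mem (W_le_Two S hz) (W_le_Two S (W_of_same S hd hy (good_same S hxW hGx hzy h)))
  by_cases hbx : OddAdj D b x
  swap
  · -- `b` is not opposite to `x`
    obtain ⟨hxb4, -⟩ := center_line S.hD hrx hlbr.symm hbx
    have hre := center_three S.hD hrx hrx3 hlbr.symm hbx
    obtain ⟨-, ⟨-, heD, heb, -⟩, hxbx, -⟩ := four_center S.hD hx hbD hxb4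
    set e := (x * b) ^ 2 with hedef
    have here : e * r * e = r * b := by
      rw [pow_two] at hre
      calc e * r * e = r * r * e * r * e := by rw [mul_self S.hD hrD, one_mul]
        _ = r * (r * e * (r * e)) := by group
        _ = r * b := by rw [hre]
    obtain ⟨hce, hce3⟩ := three_of_mover S.hD hcD hbD heD (four_symm S.hD hbD hcD hbc4) hcb2 heb here
    rcases sq_eq_one_or S hc hy with hp1 | ⟨hcy, hpW, hlcp, hlyp⟩
    · exact hβ1 (by rw [hp1, mul_one, pow_two, mul_self S.hD hbD])
    have hβ : Same D d ((b * (c * y) ^ 2) ^ 2) :=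
      ((mem_E_iff S hd).mp (hpair y hy hry)).resolve_left hβ1
    obtain ⟨hbpb, -, -, -, -⟩ := pair_facts S hb hpW
    have hrp := comm_centre S hd hr hc hy hlcr.2.2.1 ((mem_E_iff S hd).mpr (Or.inr hδ))
    set p := (c * y) ^ 2
    set β := (b * p) ^ 2
    have hn : ¬ OddAdj D p e := by
      intro h
      have hep := oddAdj_symm S.hD h
      have hb' : e = x * b * x * b := by rw [hxbx, mul_assoc b e b, heb, ← mul_assoc, mul_self S.hD hbD, one_mul]
      have hb'' : e = b * (x * b * x) := by rw [hxbx, ← mul_assoc, mul_self S.hD hbD, one_mul]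
      have hkey : x * (e * p) ^ 2 * x = b * ((x * p * x) * (x * β * x)) * b * (x * p * x) := by
        calc x * (e * p) ^ 2 * x = x * (x * b * x * b * p * (b * (x * b * x)) * p) * x := by
              rw [pow_two]
              congr 2
              rw [show x * b * x * b * p * (b * (x * b * x)) * p = (x * b * x * b) * p * (b * (x * b * x)) * p from rfl,
                ← hb', ← hb'', ← mul_assoc]
          _ = (x * x) * b * x * (b * p * b) * x * b * (x * p * x) := by group
          _ = b * x * (p * β) * x * b * (x * p * x) := by rw [hxx, one_mul, hbpb]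
          _ = b * ((x * p * x) * (x * β * x)) * b * (x * p * x) := by
            rw [show x * p * x * (x * β * x) = x * p * (x * x) * β * x by group, hxx, mul_one]; group
      have hmem : x * (e * p) ^ 2 * x ∈ Two D d := by
        rw [hkey]
        have h1 := conjTwo p hpW (W_of_line S.hD hlyp)
        have h2 := conjTwo β (same_mem_W S hd hβ) (hEy β hβ).1
        exact mul_mem (mul_mem (mul_mem (W_le_Two S hb) (mul_mem h1 h2)) (W_le_Two S hb)) h1
      have hodd : Odd (orderOf (x * (e * p) ^ 2 * x)) := by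
        rw [show x * (e * p) ^ 2 * x = (MulAut.conj x).toMonoidHom ((e * p) ^ 2) by
          simp [MulAut.conj_apply, inv_eq S.hD hx], orderOf_injective _ (MulAut.conj x).injective]
        exact CfsgLib.Invol.odd_orderOf_of_dvd hep.2.2.2 (orderOf_pow_dvd 2)
      have h1 := Two_odd S hmem hodd
      have h2 : (e * p) ^ 2 = 1 := by
        calc (e * p) ^ 2 = x * (x * (e * p) ^ 2 * x) * x := by
              rw [show x * (x * (e * p) ^ 2 * x) * x = x * x * (e * p) ^ 2 * (x * x) by group, hxx]; group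
          _ = 1 := by rw [h1, mul_one, hxx]
      have h3 := CfsgLib.Invol.eq_one_of_odd_of_sq hep.2.2.2 (by rwa [← pow_two])
      exact hep.2.2.1 (by rw [← mul_one e, ← mul_self S.hD hlcp.2.1, ← mul_assoc, h3, one_mul])
    have heβ := core_fix S hbD hce hce3 hlcp hn hrD heb hre hbcb hlcr.2.2.1 hrp hbpb (mul_self S.hD hβ.1)
      (same_central S hd hβ hc).symm (same_central S hd hβ hr).symm (same_central S hd hβ hpW).symm
    exact W_not_odd S.hD hc heD (comm_of_odds_eq S.hD S.hclass hβ.1 hd hβ.2 heD heβ) hce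
  -- `b` is opposite to `x`
  have hWy : ∀ u, Same D y u → u ∈ W D d ∧ r * u ≠ u * r := fun u hu =>
    ⟨W_of_same S hd hy hu, fun e => hry (comm_of_odds_eq S.hD S.hclass hu.1 hyD hu.2 hrD e)⟩
  have hA : ∀ u, Same D y u → (b * u) ^ 2 ∈ sameCommutingSubgroup D d := by
    intro u hu
    obtain ⟨huW, -⟩ := hWy u hu
    rcases sq_eq_one_or S hb huW with h | ⟨hne', hqW, hlbq, hluq⟩
    · rw [h]; exact one_mem _
    obtain ⟨hubu, -, -, hqs, -⟩ := pair_facts S huW hb
    rw [← hqs] at hubu
    set q := (b * u) ^ 2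
    have hqy : q ∈ W D y := by rw [← W_congr S hyD hu]; exact W_of_line S.hD hluq
    have hxq : x * q ≠ q * x := line_odd_not_comm S.hD hlbq (oddAdj_symm S.hD hbx)
    have hη := good_same S hxW hGx hqy hxq
    obtain ⟨w, hw, hxw, -, hlw⟩ := centre_surj_W S hyD hxW (hEy d ⟨hd, rfl⟩).1 (hEy d ⟨hd, rfl⟩).2
      (fun w hw => hGx w (hEy w hw).1 (hEy w hw).2) hη
    have hwE : w ∈ sameCommutingSubgroup D d := (mem_E_iff S hd).mpr (Or.inr hw)
    by_cases hz : q * w = 1
    · rw [eq_inv_of_mul_eq_one_left hz]; exact inv_mem hwE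
    have hwb := same_central S hd hw hb
    have hwu := same_central S hd hw huW
    have hwq := same_central S hd hw hqW
    have hqq := mul_self S.hD (W_mem S.hD hqW)
    have hww := mul_self S.hD hw.1
    have hz2 : orderOf (q * w) = 2 := orderOf_eq_prime (by
      rw [(show Commute q w from hwq).mul_pow, pow_two, pow_two, hqq, hww, one_mul]) hz
    have hzb : q * w * b = b * (q * w) := by
      rw [mul_assoc, ← hwb, ← mul_assoc, hlbq.2.2.1, mul_assoc]
    have hbz : b * (q * w) ∈ D := by
      rw [← mul_assoc, ← hubu, mul_assoc (u * b) u w, hwu, show u * b * (w * u) = u * (b * w) * u by group, hwb]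
      exact conj_mem' S.hD hu.1 (hlines w hw).2.2.2
    refine (odd_not_comm S.hD hz2 hzb hbz (oddAdj_symm S.hD hbx) ?_).elim
    obtain ⟨-, -, hxqx, -⟩ := four_center S.hD hx hqy.1.1 (W_four S.hD hxW hqy hxq)
    obtain ⟨-, -, hxwx, -⟩ := four_center S.hD hx hw.1 (W_four S.hD hxW (hEy w hw).1 (hEy w hw).2)
    rw [hxw] at hxwx
    set η := (x * q) ^ 2
    have hηη := mul_self S.hD hη.1
    have h1 : x * (q * w) * x = q * w := by
      calc x * (q * w) * x = (x * q * x) * (x * w * x) := by
            rw [show x * q * x * (x * w * x) = x * q * (x * x) * w * x by group, hxx]; group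
        _ = q * (η * w) * η := by rw [hxqx, hxwx]; group
        _ = q * w := by rw [hlw.2.2.1, ← mul_assoc, mul_assoc _ η η, hηη, mul_one]
    calc x * (q * w) = x * (q * w) * x * x := by rw [mul_assoc (x * (q * w)) x x, hxx, mul_one]
      _ = q * w * x := by rw [h1]
  -- hence `δ = β` on the class of `y`
  have hB : ∀ u, Same D y u → (b * (c * u) ^ 2) ^ 2 = (r * u) ^ 2 := by
    intro u hu
    obtain ⟨huW, hru⟩ := hWy u hu
    have hδu := good_same S hr hG huW hru
    have h := hw_rel S hd hb hc huW hne ((mem_E_iff S hd).mpr (Or.inr hδu)) (hpair u huW hru)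
    have hqc : Commute ((b * u) ^ 2) c := (E_central S hd (hA u hu) hc).symm
    rw [hqc.mul_pow, pow_two c, mul_self S.hD hcD, mul_one, pow_two, E_sq S hd (hA u hu), ← hrdef] at h
    calc (b * (c * u) ^ 2) ^ 2 = (r * u) ^ 2 * ((r * u) ^ 2 * (b * (c * u) ^ 2) ^ 2) := by
          rw [← mul_assoc, mul_self S.hD hδu.1, one_mul]
      _ = (r * u) ^ 2 := by rw [← h, mul_one]
  have hp2 : Same D d ((b * y) ^ 2) := by
    refine ((mem_E_iff S hd).mp (hA y ⟨hyD, rfl⟩)).resolve_left fun h => ?_
    refine lstar' S hd hb hc hy hne hG hry (hpair y hy hry) ?_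
    by_contra e
    exact ne_one S.hD (W_mem S.hD (four_mem S hb hy (Ne.symm e))) h
  obtain ⟨u, hu, hru2, -, -⟩ := centre_surj_W S hd hr hy hry
    (fun w hw => hG w (hWy w hw).1 (hWy w hw).2) hp2
  obtain ⟨huW, hru⟩ := hWy u hu
  have hβu : (b * (c * u) ^ 2) ^ 2 = (b * y) ^ 2 := (hB u hu).trans hru2
  rcases sq_eq_one_or S hc huW with hπ | ⟨hcu, hπW, hlcπ, hluπ⟩
  · refine ne_one S.hD hp2.1 ?_
    rw [← hβu, hπ, mul_one, pow_two, mul_self S.hD hbD]
  have hrπ := comm_centre S hd hr hc huW hlcr.2.2.1 ((mem_E_iff S hd).mpr (Or.inr (good_same S hr hG huW hru)))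
  obtain ⟨hucu, -, -, hπs, -⟩ := pair_facts S huW hc
  rw [← hπs] at hucu
  set π := (c * u) ^ 2
  have hππ := mul_self S.hD (W_mem S.hD hπW)
  by_cases hxπ : x * π = π * x
  swap
  · -- `π` lies on a line with `y`
    have hπy : π ∈ W D y := by rw [← W_congr S hyD hu]; exact W_of_line S.hD hluπ
    obtain ⟨-, -, -, hlπy, -⟩ := centre_surj_W S hyD hπy hxW (Ne.symm hxπ) (fun w hw => by
      have hwW := W_of_same S hyD hxW hw
      rw [(pair_facts S hwW hπy).2.2.2.1]
      exact class_good S hyD hxW hw hGx π hπy fun e =>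
        hxπ (comm_of_odds_eq S.hD S.hclass hw.1 hx hw.2 (W_mem S.hD hπW) e.symm).symm) ⟨hyD, rfl⟩
    have hy' : π * y ∈ W D d := W_of_mul S hπW hy (hlπy.2.2.1 ▸ hlπy.2.2.2)
    obtain ⟨hπbπ, -, -, hπbs, -⟩ := pair_facts S hπW hb
    obtain ⟨hyby, -, -, hybs, -⟩ := pair_facts S hy hb
    rw [← hπbs, hβu] at hπbπ
    rw [← hybs] at hyby
    have hyy := mul_self S.hD hyD
    refine lstar' S hd hb hc hy' hne hG (fun e => hry ?_) (hpair _ hy' (fun e => hry ?_)) ?_
    · exact mul_left_cancel (a := π) (by rw [← mul_assoc, ← hrπ, mul_assoc, e, mul_assoc])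
    · exact mul_left_cancel (a := π) (by rw [← mul_assoc, ← hrπ, mul_assoc, e, mul_assoc])
    · have h1 : π * y * b * (y * π) = b := by
        calc π * y * b * (y * π) = π * (y * b * y) * π := by group
          _ = π * b * ((b * y) ^ 2 * π) := by rw [hyby]; group
          _ = (π * b * π) * (b * y) ^ 2 := by rw [← same_central S hd hp2 hπW]; group
          _ = b := by rw [hπbπ, mul_assoc, mul_self S.hD hp2.1, mul_one]
      calc π * y * b = π * y * b * (y * π) * (π * y) := by
            rw [show π * y * b * (y * π) * (π * y) = π * y * b * (y * (π * π) * y) by group, hππ, mul_one, hyy, mul_one]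
        _ = b * (π * y) := by rw [h1]
  -- `π` commutes with `x`
  have hcx : ¬ OddAdj D c x := fun h => line_odd_not_comm S.hD hlcπ (oddAdj_symm S.hD h) hxπ
  obtain ⟨hxc4, -⟩ := center_line S.hD hrx hlcr.symm hcx
  have hrn := center_three S.hD hrx hrx3 hlcr.symm hcx
  obtain ⟨-, ⟨-, hnD, hnc, -⟩, -, -⟩ := four_center S.hD hx hcD hxc4
  set n := (x * c) ^ 2 with hndef
  have hnn := mul_self S.hD hnD
  have hrr := mul_self S.hD hrD
  have hnrn : n * r * n = r * c := by
    rw [pow_two] at hrn
    calc n * r * n = r * r * n * r * n := by rw [hrr, one_mul]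
      _ = r * (r * n * (r * n)) := by group
      _ = r * c := by rw [hrn]
  have hrnr : r * n * r = c * n := by
    rw [pow_two] at hrn
    calc r * n * r = r * n * r * (n * n) := by rw [hnn, mul_one]
      _ = r * n * (r * n) * n := by group
      _ = c * n := by rw [hrn]
  obtain ⟨hbn, hbn3⟩ := three_of_mover S.hD hbD hcD hnD hbc4 hrdef.symm hnc hnrn
  have huD := hu.1
  have huu := mul_self S.hD huD
  have hxu : x * u = u * x := same_central S hyD hu hxW
  have hunu : u * n * u = n := by
    calc u * n * u = (u * x * u) * (u * c * u) * ((u * x * u) * (u * c * u)) := by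
          rw [hndef, pow_two, show u * x * u * (u * c * u) * (u * x * u * (u * c * u)) =
            u * x * (u * u) * c * (u * u) * x * (u * u) * c * u by group, huu]; group
      _ = (x * c * π) ^ 2 := by rw [← hxu, mul_assoc x u u, huu, mul_one, hucu, pow_two]; group
      _ = n := by
        have hcom : Commute (x * c) π := Commute.mul_left hxπ hlcπ.2.2.1.symm
        rw [hcom.mul_pow, pow_two π, hππ, mul_one, hndef]
  have hnu : n * u = u * n := by
    calc n * u = u * u * n * u := by rw [huu, one_mul]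
      _ = u * (u * n * u) := by group
      _ = u * n := by rw [hunu]
  have hq2 : Same D d ((b * u) ^ 2) := by
    refine ((mem_E_iff S hd).mp (hA u hu)).resolve_left fun h => ?_
    refine lstar' S hd hb hc huW hne hG hru (hpair u huW hru) ?_
    by_contra e
    exact ne_one S.hD (W_mem S.hD (four_mem S hb huW (Ne.symm e))) h
  have hbu : b * u ≠ u * b := fun e => ne_one S.hD hq2.1 (sq_of_comm S.hD hbD huD e)
  obtain ⟨hlbq, hluq, hbub, -⟩ := four_center S.hD hbD huD (W_four S.hD hb huW hbu)
  set q2 := (b * u) ^ 2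
  have hnq : n * q2 ≠ q2 * n := line_odd_not_comm S.hD hlbq (oddAdj_symm S.hD hbn)
  have hnq4 : orderOf (n * q2) = 4 := by
    rcases S.hD.pair n hnD q2 hq2.1 with h | h | ⟨h, -⟩
    · exact absurd h hnq
    · exact absurd hnu (line_odd_not_comm S.hD hluq.symm
        ⟨hnD, hq2.1, fun e => hnq (by rw [e]), h⟩)
    · exact h
  obtain ⟨-, hlqq, hnqn, -⟩ := four_center S.hD hnD hq2.1 hnq4
  set qq := (n * q2) ^ 2 with hqqdef
  have hqqW : qq ∈ W D d := by rw [← W_congr S hd hq2]; exact W_of_line S.hD hlqq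
  set y2 := n * (b * u * b) * n with hy2
  have hy2' : y2 = u * (q2 * qq) := by
    calc y2 = (n * u * n) * (n * q2 * n) := by
          rw [hy2, hbub, show n * u * n * (n * q2 * n) = n * u * (n * n) * q2 * n by group, hnn]; group
      _ = u * (q2 * qq) := by rw [hnu, mul_assoc u n n, hnn, mul_one, hnqn]
  have hy2W : y2 ∈ W D d := by
    refine W_of_Two S ?_ (conj_mem' S.hD hnD (conj_mem' S.hD hbD huD))
    rw [hy2']
    exact mul_mem (W_le_Two S huW) (mul_mem (W_le_Two S (same_mem_W S hd hq2)) (W_le_Two S hqqW))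
  have hrqq : r * qq = qq * r := by
    have hcq : Commute c (n * q2) := Commute.mul_right hnc.symm (same_central S hd hq2 hc)
    have hrq : r * q2 * r = q2 := by rw [same_central S hd hq2 hr, mul_assoc, hrr, mul_one]
    have h1 : r * qq * r = qq := by
      calc r * qq * r = (r * n * r) * (r * q2 * r) * ((r * n * r) * (r * q2 * r)) := by
            rw [hqqdef, pow_two, show r * n * r * (r * q2 * r) * (r * n * r * (r * q2 * r)) =
              r * n * (r * r) * q2 * (r * r) * n * (r * r) * q2 * r by group, hrr]; group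
        _ = (c * (n * q2)) ^ 2 := by rw [hrnr, hrq, pow_two]; group
        _ = qq := by rw [hcq.mul_pow, pow_two c, mul_self S.hD hcD, one_mul, hqqdef]
    calc r * qq = r * qq * r * r := by rw [mul_assoc (r * qq) r r, hrr, mul_one]
      _ = qq * r := by rw [h1]
  have hry2 : r * y2 ≠ y2 * r := fun e => hru (by
    have hc1 : Commute r (q2 * qq) := Commute.mul_right (same_central S hd hq2 hr) hrqq
    rw [hy2', ← mul_assoc r, mul_assoc u (q2 * qq) r, ← hc1.eq, ← mul_assoc u r] at e
    exact mul_right_cancel e)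
  refine lstar' S hd hb hc hy2W hne hG hry2 (hpair _ hy2W hry2) ?_
  have hbb := mul_self S.hD hbD
  have hnb : n * b = b * n * b * n := by
    have h := pow_orderOf_eq_one (b * n)
    rw [hbn3, pow_succ, pow_two] at h
    calc n * b = (b * n)⁻¹ := by rw [mul_inv_rev, inv_eq S.hD hnD, inv_eq S.hD hbD]
      _ = b * n * b * n := by rw [inv_eq_of_mul_eq_one_left h]; group
  have hbn' : b * n = n * (b * n * b) := by
    calc b * n = (n * b)⁻¹ := by rw [mul_inv_rev, inv_eq S.hD hnD, inv_eq S.hD hbD]
      _ = n * (b * n * b) := by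
        rw [hnb, mul_inv_rev, mul_inv_rev, mul_inv_rev, inv_eq S.hD hnD, inv_eq S.hD hbD]; group
  have h1 : b * y2 * b = y2 := by
    have h2 : y2 = (b * n * b) * u * (b * n * b) := by
      calc y2 = (n * b) * u * (b * n) := by rw [hy2]; group
        _ = (b * n * b * n) * u * (n * (b * n * b)) := congrArg₂ (fun s t => s * u * t) hnb hbn'
        _ = (b * n * b) * (n * u * n) * (b * n * b) := by group
        _ = (b * n * b) * u * (b * n * b) := by rw [hnu, mul_assoc u n n, hnn, mul_one]
    conv_rhs => rw [h2]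
    rw [hy2]; group
  calc y2 * b = b * b * y2 * b := by rw [hbb, one_mul]
    _ = b * (b * y2 * b) := by group
    _ = b * y2 := by rw [h1]

/-- The lower central series of `Two D d` reaches the trivial subgroup. -/
theorem series_exists (d : G) : ∃ L : ℕ → Subgroup G, L 0 = Two D d ∧ (∀ k, L (k + 1) = ⁅L k, Two D d⁆) ∧
    ∃ n, L n = ⊥ := by
  have hn : Group.IsNilpotent ↥(Two D d) := (Two_isPGroup S d).isNilpotent
  exact ⟨fun k => (Two D d).lowerCentralSeries k, rfl, fun k => rfl,
    (Subgroup.isNilpotent_iff_lowerCentralSeries _).mp hn⟩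

/-- One step of the descent. -/
theorem step {d c b : G} (hd : d ∈ D) (hc : c ∈ W D d) (hb : b ∈ W D d) (hne : c * b ≠ b * c)
    (hr : Good D d ((b * c) ^ 2)) (hp : ∀ u ∈ W D d, c * u ≠ u * c → Good D d ((c * u) ^ 2)) :
    odds D ((c * b) ^ 2) = odds D d := by
  have hne' : b * c ≠ c * b := Ne.symm hne
  obtain ⟨-, hrb, hrc, hsym, -⟩ := pair_facts S hb hc
  rw [hsym]
  by_contra hbad
  have hcD := W_mem S.hD hc
  have hbD := W_mem S.hD hb
  have hrW := four_mem S hb hc hne'
  set r := (b * c) ^ 2 with hrdef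
  have hrD := W_mem S.hD hrW
  obtain ⟨x, hxr, hxd⟩ : ∃ x ∈ odds D r, x ∉ odds D d := Set.not_subset.mp fun hs =>
    hbad (odds_eq_of_subset S.hD S.hclass hrD hd hs)
  have hx := hxr.2.1
  have h4 : orderOf (x * d) = 4 := by
    rcases S.hD.pair x hx d hd with h | h | ⟨h, -⟩
    · exact absurd hxr (W_not_odd S.hD hrW hx h)
    · by_cases e : x = d
      · exact absurd hxr (W_not_odd S.hD hrW hx (by rw [e]))
      · exact absurd (oddAdj_symm S.hD ⟨hx, hd, e, h⟩) hxd
    · exact h
  obtain ⟨hlx, hld, -, -⟩ := four_center S.hD hx hd h4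
  have hyW := W_of_line S.hD hld
  set y0 := (x * d) ^ 2
  have hry : r * y0 ≠ y0 * r := fun e =>
    odd_not_comm S.hD (S.hD.orderOf_eq y0 hlx.2.1) hlx.2.2.1 (hlx.2.2.1 ▸ hlx.2.2.2) hxr e
  have hpair : ∀ u ∈ W D d, r * u ≠ u * r → (b * (c * u) ^ 2) ^ 2 ∈ sameCommutingSubgroup D d := by
    intro u hu _
    rcases sq_eq_one_or S hc hu with h | ⟨hcu, hW, -, -⟩
    · rw [h, mul_one, pow_two, mul_self S.hD hbD]; exact one_mem _
    · rw [← (pair_facts S hb hW).2.2.2.1]
      exact good_sq_mem_E S hd hW (hp u hu hcu) hb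
  have hδE : ∀ u ∈ W D d, (r * u) ^ 2 ∈ sameCommutingSubgroup D d := fun u hu => good_sq_mem_E S hd hrW hr hu
  by_cases h1 : ∃ y ∈ W D d, r * y ≠ y * r ∧ (b * (c * y) ^ 2) ^ 2 ≠ 1
  · obtain ⟨y, hy, hry', hβ⟩ := h1
    rcases sq_eq_one_or S hc hy with h | ⟨hcy, hW, -, -⟩
    · exact hβ (by rw [h, mul_one, pow_two, mul_self S.hD hbD])
    refine finish S hd hb hc hne' hr (fun v hv => lines_of_good S hd hb hW (fun e => hβ ?_) (hp y hy hcy) hv)
      hpair hy hry' hβ
    exact sq_of_comm S.hD hbD (W_mem S.hD hW) e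
  · push Not at h1
    have hγ : ∀ u ∈ W D d, r * u ≠ u * r → ((b * u) ^ 2 * c) ^ 2 = (r * u) ^ 2 := fun u hu hru => by
      rw [hw_rel S hd hb hc hu hne' (hδE u hu) (hpair u hu hru), h1 u hu hru, mul_one]
    have hγ' : ∀ u ∈ W D d, r * u ≠ u * r → (c * (b * u) ^ 2) ^ 2 = (r * u) ^ 2 := fun u hu hru => by
      calc (c * (b * u) ^ 2) ^ 2 = c * ((b * u) ^ 2 * c) ^ 2 * c⁻¹ := by simp only [pow_two]; group
        _ = (r * u) ^ 2 := by rw [hγ u hu hru, E_central S hd (hδE u hu) hc, mul_inv_cancel_right]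
    have hsymm : (c * b) ^ 2 = r := hsym
    have hlines : ∀ v, Same D d v → Line D c v := by
      intro v hv
      obtain ⟨u, hu, hruv, -, -⟩ := centre_surj_W S hd hrW hyW hry (fun w hw => hr w (W_of_same S hd hyW hw)
        fun e => hry (comm_of_odds_eq S.hD S.hclass hw.1 (W_mem S.hD hyW) hw.2 hrD e)) hv
      have huW := W_of_same S hd hyW hu
      have hru : r * u ≠ u * r := fun e => ne_one S.hD hv.1 (by rw [← hruv, sq_of_comm S.hD hrD hu.1 e])
      have h2 := hγ' u huW hru
      rw [hruv] at h2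
      rcases sq_eq_one_or S hb huW with h | ⟨-, hW, -, -⟩
      · exfalso
        rw [h, mul_one, pow_two, mul_self S.hD hcD] at h2
        exact ne_one S.hD hv.1 h2.symm
      rcases sq_eq_one_or S hc hW with h | ⟨-, -, hl, -⟩
      · exact absurd (h2.symm.trans h) (ne_one S.hD hv.1)
      · rwa [h2] at hl
    refine finish S hd hc hb hne (hsymm.symm ▸ hr) hlines (fun u hu hru => ?_) hyW (hsymm.symm ▸ hry) ?_
    · rw [hsymm] at hru
      rw [hγ' u hu hru]
      exact hδE u hu
    · rw [hγ' y0 hyW hry]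
      exact ne_one S.hD (good_same S hrW hr hyW hry).1

/-- Every isolated member of the commuting members of `d` is good. -/
theorem good_all {d a : G} (hd : d ∈ D) (ha : a ∈ W D d) : Good D d a := by
  obtain ⟨L, hL0, hLs, n, hn⟩ := series_exists S d
  suffices h : ∀ j k, k + j = n → ∀ c ∈ W D d, c ∈ L k → Good D d c from
    h n 0 (by omega) a ha (hL0 ▸ W_le_Two S ha)
  intro j
  induction j with
  | zero =>
    intro k hk c hc hcL
    rw [Nat.add_zero] at hk
    rw [hk, hn, Subgroup.mem_bot] at hcL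
    exact absurd hcL (ne_one S.hD (W_mem S.hD hc))
  | succ j ih =>
    intro k hk c hc hcL
    have hdeep : ∀ u ∈ W D d, c * u ≠ u * c → Good D d ((c * u) ^ 2) := by
      intro u hu hcu
      refine ih (k + 1) (by omega) _ (four_mem S hc hu hcu) ?_
      rw [hLs, show (c * u) ^ 2 = c * u * c⁻¹ * u⁻¹ by
        rw [inv_eq S.hD (W_mem S.hD hc), inv_eq S.hD (W_mem S.hD hu), pow_two]; group]
      exact Subgroup.commutator_mem_commutator hcL (W_le_Two S hu)
    intro b hb hne
    refine step S hd hc hb hne ?_ hdeep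
    rw [(pair_facts S hc hb).2.2.2.1]
    exact hdeep b hb hne

end CfsgLib.RootSub.RootStruct
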