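import Cfsg.Agent.Lib.RootSub.RootStructBasic

/-!
The root structure theorem for root involutions, given that all centres formed inside `W D d` lie in
the class of `d`.
-/

set_option autoImplicit false
set_option linter.unusedSectionVars false

open Cfsg
open scoped commutatorElement

namespace CfsgLib.RootSub.RootStruct

open CfsgLib.RootSub.Invol

variable {G : Type*} [Group G] {D : Set G} [Finite G] (S : Setting D)
  (hG : ∀ d ∈ D, ∀ a ∈ W D d, Good D d a) {d : G} (hd : d ∈ D)

include S hG hd

/-- A member of `W D d` other than `d` is on a line with `d`. -/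
theorem line_of_W {w : G} (hw : w ∈ W D d) (hne : w ≠ d) : Line D d w := by
  have hwD := W_mem S.hD hw
  by_cases hs : odds D w = odds D d
  · have hE : w * d ∈ sameCommutingSubgroup D d :=
      mul_mem ((mem_E_iff S hd).mpr (Or.inr ⟨hwD, hs⟩)) ((mem_E_iff S hd).mpr (Or.inr ⟨hd, rfl⟩))
    rcases (mem_E_iff S hd).mp hE with h | h
    · exact absurd (by rw [← inv_eq S.hD hd]; exact mul_eq_one_iff_eq_inv.mp h) hne
    · exact ⟨hd, hwD, W_comm S.hD hw, h.1⟩
  · obtain ⟨x, hx, hx'⟩ := Set.not_subset.mp fun h => hs (odds_eq_of_subset S.hD S.hclass hwD hd h)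
    have hxD : x ∈ D := hx.2.1
    have hnc : d * x ≠ x * d := fun e => W_not_odd S.hD hw hxD e.symm hx
    have h4 : orderOf (d * x) = 4 := by
      rcases S.hD.pair d hd x hxD with h | h | h
      · exact absurd h hnc
      · exact absurd (⟨hd, hxD, fun e => hnc (by rw [e]), h⟩ : OddAdj D d x) hx'
      · exact h.1
    obtain ⟨hdy, hxy, -, -⟩ := four_center S.hD hd hxD h4
    have hy : (d * x) ^ 2 ∈ W D d := W_of_line S.hD hdy
    have hwy := line_odd_not_comm S.hD hxy hx
    obtain ⟨-, -, -, hl, -⟩ := centre_surj_W S hd hw hy hwy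
      (fun v hv => hG d hd w hw v (W_of_same S hd hy hv) fun e =>
        hwy (comm_of_odds_eq S.hD S.hclass hv.1 (W_mem S.hD hy) hv.2 hwD e))
      (v := d) ⟨hd, rfl⟩
    exact hl.symm

theorem W_eq : W D d = productPartners D d ∪ {d} := by
  ext w
  constructor
  · intro hw
    by_cases h : w = d
    · exact Or.inr h
    · obtain ⟨-, h1, h2, h3⟩ := line_of_W S hG hd hw h
      exact Or.inl ⟨⟨h1, h2, h⟩, h3⟩
  · rintro (⟨⟨h1, h2, -⟩, h3⟩ | h)
    · exact W_of_line S.hD ⟨hd, h1, h2, h3⟩
    · rw [Set.mem_singleton_iff.mp h]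
      exact W_self S.hD hd

theorem mem_inter_closure_W {w : G} : w ∈ D ∧ w ∈ Subgroup.closure (W D d) ↔ w ∈ W D d :=
  ⟨fun h => W_of_Two S ((Subgroup.closure_le (Two D d)).mpr (fun _ hx => W_le_Two S hx) h.2) h.1,
    fun h => ⟨W_mem S.hD h, Subgroup.subset_closure h⟩⟩

theorem closure_central {x n : G} (hx : x ∈ sameCommutingSubgroup D d)
    (hn : n ∈ Subgroup.closure (W D d)) : n * x = x * n := by
  induction hn using Subgroup.closure_induction with
  | mem u hu => exact E_central S hd hx hu
  | one => simp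
  | mul u v _ _ h1 h2 => exact ((show Commute u x from h1).mul_left h2).eq
  | inv u _ h1 => exact ((show Commute u x from h1).inv_left).eq

theorem commutator_gen {u v : G} (hu : u ∈ W D d) (hv : v ∈ W D d) :
    ⁅u, v⁆ ∈ sameCommutingSubgroup D d := by
  have e : ⁅u, v⁆ = (u * v) ^ 2 := by
    rw [commutatorElement_def, inv_eq S.hD (W_mem S.hD hu), inv_eq S.hD (W_mem S.hD hv), pow_two]
    group
  rw [e]
  by_cases h : u * v = v * u
  · rw [sq_of_comm S.hD (W_mem S.hD hu) (W_mem S.hD hv) h]
    exact one_mem _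
  · exact (mem_E_iff S hd).mpr (Or.inr
      ⟨(four_center S.hD (W_mem S.hD hu) (W_mem S.hD hv) (W_four S.hD hu hv h)).1.2.1,
        hG d hd u hu v hv h⟩)

theorem commutator_left {u n : G} (hu : u ∈ W D d) (hn : n ∈ Subgroup.closure (W D d)) :
    ⁅u, n⁆ ∈ sameCommutingSubgroup D d := by
  induction hn using Subgroup.closure_induction with
  | mem v hv => exact commutator_gen S hG hd hu hv
  | one => simp
  | mul p q hp _ h1 h2 =>
    have hc := closure_central S hG hd h2 hp
    have e : ⁅u, p * q⁆ = ⁅u, p⁆ * (p * ⁅u, q⁆ * p⁻¹) := by simp only [commutatorElement_def]; group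
    rw [e, hc, mul_inv_cancel_right]
    exact mul_mem h1 h2
  | inv p hp h1 =>
    have hc := closure_central S hG hd (inv_mem h1) (inv_mem hp)
    have e : ⁅u, p⁻¹⁆ = p⁻¹ * ⁅u, p⁆⁻¹ * p := by simp only [commutatorElement_def]; group
    rw [e, hc, inv_mul_cancel_right]
    exact inv_mem h1

theorem commutator_closure_le :
    ⁅Subgroup.closure (W D d), Subgroup.closure (W D d)⁆ ≤ sameCommutingSubgroup D d := by
  refine Subgroup.commutator_le.mpr fun g hg n hn => ?_
  induction hg using Subgroup.closure_induction with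
  | mem u hu => exact commutator_left S hG hd hu hn
  | one => simp
  | mul p q hp _ h1 h2 =>
    have hc := closure_central S hG hd h2 hp
    have e : ⁅p * q, n⁆ = p * ⁅q, n⁆ * p⁻¹ * ⁅p, n⁆ := by simp only [commutatorElement_def]; group
    rw [e, hc, mul_inv_cancel_right]
    exact mul_mem h2 h1
  | inv p hp h1 =>
    have hc := closure_central S hG hd (inv_mem h1) (inv_mem hp)
    have e : ⁅p⁻¹, n⁆ = p⁻¹ * ⁅p, n⁆⁻¹ * p := by simp only [commutatorElement_def]; group
    rw [e, hc, inv_mul_cancel_right]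
    exact inv_mem h1

theorem le_commutator_closure (hfour : ∃ a ∈ D, ∃ b ∈ D, orderOf (a * b) = 4) :
    sameCommutingSubgroup D d ≤ ⁅Subgroup.closure (W D d), Subgroup.closure (W D d)⁆ := by
  refine (Subgroup.closure_le _).mpr fun δ hδ => ?_
  have hsame : Same D d δ := (same_iff S hd).mpr hδ
  obtain ⟨a, ha, b, hb, h4⟩ := hfour
  obtain ⟨hla, hlb, -, -⟩ := four_center S.hD ha hb h4
  obtain ⟨g, hg⟩ := S.hclass _ hla.2.1 δ hsame.1
  have haW : g * a * g⁻¹ ∈ W D d := by
    rw [← W_congr S hd hsame, hg]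
    exact W_conj S.hD g (W_of_line S.hD hla.symm)
  have hbW : g * b * g⁻¹ ∈ W D d := by
    rw [← W_congr S hd hsame, hg]
    exact W_conj S.hD g (W_of_line S.hD hlb.symm)
  have e : δ = ⁅g * a * g⁻¹, g * b * g⁻¹⁆ := by
    rw [hg, commutatorElement_def, inv_eq S.hD (W_mem S.hD haW), inv_eq S.hD (W_mem S.hD hbW),
      pow_two]
    group
  rw [e]
  exact Subgroup.commutator_mem_commutator (Subgroup.subset_closure haW) (Subgroup.subset_closure hbW)

theorem class_eq_central :
    sameCommutingClass D d = {e | e ∈ D ∧ e ∈ Subgroup.closure (W D d) ∧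
      ∀ y ∈ Subgroup.closure (W D d), e * y = y * e} := by
  ext e
  constructor
  · intro he
    have hs : Same D d e := (same_iff S hd).mpr he
    exact ⟨hs.1, Subgroup.subset_closure (same_mem_W S hd hs),
      fun y hy => (closure_central S hG hd ((mem_E_iff S hd).mpr (Or.inr hs)) hy).symm⟩
  · rintro ⟨he, heN, hc⟩
    refine (same_iff S hd).mp ⟨he, ?_⟩
    by_contra hs
    have hed : e ≠ d := fun h => hs (by rw [h])
    have hl := line_of_W S hG hd ((mem_inter_closure_W S hG hd).mp ⟨he, heN⟩) hed
    obtain ⟨m, hm, -, hme⟩ := exists_mover_of_odds_ne S.hD S.hclass hl.symm hs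
    have hsq : (e * m) ^ 2 = d := by
      rw [pow_two, show e * m * (e * m) = e * (m * e * m) by group, hme, ← mul_assoc,
        mul_self S.hD he, one_mul]
    have h4 : orderOf (e * m) = 4 := by
      rcases S.hD.pair e he m hm with h | h | h
      · exact absurd (hsq ▸ sq_of_comm S.hD he hm h : d = 1) (ne_one S.hD hd)
      · exfalso
        refine ne_one S.hD hd ?_
        have h4' : (e * m) ^ 4 = 1 := by
          rw [show (4 : ℕ) = 2 * 2 from rfl, pow_mul, hsq, pow_two, mul_self S.hD hd]
        have h1 : orderOf (e * m) = 1 := Nat.eq_one_of_dvd_coprimes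
          ((Nat.coprime_two_left.mpr h).pow_left 2 |> Nat.Coprime.symm) dvd_rfl
          ((orderOf_dvd_of_pow_eq_one h4').trans (by norm_num))
        rw [← hsq, orderOf_eq_one_iff.mp h1, one_pow]
      · exact h.1
    have hlm := (four_center S.hD he hm h4).2.1
    rw [hsq] at hlm
    exact not_comm_of_four S.hD he hm h4 (hc m (Subgroup.subset_closure (W_of_line S.hD hlm.symm)))

/-- The root structure theorem. -/
theorem root_structure (hfour : ∃ a ∈ D, ∃ b ∈ D, orderOf (a * b) = 4) :
    Subgroup.closure {w | IsIsolatedElem (OddAdj (commutingMembers D d)) (commutingMembers D d) w} =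
      Subgroup.closure (productPartners D d ∪ {d}) ∧
    D ∩ (Subgroup.closure (productPartners D d ∪ {d}) : Set G) = productPartners D d ∪ {d} ∧
    ⁅Subgroup.closure (productPartners D d ∪ {d}), Subgroup.closure (productPartners D d ∪ {d})⁆ =
      sameCommutingSubgroup D d ∧
    sameCommutingClass D d = {e | e ∈ D ∧ e ∈ Subgroup.closure (productPartners D d ∪ {d}) ∧
      ∀ y ∈ Subgroup.closure (productPartners D d ∪ {d}), e * y = y * e} := by
  rw [← W_eq S hG hd]
  exact ⟨rfl, Set.ext fun _ => mem_inter_closure_W S hG hd,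
    le_antisymm (commutator_closure_le S hG hd) (le_commutator_closure S hG hd hfour),
    class_eq_central S hG hd⟩

end CfsgLib.RootSub.RootStruct
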