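/-
The subgroup generated by a pair of partners of prime order in a special rank one pair with abelian
unipotent subgroups is an image of `SL₂(p)` with central kernel.
-/
import Mathlib
import Cfsg.Prelude.Def_RootSubgroups
import Cfsg.Agent.Lib.RootSub.RankOne
import Cfsg.Agent.Lib.RootSub.Special

set_option autoImplicit false
set_option linter.unusedSectionVars false

open Cfsg Matrix

namespace CfsgLib.RootSub

/-- A sum of two non-squares equal to one in `ZMod p`. -/
theorem exists_nonsquares_sum_one {p : ℕ} [Fact p.Prime] (hns : ∃ u : ZMod p, u ≠ 0 ∧ ¬ IsSquare u) :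
    ∃ u v : ZMod p, ¬ IsSquare u ∧ ¬ IsSquare v ∧ u + v = 1 := by
  classical
  by_contra hc
  push Not at hc
  obtain ⟨w, hw0, hw⟩ := hns
  set N := Finset.univ.filter (fun u : ZMod p => ¬ IsSquare u)
  set Q := Finset.univ.filter (fun u : ZMod p => IsSquare u ∧ u ≠ 1 ∧ u ≠ 0)
  have h1 : (N.image fun u => 1 - u) ⊆ insert 0 Q := by
    intro x hx
    obtain ⟨u, hu, rfl⟩ := Finset.mem_image.mp hx
    simp only [N, Finset.mem_filter, Finset.mem_univ, true_and] at hu
    have hsq : IsSquare (1 - u) := by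
      by_contra h
      exact hc u (1 - u) hu h (by ring)
    by_cases h0 : 1 - u = 0
    · rw [h0]; exact Finset.mem_insert_self _ _
    · refine Finset.mem_insert_of_mem (Finset.mem_filter.mpr ⟨Finset.mem_univ _, hsq, fun h => ?_, h0⟩)
      exact hu ((show u = 0 by linear_combination -h) ▸ IsSquare.zero)
  have h2 : (N.image fun u => 1 - u).card = N.card :=
    Finset.card_image_of_injective _ fun a b h => by simpa using h
  have h3 : (0 : ZMod p) ∉ (N.image fun u => 1 - u) := by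
    intro hx
    obtain ⟨u, hu, he⟩ := Finset.mem_image.mp hx
    simp only [N, Finset.mem_filter, Finset.mem_univ, true_and] at hu
    exact hu ((show u = 1 by linear_combination -he) ▸ IsSquare.one)
  have h4 : N.card ≤ Q.card := by
    rw [← h2]
    refine Finset.card_le_card fun x hx => ?_
    exact (Finset.mem_insert.mp (h1 hx)).resolve_left (fun e => h3 (e ▸ hx))
  -- multiplication by a non-square maps non-zero squares into non-squares
  have h5 : Q.card + 1 ≤ N.card := by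
    have hsub : (insert 1 Q).image (fun u => u * w) ⊆ N := by
      intro x hx
      obtain ⟨u, hu, rfl⟩ := Finset.mem_image.mp hx
      simp only [N, Finset.mem_filter, Finset.mem_univ, true_and]
      have hu' : IsSquare u ∧ u ≠ 0 := by
        rcases Finset.mem_insert.mp hu with rfl | hu
        · exact ⟨IsSquare.one, one_ne_zero⟩
        · exact ⟨(Finset.mem_filter.mp hu).2.1, (Finset.mem_filter.mp hu).2.2.2⟩
      rintro ⟨s, hs⟩
      obtain ⟨r, rfl⟩ := hu'.1
      refine hw ⟨s / r, ?_⟩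
      have hr : r ≠ 0 := fun e => hu'.2 (by rw [e, mul_zero])
      field_simp
      linear_combination hs
    have h6 := Finset.card_le_card hsub
    rw [Finset.card_image_of_injective _ (mul_left_injective₀ hw0),
      Finset.card_insert_of_notMem (fun h => (Finset.mem_filter.mp h).2.2.1 rfl)] at h6
    exact h6
  omega

variable {G : Type*} [Group G] {A B : Subgroup G} {p : ℕ} [Fact p.Prime]

section Data

variable (a b : G) (hap : a ^ p = 1) (hbp : b ^ p = 1)

/-- `a` to the power of a residue. -/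
def zp (a : G) (t : ZMod p) : G := a ^ t.val

theorem zp_natCast (hap : a ^ p = 1) (n : ℕ) : zp a (n : ZMod p) = a ^ n := by
  rw [zp, ZMod.val_natCast]
  exact (pow_eq_pow_mod n hap).symm

theorem zp_add (hap : a ^ p = 1) (s t : ZMod p) : zp a (s + t) = zp a s * zp a t := by
  obtain ⟨m, rfl⟩ := ZMod.natCast_zmod_surjective s
  obtain ⟨n, rfl⟩ := ZMod.natCast_zmod_surjective t
  rw [← Nat.cast_add, zp_natCast a hap, zp_natCast a hap, zp_natCast a hap, pow_add]

theorem zp_zero : zp a (0 : ZMod p) = 1 := by rw [zp, ZMod.val_zero, pow_zero]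

theorem zp_one : zp a (1 : ZMod p) = a := by rw [zp, ZMod.val_one, pow_one]

theorem zp_neg (hap : a ^ p = 1) (t : ZMod p) : zp a (-t) = (zp a t)⁻¹ :=
  eq_inv_of_mul_eq_one_left (by rw [← zp_add a hap, neg_add_cancel, zp_zero])

theorem zp_mul (hap : a ^ p = 1) (s t : ZMod p) : zp a (s * t) = zp a s ^ t.val := by
  obtain ⟨m, rfl⟩ := ZMod.natCast_zmod_surjective s
  conv_lhs => rw [← ZMod.natCast_zmod_val t, ← Nat.cast_mul, zp_natCast a hap, pow_mul]
  rw [zp_natCast a hap]

/-- The interchanging elements. -/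
def nn (t : ZMod p) : G := zp a t * zp b (-t⁻¹) * zp a t

/-- The diagonal elements. -/
def hh (t : ZMod p) : G := nn a b t * (nn a b (1 : ZMod p))⁻¹

end Data

/-- The data of a pair of partners of order `p`. -/
structure PData (A B : Subgroup G) (p : ℕ) (a b : G) : Prop where
  special : SpecialAb A B
  par : Par A B a b
  hap : a ^ p = 1
  hbp : b ^ p = 1

variable {a b : G} (D : PData A B p a b)
include D

theorem zp_ne_one {t : ZMod p} (ht : t ≠ 0) : zp a t ≠ 1 := by
  intro h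
  have hord : orderOf a = p := orderOf_eq_prime D.hap D.par.2.1
  have := Nat.le_of_dvd (Nat.pos_of_ne_zero fun e => ht ((ZMod.val_eq_zero t).mp e))
    (hord ▸ orderOf_dvd_of_pow_eq_one h)
  exact absurd (ZMod.val_lt t) (not_lt.mpr this)

theorem par_zp {t : ZMod p} (ht : t ≠ 0) : Par A B (zp a t) (zp b t⁻¹) := by
  obtain ⟨d, hd⟩ := exists_par D.special.1.1 (pow_mem D.par.1 t.val) (zp_ne_one D ht)
  have hb1 : b ^ t.val ≠ 1 := (pow_ne_one_iff D.special D.par t.val).mp (zp_ne_one D ht)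
  have hdt : d ^ t.val = b := par_pow t.val D.special.symm D.par.symm hb1 hd.symm
  have hdp : d ^ p = 1 := by
    by_contra hne
    have := (pow_ne_one_iff D.special hd p).mpr hne
    exact this (by rw [← pow_mul, mul_comm, pow_mul, D.hap, one_pow])
  have hd' : d = zp b t⁻¹ := by
    have h1 := congrArg (fun z => z ^ (t⁻¹).val) hdt
    simp only [← pow_mul] at h1
    rw [show b ^ (t⁻¹).val = zp b t⁻¹ from rfl] at h1
    rw [← h1, ← zp_natCast (p := p) d hdp, Nat.cast_mul, ZMod.natCast_zmod_val, ZMod.natCast_zmod_val,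
      mul_inv_cancel₀ ht, zp_one]
  exact hd' ▸ hd

theorem nn_eq' {t : ZMod p} (ht : t ≠ 0) : nn a b t = zp b (-t⁻¹) * zp a t * zp b (-t⁻¹) := by
  have := (par_flip D.special (par_zp D ht)).1
  rwa [← zp_neg b D.hbp] at this

theorem nn_conj_x {t : ZMod p} (ht : t ≠ 0) (s : ZMod p) :
    nn a b t * zp a s * (nn a b t)⁻¹ = zp b (-(s * (t⁻¹ * t⁻¹))) := by
  have h1 := (par_flip D.special (par_zp D ht)).2.1
  rw [← zp_neg b D.hbp] at h1
  change nn a b t * zp a t * (nn a b t)⁻¹ = zp b (-t⁻¹) at h1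
  have e1 : zp a s = zp a t ^ (s * t⁻¹).val := by
    rw [← zp_mul a D.hap]
    congr 1
    field_simp
  rw [e1, conj_pow_eq, h1, ← zp_mul b D.hbp]
  congr 1
  ring

theorem nn_conj_y {t : ZMod p} (ht : t ≠ 0) (s : ZMod p) :
    nn a b t * zp b s * (nn a b t)⁻¹ = zp a (-(s * (t * t))) := by
  have h1 := (par_flip D.special (par_zp D ht)).2.2.1
  rw [← zp_neg b D.hbp, ← zp_neg a D.hap] at h1
  change nn a b t * zp b t⁻¹ * (nn a b t)⁻¹ = zp a (-t) at h1
  have e1 : zp b s = zp b t⁻¹ ^ (s * t).val := by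
    rw [← zp_mul b D.hbp]
    congr 1
    field_simp
  rw [e1, conj_pow_eq, h1, ← zp_mul a D.hap]
  congr 1
  ring

theorem nn_inv (t : ZMod p) : (nn a b t)⁻¹ = nn a b (-t) := by
  simp only [nn, _root_.mul_inv_rev, zp_neg a D.hap, inv_neg, zp_neg b D.hbp, inv_inv, mul_assoc]

theorem nn_x {t : ZMod p} (ht : t ≠ 0) (s : ZMod p) :
    nn a b t * zp a s = zp b (-(s * (t⁻¹ * t⁻¹))) * nn a b t := by
  rw [← nn_conj_x D ht s, inv_mul_cancel_right]

theorem nn_y {t : ZMod p} (ht : t ≠ 0) (s : ZMod p) :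
    nn a b t * zp b s = zp a (-(s * (t * t))) * nn a b t := by
  rw [← nn_conj_y D ht s, inv_mul_cancel_right]

theorem hh_conj_x {t : ZMod p} (ht : t ≠ 0) (s : ZMod p) :
    hh a b t * zp a s = zp a (s * (t * t)) * hh a b t := by
  have h1 : (nn a b (1 : ZMod p))⁻¹ * zp a s = zp b (-s) * (nn a b (1 : ZMod p))⁻¹ := by
    rw [nn_inv D, nn_x D (neg_ne_zero.mpr one_ne_zero)]
    norm_num
  rw [hh, mul_assoc, h1, ← mul_assoc, nn_y D ht, mul_assoc]
  congr 2
  ring

theorem hh_conj_y {t : ZMod p} (ht : t ≠ 0) (s : ZMod p) :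
    hh a b t * zp b s = zp b (s * (t⁻¹ * t⁻¹)) * hh a b t := by
  have h1 : (nn a b (1 : ZMod p))⁻¹ * zp b s = zp a (-s) * (nn a b (1 : ZMod p))⁻¹ := by
    rw [nn_inv D, nn_y D (neg_ne_zero.mpr one_ne_zero)]
    norm_num
  rw [hh, mul_assoc, h1, ← mul_assoc, nn_x D ht, mul_assoc]
  congr 2
  ring

theorem hh_one : hh a b (1 : ZMod p) = 1 := mul_inv_cancel _

theorem hh_mem {t : ZMod p} : hh a b t ∈ Subgroup.closure ({a, b} : Set G) := by
  have hx : ∀ s : ZMod p, zp a s ∈ Subgroup.closure ({a, b} : Set G) := fun s =>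
    pow_mem (Subgroup.subset_closure (show a ∈ ({a, b} : Set G) from Or.inl rfl)) _
  have hy : ∀ s : ZMod p, zp b s ∈ Subgroup.closure ({a, b} : Set G) := fun s =>
    pow_mem (Subgroup.subset_closure (show b ∈ ({a, b} : Set G) from Or.inr rfl)) _
  exact mul_mem (mul_mem (mul_mem (hx _) (hy _)) (hx _)) (inv_mem (mul_mem (mul_mem (hx _) (hy _)) (hx _)))

/-- An element of the generated subgroup centralising both generators is central there. -/
theorem comm_of_fix {z : G} (hza : z * a = a * z) (hzb : z * b = b * z) {y : G}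
    (hy : y ∈ Subgroup.closure ({a, b} : Set G)) : z * y = y * z := by
  have hle : Subgroup.closure ({a, b} : Set G) ≤ Subgroup.centralizer ({z} : Set G) := by
    rw [Subgroup.closure_le]
    rintro _ (rfl | rfl)
    · exact Subgroup.mem_centralizer_singleton_iff.mpr hza.symm
    · exact Subgroup.mem_centralizer_singleton_iff.mpr hzb.symm
  exact (Subgroup.mem_centralizer_singleton_iff.mp (hle hy)).symm

theorem hh_sq_conj {u t : ZMod p} (hu : u ≠ 0) (ht : t ≠ 0) :
    hh a b u * nn a b t = nn a b (u * u * t) * hh a b u := by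
  have e : (u * u * t)⁻¹ = t⁻¹ * (u⁻¹ * u⁻¹) := by field_simp
  have hx := hh_conj_x D hu t
  have hy := hh_conj_y D hu (-t⁻¹)
  rw [show -t⁻¹ * (u⁻¹ * u⁻¹) = -(u * u * t)⁻¹ by rw [e]; ring] at hy
  rw [show t * (u * u) = u * u * t by ring] at hx
  calc hh a b u * nn a b t = hh a b u * zp a t * zp b (-t⁻¹) * zp a t := by rw [nn, ← mul_assoc, ← mul_assoc]
    _ = zp a (u * u * t) * (hh a b u * zp b (-t⁻¹)) * zp a t := by rw [hx]; group
    _ = zp a (u * u * t) * zp b (-(u * u * t)⁻¹) * (hh a b u * zp a t) := by rw [hy]; group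
    _ = nn a b (u * u * t) * hh a b u := by rw [hx, nn]; group

/-- Commutation of the diagonal elements. -/
theorem hh_comm {u t : ZMod p} (hu : u ≠ 0) (ht : t ≠ 0) : hh a b u * hh a b t = hh a b t * hh a b u := by
  obtain ⟨g, hg⟩ := IsCyclic.exists_generator (α := (ZMod p)ˣ)
  -- every diagonal element is a power of one of them times an element centralising `a` and `b`
  have key : ∀ s : ZMod p, s ≠ 0 → ∃ n : ℕ, ∀ y ∈ Subgroup.closure ({a, b} : Set G),
      (hh a b (g : ZMod p) ^ n)⁻¹ * hh a b s * y = y * ((hh a b (g : ZMod p) ^ n)⁻¹ * hh a b s) := by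
    intro s hs
    obtain ⟨n, hn⟩ := (Submonoid.mem_powers_iff _ _).mp
      (mem_powers_iff_mem_zpowers.mpr (hg (Units.mk0 s hs)))
    have hgn : (g : ZMod p) ^ n = s := by
      rw [← Units.val_pow_eq_pow_val, hn, Units.val_mk0]
    have hpow : ∀ (k : ℕ) (r : ZMod p), hh a b (g : ZMod p) ^ k * zp a r = zp a (r * ((g : ZMod p) ^ k * (g : ZMod p) ^ k)) * hh a b (g : ZMod p) ^ k ∧
        hh a b (g : ZMod p) ^ k * zp b r = zp b (r * (((g : ZMod p) ^ k)⁻¹ * ((g : ZMod p) ^ k)⁻¹)) * hh a b (g : ZMod p) ^ k := by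
      intro k
      induction k with
      | zero => intro r; simp
      | succ k ih =>
        intro r
        constructor
        · rw [pow_succ, mul_assoc, hh_conj_x D g.ne_zero, ← mul_assoc, (ih _).1, mul_assoc]
          congr 2
          ring
        · rw [pow_succ, mul_assoc, hh_conj_y D g.ne_zero, ← mul_assoc, (ih _).2, mul_assoc]
          congr 2
          rw [pow_succ, mul_inv]; ring
    refine ⟨n, fun y hy => comm_of_fix D ?_ ?_ hy⟩
    · have h1 := hh_conj_x D hs 1
      have h2 := (hpow n 1).1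
      rw [hgn] at h2
      rw [zp_one] at h1 h2
      have h3 : (hh a b (g : ZMod p) ^ n)⁻¹ * zp a (1 * (s * s)) = a * (hh a b (g : ZMod p) ^ n)⁻¹ := by
        rw [inv_mul_eq_iff_eq_mul, ← mul_assoc (_ ^ n), h2, mul_inv_cancel_right]
      rw [mul_assoc, h1, ← mul_assoc, h3, mul_assoc]
    · have h1 := hh_conj_y D hs 1
      have h2 := (hpow n 1).2
      rw [hgn] at h2
      rw [zp_one] at h1 h2
      have h3 : (hh a b (g : ZMod p) ^ n)⁻¹ * zp b (1 * (s⁻¹ * s⁻¹)) = b * (hh a b (g : ZMod p) ^ n)⁻¹ := by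
        rw [inv_mul_eq_iff_eq_mul, ← mul_assoc (_ ^ n), h2, mul_inv_cancel_right]
      rw [mul_assoc, h1, ← mul_assoc, h3, mul_assoc]
  obtain ⟨i, hi⟩ := key u hu
  obtain ⟨j, hj⟩ := key t ht
  set h₀ := hh a b (g : ZMod p)
  set z := (h₀ ^ i)⁻¹ * hh a b u
  set w := (h₀ ^ j)⁻¹ * hh a b t
  have eu : hh a b u = h₀ ^ i * z := (mul_inv_cancel_left _ _).symm
  have et : hh a b t = h₀ ^ j * w := (mul_inv_cancel_left _ _).symm
  have hm : ∀ k : ℕ, h₀ ^ k ∈ Subgroup.closure ({a, b} : Set G) := fun k => pow_mem (hh_mem D) k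
  have hzw : z * w = w * z := hi w (mul_mem (inv_mem (hm j)) (hh_mem D))
  rw [eu, et]
  calc h₀ ^ i * z * (h₀ ^ j * w) = h₀ ^ i * (z * h₀ ^ j) * w := by group
    _ = h₀ ^ i * h₀ ^ j * (z * w) := by rw [hi _ (hm j)]; group
    _ = h₀ ^ j * (h₀ ^ i * w) * z := by rw [hzw, ← pow_add, add_comm, pow_add]; group
    _ = h₀ ^ j * w * (h₀ ^ i * z) := by rw [← hj _ (hm i)]; group

/-- The key identity from a decomposition `u + v = 1`. -/
theorem nn_triple {u v : ZMod p} (hu : u ≠ 0) (hv : v ≠ 0) (huv : u + v = 1) :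
    nn a b u * nn a b (-(u * v)) * nn a b v = nn a b (1 : ZMod p) := by
  have huv0 : u * v ≠ 0 := mul_ne_zero hu hv
  have eu : zp a u = nn a b u * zp a (-u) * zp b u⁻¹ := by
    rw [nn, zp_neg a D.hap, zp_neg b D.hbp]; group
  have ev : zp a v = zp b v⁻¹ * zp a (-v) * nn a b v := by
    rw [nn, zp_neg a D.hap, zp_neg b D.hbp]; group
  have em : zp b (u * v)⁻¹ = zp a (u * v) * nn a b (-(u * v)) * zp a (u * v) := by
    rw [nn, inv_neg, neg_neg, zp_neg a D.hap]; group
  have h1 : zp a (1 : ZMod p) = nn a b u * zp a (-(u * u)) * nn a b (-(u * v)) * zp a (-(v * v)) * nn a b v := by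
    calc zp a (1 : ZMod p) = zp a u * zp a v := by rw [← zp_add a D.hap, huv]
      _ = nn a b u * zp a (-u) * (zp b u⁻¹ * zp b v⁻¹) * zp a (-v) * nn a b v := by rw [eu, ev]; group
      _ = nn a b u * zp a (-u) * zp b (u * v)⁻¹ * zp a (-v) * nn a b v := by
          rw [← zp_add b D.hbp]
          congr 4
          field_simp
          linear_combination huv
      _ = nn a b u * (zp a (-u) * zp a (u * v)) * nn a b (-(u * v)) * (zp a (u * v) * zp a (-v)) * nn a b v := by
          rw [em]; group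
      _ = _ := by
          rw [← zp_add a D.hap, ← zp_add a D.hap]
          congr 5
          · congr 1
            linear_combination u * huv
          · linear_combination v * huv
  have h2 : nn a b u * zp a (-(u * u)) = zp b (1 : ZMod p) * nn a b u := by
    rw [nn_x D hu]; congr 2; field_simp
  have h3 : zp a (-(v * v)) * nn a b v = nn a b v * zp b (1 : ZMod p) := by
    rw [nn_y D hv]; congr 2; ring
  rw [h2, mul_assoc _ (zp a (-(v * v))), h3] at h1
  have e3 : nn a b (1 : ZMod p) = zp b (-1 : ZMod p) * zp a (1 : ZMod p) * zp b (-1 : ZMod p) := by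
    rw [nn_eq' D one_ne_zero, inv_one]
  rw [e3, h1, zp_neg b D.hbp]
  group

theorem hh_neg_one_eq : nn a b (1 : ZMod p) * nn a b (1 : ZMod p) = (hh a b (-1 : ZMod p))⁻¹ := by
  rw [hh, ← nn_inv D, _root_.mul_inv_rev, inv_inv]

theorem hh_sq_mul {s t : ZMod p} (hs : s ≠ 0) (ht : t ≠ 0) :
    hh a b (s * s * t) = hh a b (s * s) * hh a b t := by
  have e1 := hh_sq_conj D hs ht
  have e2 := hh_sq_conj D hs one_ne_zero
  rw [mul_one] at e2
  have hc := hh_comm D hs ht
  -- conjugating by `hh s`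
  have h3 : nn a b (s * s * t) = hh a b s * nn a b t * (hh a b s)⁻¹ := by rw [e1, mul_inv_cancel_right]
  have h4 : nn a b (s * s) = hh a b s * nn a b (1 : ZMod p) * (hh a b s)⁻¹ := by rw [e2, mul_inv_cancel_right]
  calc hh a b (s * s * t) = hh a b s * nn a b t * (hh a b s)⁻¹ * (nn a b (1 : ZMod p))⁻¹ := by rw [hh, h3]
    _ = hh a b s * hh a b t * (hh a b s)⁻¹ * (hh a b s * nn a b (1 : ZMod p) * (hh a b s)⁻¹ * (nn a b (1 : ZMod p))⁻¹) := by
        simp only [hh]; group
    _ = hh a b t * hh a b (s * s) := by rw [hc, mul_inv_cancel_right, hh, ← h4, hh]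
    _ = hh a b (s * s) * hh a b t := hh_comm D ht (mul_ne_zero hs hs)

theorem hh_mul {s t : ZMod p} (hs : s ≠ 0) (ht : t ≠ 0) : hh a b (s * t) = hh a b s * hh a b t := by
  by_cases h1 : IsSquare s
  · obtain ⟨r, rfl⟩ := h1
    exact hh_sq_mul D (left_ne_zero_of_mul hs) ht
  by_cases h2 : IsSquare t
  · obtain ⟨r, rfl⟩ := h2
    rw [mul_comm, hh_sq_mul D (left_ne_zero_of_mul ht) hs, hh_comm D ht hs]
  obtain ⟨u, v, hu, hv, huv⟩ := exists_nonsquares_sum_one ⟨s, hs, h1⟩
  have hu0 : u ≠ 0 := fun e => hu (e ▸ IsSquare.zero)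
  have hv0 : v ≠ 0 := fun e => hv (e ▸ IsSquare.zero)
  -- the product of two non-squares is a square
  have nsq : ∀ x y : ZMod p, ¬ IsSquare x → ¬ IsSquare y → IsSquare (x * y) := by
    intro x y hx hy
    rw [← quadraticChar_neg_one_iff_not_isSquare] at hx hy
    have hxy : quadraticChar (ZMod p) (x * y) = 1 := by rw [map_mul, hx, hy]; norm_num
    have h0 : x * y ≠ 0 := fun e => by rw [e, quadraticChar_zero] at hxy; exact zero_ne_one hxy
    exact (quadraticChar_one_iff_isSquare h0).mp hxy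
  have base : hh a b u * hh a b v = hh a b (u * v) := by
    obtain ⟨r, hr⟩ := nsq u v hu hv
    have hr0 : r ≠ 0 := fun e => mul_ne_zero hu0 hv0 (by rw [hr, e, mul_zero])
    have hm : -(u * v) ≠ 0 := neg_ne_zero.mpr (mul_ne_zero hu0 hv0)
    have e := nn_triple D hu0 hv0 huv
    have e1 : nn a b (1 : ZMod p) * hh a b (-(u * v)) = hh a b (-(r⁻¹ * r⁻¹)) * nn a b (1 : ZMod p) := by
      have hconj : ∀ x : ZMod p, x ≠ 0 →
          nn a b (1 : ZMod p) * nn a b x = nn a b x⁻¹ * nn a b (1 : ZMod p) := by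
        intro x hx
        have q1 := nn_x D one_ne_zero x
        have q2 := nn_y D one_ne_zero (-x⁻¹)
        simp only [inv_one, mul_one, neg_neg] at q1 q2
        calc nn a b (1 : ZMod p) * nn a b x
            = (nn a b (1 : ZMod p) * zp a x) * zp b (-x⁻¹) * zp a x := by rw [nn.eq_def a b x]; group
          _ = zp b (-x) * (nn a b (1 : ZMod p) * zp b (-x⁻¹)) * zp a x := by rw [q1]; group
          _ = zp b (-x) * zp a x⁻¹ * (nn a b (1 : ZMod p) * zp a x) := by rw [q2]; group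
          _ = zp b (-x) * zp a x⁻¹ * zp b (-x) * nn a b (1 : ZMod p) := by rw [q1]; group
          _ = nn a b x⁻¹ * nn a b (1 : ZMod p) := by rw [nn_eq' D (inv_ne_zero hx), inv_inv]
      simp only [hh]
      rw [← mul_assoc, hconj _ hm, inv_neg, hr, mul_inv]
      group
    have e' : hh a b u * hh a b (-(r⁻¹ * r⁻¹)) * (nn a b (1 : ZMod p) * nn a b (1 : ZMod p)) * hh a b v = 1 := by
      have hn : ∀ x : ZMod p, nn a b x = hh a b x * nn a b (1 : ZMod p) := fun x => by rw [hh, inv_mul_cancel_right]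
      rw [hn u, hn (-(u * v)), hn v] at e
      calc hh a b u * hh a b (-(r⁻¹ * r⁻¹)) * (nn a b (1 : ZMod p) * nn a b (1 : ZMod p)) * hh a b v
          = hh a b u * (hh a b (-(r⁻¹ * r⁻¹)) * nn a b (1 : ZMod p)) * nn a b (1 : ZMod p) * hh a b v := by group
        _ = (hh a b u * nn a b (1 : ZMod p) * (hh a b (-(u * v)) * nn a b (1 : ZMod p)) *
              (hh a b v * nn a b (1 : ZMod p))) * (nn a b (1 : ZMod p))⁻¹ := by rw [← e1]; group
        _ = 1 := by rw [e, mul_inv_cancel]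
    have hr' : r⁻¹ ≠ 0 := inv_ne_zero hr0
    rw [hh_neg_one_eq D, show -(r⁻¹ * r⁻¹) = r⁻¹ * r⁻¹ * (-1) by ring,
      hh_sq_mul D hr' (neg_ne_zero.mpr one_ne_zero)] at e'
    have e2 : hh a b u * hh a b (r⁻¹ * r⁻¹) * hh a b v = 1 := by
      calc hh a b u * hh a b (r⁻¹ * r⁻¹) * hh a b v
          = hh a b u * (hh a b (r⁻¹ * r⁻¹) * hh a b (-1 : ZMod p)) * (hh a b (-1 : ZMod p))⁻¹ * hh a b v := by group
        _ = 1 := e'
    have e3 : hh a b (r⁻¹ * r⁻¹) * hh a b (r * r) = 1 := by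
      rw [← hh_sq_mul D hr' (mul_ne_zero hr0 hr0), ← hh_one D]
      congr 1
      field_simp
    calc hh a b u * hh a b v = (hh a b u * hh a b (r⁻¹ * r⁻¹) * hh a b v) * hh a b (r * r) := by
          rw [mul_assoc (hh a b u * _), hh_comm D hv0 (mul_ne_zero hr0 hr0), ← mul_assoc (hh a b u * _),
            mul_assoc (hh a b u), e3, mul_one]
      _ = hh a b (u * v) := by rw [e2, one_mul, hr]
  -- any two non-squares differ from `u` and `v` by squares
  have hqs : IsSquare (s / u) := by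
    obtain ⟨c, hc⟩ := nsq s u h1 hu
    exact ⟨c / u, by field_simp; linear_combination hc⟩
  have hqt : IsSquare (t / v) := by
    obtain ⟨c, hc⟩ := nsq t v h2 hv
    exact ⟨c / v, by field_simp; linear_combination hc⟩
  obtain ⟨x, hx⟩ := hqs
  obtain ⟨y, hy⟩ := hqt
  have hx0 : x ≠ 0 := fun e => (div_ne_zero hs hu0) (by rw [hx, e, mul_zero])
  have hy0 : y ≠ 0 := fun e => (div_ne_zero ht hv0) (by rw [hy, e, mul_zero])
  have hse : s = x * x * u := by rw [← hx, div_mul_cancel₀ _ hu0]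
  have hte : t = y * y * v := by rw [← hy, div_mul_cancel₀ _ hv0]
  rw [hse, hte, show x * x * u * (y * y * v) = (x * y) * (x * y) * (u * v) by ring,
    hh_sq_mul D (mul_ne_zero hx0 hy0) (mul_ne_zero hu0 hv0), hh_sq_mul D hx0 hu0, hh_sq_mul D hy0 hv0,
    show (x * y) * (x * y) = (x * x) * (y * y) by ring, hh_sq_mul D hx0 (mul_ne_zero hy0 hy0), ← base,
    mul_assoc, mul_assoc, ← mul_assoc (hh a b (y * y)), hh_comm D (mul_ne_zero hy0 hy0) hu0, mul_assoc]

omit D

/-- The normal form of an element of `SL₂`. -/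
def bruhat (a b : G) (g : SpecialLinearGroup (Fin 2) (ZMod p)) : G :=
  if g.1 1 0 = 0 then zp a (g.1 0 1 * (g.1 1 1)⁻¹) * hh a b (g.1 0 0)
  else zp a (g.1 0 0 * (g.1 1 0)⁻¹) * nn a b (-(g.1 1 0)⁻¹) * zp a (g.1 1 1 * (g.1 1 0)⁻¹)

/-- Upper unitriangular matrices. -/
def xMat (t : ZMod p) : SpecialLinearGroup (Fin 2) (ZMod p) :=
  ⟨!![1, t; 0, 1], by simp [Matrix.det_fin_two_of]⟩

/-- The Weyl element. -/
def wMat : SpecialLinearGroup (Fin 2) (ZMod p) :=
  ⟨!![0, 1; -1, 0], by simp [Matrix.det_fin_two_of]⟩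

/-- The inverse of the Weyl element. -/
def wMat' : SpecialLinearGroup (Fin 2) (ZMod p) :=
  ⟨!![0, -1; 1, 0], by simp [Matrix.det_fin_two_of]⟩

theorem xMat_coe (t : ZMod p) : (xMat t : Matrix (Fin 2) (Fin 2) (ZMod p)) = !![1, t; 0, 1] := rfl

theorem wMat_coe : ((wMat : SpecialLinearGroup (Fin 2) (ZMod p)) : Matrix (Fin 2) (Fin 2) (ZMod p)) = !![0, 1; -1, 0] := rfl

theorem wMat'_coe : ((wMat' : SpecialLinearGroup (Fin 2) (ZMod p)) : Matrix (Fin 2) (Fin 2) (ZMod p)) = !![0, -1; 1, 0] := rfl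

theorem det_eq (g : SpecialLinearGroup (Fin 2) (ZMod p)) :
    g.1 0 0 * g.1 1 1 - g.1 0 1 * g.1 1 0 = 1 := by
  have := g.2
  rwa [Matrix.det_fin_two] at this

include D

theorem bruhat_x (g : SpecialLinearGroup (Fin 2) (ZMod p)) (t : ZMod p) :
    bruhat a b (g * xMat t) = bruhat a b g * zp a t := by
  have hd := det_eq g
  have e : ((g * xMat t : SpecialLinearGroup (Fin 2) (ZMod p)) : Matrix (Fin 2) (Fin 2) (ZMod p)) =
      !![g.1 0 0, g.1 0 0 * t + g.1 0 1; g.1 1 0, g.1 1 0 * t + g.1 1 1] := by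
    ext i j
    fin_cases i <;> fin_cases j <;> simp [xMat_coe, Matrix.SpecialLinearGroup.coe_mul, Matrix.mul_apply, Fin.sum_univ_two]
  simp only [bruhat, e, Matrix.cons_val_zero, Matrix.cons_val_one, Matrix.of_apply, Matrix.cons_val', Matrix.empty_val', Matrix.cons_val_fin_one]
  by_cases hc : g.1 1 0 = 0
  · rw [if_pos hc, if_pos hc]
    rw [hc, mul_zero, sub_zero] at hd
    have h0 : g.1 0 0 ≠ 0 := left_ne_zero_of_mul (hd.symm ▸ one_ne_zero)
    have h1 : g.1 1 1 = (g.1 0 0)⁻¹ := eq_inv_of_mul_eq_one_right hd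
    rw [mul_assoc, hh_conj_x D h0, ← mul_assoc, ← zp_add a D.hap]
    congr 2
    rw [hc, h1, zero_mul, zero_add, inv_inv]
    ring
  · rw [if_neg hc, if_neg hc, mul_assoc (zp a _ * nn a b _), ← zp_add a D.hap]
    congr 2
    field_simp
    ring

theorem bruhat_w (g : SpecialLinearGroup (Fin 2) (ZMod p)) :
    bruhat a b (g * wMat) = bruhat a b g * nn a b (1 : ZMod p) := by
  have hd := det_eq g
  have e : ((g * wMat : SpecialLinearGroup (Fin 2) (ZMod p)) : Matrix (Fin 2) (Fin 2) (ZMod p)) =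
      !![-g.1 0 1, g.1 0 0; -g.1 1 1, g.1 1 0] := by
    ext i j
    fin_cases i <;> fin_cases j <;> simp [wMat_coe, Matrix.SpecialLinearGroup.coe_mul, Matrix.mul_apply, Fin.sum_univ_two]
  have hn : ∀ x : ZMod p, nn a b x = hh a b x * nn a b (1 : ZMod p) := fun x => by rw [hh, inv_mul_cancel_right]
  simp only [bruhat, e, Matrix.cons_val_zero, Matrix.cons_val_one, Matrix.of_apply, Matrix.cons_val', Matrix.empty_val', Matrix.cons_val_fin_one]
  by_cases hc : g.1 1 0 = 0
  · rw [hc, mul_zero, sub_zero] at hd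
    have h0 : g.1 0 0 ≠ 0 := left_ne_zero_of_mul (hd.symm ▸ one_ne_zero)
    have h1 : g.1 1 1 = (g.1 0 0)⁻¹ := eq_inv_of_mul_eq_one_right hd
    rw [if_pos hc, if_neg (by rw [neg_eq_zero, h1]; exact inv_ne_zero h0), h1, hc, zero_mul, zp_zero,
      mul_one, mul_assoc, ← hn]
    simp [inv_neg, inv_inv]
  · rw [if_neg hc]
    by_cases hd0 : g.1 1 1 = 0
    · rw [if_pos (by rw [hd0, neg_zero])]
      rw [hd0, mul_zero, zero_sub] at hd
      have hb : -g.1 0 1 = (g.1 1 0)⁻¹ := eq_inv_of_mul_eq_one_left (by rw [neg_mul]; exact hd)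
      rw [hd0, zero_mul, zp_zero, mul_one, hb, mul_assoc]
      congr 1
      rw [hn (-(g.1 1 0)⁻¹), mul_assoc, hh_neg_one_eq D,
        show -(g.1 1 0)⁻¹ = (g.1 1 0)⁻¹ * (-1) by ring,
        hh_mul D (inv_ne_zero hc) (neg_ne_zero.mpr one_ne_zero), mul_inv_cancel_right]
    · rw [if_neg (by rwa [neg_eq_zero])]
      set c := g.1 1 0
      set d := g.1 1 1
      set q := d * c⁻¹ with hq
      have hq0 : q ≠ 0 := mul_ne_zero hd0 (inv_ne_zero hc)
      -- `x(q) n₁ = n₁ x(-1/q) n(1/q) x(-1/q)`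
      have e1 : zp a q * nn a b (1 : ZMod p) = nn a b (1 : ZMod p) * zp b (-q) := by
        rw [nn_y D one_ne_zero]
        congr 2
        ring
      have e2 : zp b (-q) = zp a (-q⁻¹) * nn a b q⁻¹ * zp a (-q⁻¹) := by
        rw [nn, inv_inv, zp_neg a D.hap]; group
      have hm : -(1 : ZMod p) * c⁻¹ ≠ 0 := mul_ne_zero (neg_ne_zero.mpr one_ne_zero) (inv_ne_zero hc)
      have e3 : nn a b (-c⁻¹) * nn a b (1 : ZMod p) = hh a b c⁻¹ := by
        rw [hn (-c⁻¹), mul_assoc, hh_neg_one_eq D, show -c⁻¹ = c⁻¹ * (-1) by ring,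
          hh_mul D (inv_ne_zero hc) (neg_ne_zero.mpr one_ne_zero), mul_inv_cancel_right]
      have e4 : hh a b c⁻¹ * zp a (-q⁻¹) = zp a (-q⁻¹ * (c⁻¹ * c⁻¹)) * hh a b c⁻¹ := hh_conj_x D (inv_ne_zero hc) _
      have e5 : hh a b c⁻¹ * nn a b q⁻¹ = nn a b d⁻¹ := by
        rw [hn q⁻¹, ← mul_assoc, ← hh_mul D (inv_ne_zero hc) (inv_ne_zero hq0), ← hn]
        congr 1
        rw [hq]; field_simp
      have key : zp a (g.1 0 0 * c⁻¹) * nn a b (-c⁻¹) * zp a q * nn a b (1 : ZMod p) =
          zp a (g.1 0 0 * c⁻¹ + -q⁻¹ * (c⁻¹ * c⁻¹)) * nn a b d⁻¹ * zp a (-q⁻¹) := by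
        rw [mul_assoc (zp a (g.1 0 0 * c⁻¹) * nn a b (-c⁻¹)), e1, e2]
        calc zp a (g.1 0 0 * c⁻¹) * nn a b (-c⁻¹) * (nn a b (1 : ZMod p) * (zp a (-q⁻¹) * nn a b q⁻¹ * zp a (-q⁻¹)))
            = zp a (g.1 0 0 * c⁻¹) * ((nn a b (-c⁻¹) * nn a b (1 : ZMod p)) * zp a (-q⁻¹)) * nn a b q⁻¹ * zp a (-q⁻¹) := by group
          _ = zp a (g.1 0 0 * c⁻¹) * zp a (-q⁻¹ * (c⁻¹ * c⁻¹)) * (hh a b c⁻¹ * nn a b q⁻¹) * zp a (-q⁻¹) := by
              rw [e3, e4]; group
          _ = _ := by rw [e5, ← zp_add a D.hap]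
      have f1 : g.1 0 0 * c⁻¹ + -q⁻¹ * (c⁻¹ * c⁻¹) = -g.1 0 1 * (-d)⁻¹ := by
        rw [hq]
        field_simp
        linear_combination hd
      have f2 : -q⁻¹ = c * (-d)⁻¹ := by
        rw [hq]
        field_simp
      have f3 : -(-d)⁻¹ = d⁻¹ := by rw [inv_neg, neg_neg]
      rw [key, f1, f2, f3]

omit D

theorem xMat_inv (t : ZMod p) : (xMat t)⁻¹ = xMat (-t) := by
  rw [inv_eq_iff_mul_eq_one]
  ext i j
  fin_cases i <;> fin_cases j <;> simp [xMat_coe, Matrix.SpecialLinearGroup.coe_mul, Matrix.mul_apply, Fin.sum_univ_two]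

theorem mem_gen (g : SpecialLinearGroup (Fin 2) (ZMod p)) :
    g ∈ Subgroup.closure (Set.range (xMat (p := p)) ∪ {wMat}) := by
  set K := Subgroup.closure (Set.range (xMat (p := p)) ∪ {wMat})
  have hx : ∀ t : ZMod p, xMat t ∈ K := fun t => Subgroup.subset_closure (Or.inl ⟨t, rfl⟩)
  have hw : (wMat : SpecialLinearGroup (Fin 2) (ZMod p)) ∈ K := Subgroup.subset_closure (Or.inr rfl)
  have gen : ∀ g : SpecialLinearGroup (Fin 2) (ZMod p), g.1 1 0 ≠ 0 → g ∈ K := by
    intro g hc
    have hd := det_eq g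
    -- `x(a/c) w x(r) w x(s) w x(t)` with `c = r s - 1`
    set c := g.1 1 0 with hcdef
    have e : g = xMat ((g.1 0 0 - 1) * c⁻¹) * (wMat * xMat (-c) * wMat⁻¹) * xMat ((g.1 1 1 - 1) * c⁻¹) := by
      have hwi : (wMat : SpecialLinearGroup (Fin 2) (ZMod p))⁻¹ = wMat' := by
        rw [inv_eq_iff_mul_eq_one]
        ext i j
        fin_cases i <;> fin_cases j <;> simp [wMat_coe, wMat'_coe, Matrix.SpecialLinearGroup.coe_mul, Matrix.mul_apply, Fin.sum_univ_two]
      rw [hwi]
      ext i j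
      fin_cases i <;> fin_cases j <;>
        simp [xMat_coe, wMat_coe, wMat'_coe, Matrix.SpecialLinearGroup.coe_mul, Matrix.mul_apply, Fin.sum_univ_two] <;> (try field_simp) <;>
        first | linear_combination hd | linear_combination -hd | ring
    rw [e]
    exact mul_mem (mul_mem (hx _) (mul_mem (mul_mem hw (hx _)) (inv_mem hw))) (hx _)
  by_cases hc : g.1 1 0 = 0
  · have hd := det_eq g
    rw [hc, mul_zero, sub_zero] at hd
    have h2 : (g * wMat).1 1 0 ≠ 0 := by
      have h3 : (g * wMat).1 1 0 = -g.1 1 1 := by simp [wMat_coe, Matrix.SpecialLinearGroup.coe_mul, Matrix.mul_apply, Fin.sum_univ_two]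
      rw [h3, neg_ne_zero]
      exact right_ne_zero_of_mul (hd.symm ▸ one_ne_zero)
    have := mul_mem (gen _ h2) (inv_mem hw)
    rwa [mul_inv_cancel_right] at this
  · exact gen g hc

include D

theorem bruhat_one : bruhat a b (1 : SpecialLinearGroup (Fin 2) (ZMod p)) = 1 := by
  simp [bruhat, zp_zero (p := p), hh_one D]

theorem bruhat_mul (g h : SpecialLinearGroup (Fin 2) (ZMod p)) :
    bruhat a b (g * h) = bruhat a b g * bruhat a b h := by
  have key : ∀ h : SpecialLinearGroup (Fin 2) (ZMod p), ∀ g, bruhat a b (g * h) = bruhat a b g * bruhat a b h := by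
    intro h
    induction (mem_gen h) using Subgroup.closure_induction'' with
    | mem y hy =>
      intro g
      rcases hy with ⟨t, rfl⟩ | hy
      · rw [bruhat_x D, show bruhat a b (xMat t) = zp a t by
          have := bruhat_x D 1 t; rwa [one_mul, bruhat_one D, one_mul] at this]
      · rw [Set.mem_singleton_iff.mp hy, bruhat_w D, show bruhat a b (wMat : SpecialLinearGroup (Fin 2) (ZMod p)) = nn a b (1 : ZMod p) by
          have := bruhat_w D 1; rwa [one_mul, bruhat_one D, one_mul] at this]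
    | inv_mem y hy =>
      intro g
      rcases hy with ⟨t, rfl⟩ | hy
      · rw [xMat_inv, bruhat_x D, show bruhat a b (xMat (-t)) = zp a (-t) by
          have := bruhat_x D 1 (-t); rwa [one_mul, bruhat_one D, one_mul] at this]
      · rw [Set.mem_singleton_iff.mp hy]
        have h1 := bruhat_w D (g * wMat⁻¹)
        have h2 := bruhat_w D (wMat⁻¹ : SpecialLinearGroup (Fin 2) (ZMod p))
        rw [inv_mul_cancel_right] at h1
        rw [inv_mul_cancel, bruhat_one D] at h2
        rw [eq_inv_of_mul_eq_one_left h2.symm, h1, mul_inv_cancel_right]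
    | one => intro g; rw [mul_one, bruhat_one D, mul_one]
    | mul x y _ _ hx hy => intro g; rw [← mul_assoc, hy, hx, hy, mul_assoc]
  exact key h g

omit D in
theorem cj_B_mem (h : IsRankOnePair A B) {x : G} (hx : x ∈ A) (hx1 : x ≠ 1) : conjBy B x ≠ B :=
  fun e => hx1 (eq_one_of_normalizes h hx (cj_eq_self.mp e))

/-- The generated subgroup is `SL₂(p)` or `PSL₂(p)`. -/
theorem closure_equiv :
    Nonempty (↥(Subgroup.closure ({a, b} : Set G)) ≃* SpecialLinearGroup (Fin 2) (ZMod p)) ∨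
    Nonempty (↥(Subgroup.closure ({a, b} : Set G)) ≃* ProjectiveSpecialLinearGroup (Fin 2) (ZMod p)) := by
  let φ : SpecialLinearGroup (Fin 2) (ZMod p) →* G :=
    { toFun := bruhat a b, map_one' := bruhat_one D, map_mul' := bruhat_mul D }
  have hx : ∀ t, φ (xMat t) = zp a t := fun t => by
    show bruhat a b (xMat t) = _
    have := bruhat_x D 1 t; rwa [one_mul, bruhat_one D, one_mul] at this
  have hxA : ∀ t : ZMod p, zp a t ∈ A := fun t => pow_mem D.par.1 _
  have hrange : φ.range = Subgroup.closure ({a, b} : Set G) := by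
    apply le_antisymm
    · rintro _ ⟨g, rfl⟩
      show bruhat a b g ∈ _
      have hzx : ∀ s : ZMod p, zp a s ∈ Subgroup.closure ({a, b} : Set G) := fun s =>
        pow_mem (Subgroup.subset_closure (show a ∈ ({a, b} : Set G) from Or.inl rfl)) _
      rw [bruhat]
      split
      · exact mul_mem (hzx _) (hh_mem D)
      · exact mul_mem (mul_mem (hzx _) (mul_mem (mul_mem (hzx _)
          (pow_mem (Subgroup.subset_closure (show b ∈ ({a, b} : Set G) from Or.inr rfl)) _)) (hzx _))) (hzx _)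
    · rw [Subgroup.closure_le]
      intro x hxs
      rcases hxs with hxa | hxb
      · rw [hxa]; exact ⟨xMat 1, by rw [hx, zp_one]⟩
      · rw [Set.mem_singleton_iff.mp hxb]
        refine ⟨wMat * xMat (-1) * wMat⁻¹, ?_⟩
        have hw : φ wMat = nn a b (1 : ZMod p) := by
          show bruhat a b wMat = _
          have := bruhat_w D 1; rwa [one_mul, bruhat_one D, one_mul] at this
        rw [map_mul, map_mul, map_inv, hw, hx, nn_conj_x D one_ne_zero]
        norm_num [zp_one]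
  have hker : φ.ker ≤ Subgroup.center (SpecialLinearGroup (Fin 2) (ZMod p)) := by
    intro g hg
    have hg1 : bruhat a b g = 1 := hg
    have hfixA : conjBy A (1 : G) = A := cj_one A
    have hnA : ∀ t : ZMod p, t ≠ 0 → conjBy A (nn a b t) = B := fun t ht => by
      have := (par_flip D.special (par_zp D ht)).2.2.2.1
      rwa [← zp_neg b D.hbp] at this
    have hnB : ∀ t : ZMod p, t ≠ 0 → conjBy B (nn a b t) = A := fun t ht => by
      have := (par_flip D.special (par_zp D ht)).2.2.2.2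
      rwa [← zp_neg b D.hbp] at this
    rw [bruhat] at hg1
    by_cases hc : g.1 1 0 = 0
    · rw [if_pos hc] at hg1
      have hd := det_eq g
      rw [hc, mul_zero, sub_zero] at hd
      have h0 : g.1 0 0 ≠ 0 := left_ne_zero_of_mul (hd.symm ▸ one_ne_zero)
      have h1 : g.1 1 1 = (g.1 0 0)⁻¹ := eq_inv_of_mul_eq_one_right hd
      have hhB : conjBy B (hh a b (g.1 0 0)) = B := by
        rw [hh, ← cj_cj, nn_inv D, hnB _ (neg_ne_zero.mpr one_ne_zero), hnA _ h0]
      have hb : g.1 0 1 * (g.1 1 1)⁻¹ = 0 := by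
        by_contra hne
        apply cj_B_mem D.special.1.1 (hxA _) (zp_ne_one D hne)
        conv_lhs => rw [← hhB]
        rw [cj_cj, hg1, cj_one]
      have h01 : g.1 0 1 = 0 := by
        rcases mul_eq_zero.mp hb with h | h
        · exact h
        · exact absurd h (inv_ne_zero (h1.symm ▸ inv_ne_zero h0))
      rw [hb, zp_zero, one_mul] at hg1
      have h2 := hh_conj_x D h0 1
      rw [hg1, one_mul, mul_one, one_mul] at h2
      have hsq : g.1 0 0 * g.1 0 0 = 1 := by
        by_contra hne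
        have h3 : zp a (g.1 0 0 * g.1 0 0 - 1) = 1 := by
          rw [sub_eq_add_neg, zp_add a D.hap, zp_neg a D.hap, ← h2, mul_inv_cancel]
        exact zp_ne_one D (sub_ne_zero.mpr hne) h3
      have h11 : g.1 1 1 = g.1 0 0 := by rw [h1]; exact (eq_inv_of_mul_eq_one_left hsq).symm
      rw [Matrix.SpecialLinearGroup.mem_center_iff]
      refine ⟨g.1 0 0, by rw [Fintype.card_fin, pow_two]; exact hsq, ?_⟩
      ext i j
      fin_cases i <;> fin_cases j <;> simp [Matrix.scalar, hc, h01, h11]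
    · exfalso
      rw [if_neg hc] at hg1
      have h2 := congrArg (fun x => conjBy A x) hg1
      simp only [cj_one] at h2
      rw [← cj_cj, cj_of_mem (hxA _), ← cj_cj, hnA _ (neg_ne_zero.mpr (inv_ne_zero hc))] at h2
      exact cjB_ne D.special.1.1 (hxA _) h2
  rw [← hrange]
  by_cases hbot : φ.ker = ⊥
  · exact Or.inl ⟨(MonoidHom.ofInjective ((MonoidHom.ker_eq_bot_iff φ).mp hbot)).symm⟩
  · right
    have heq : φ.ker = Subgroup.center (SpecialLinearGroup (Fin 2) (ZMod p)) := by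
      refine le_antisymm hker fun z hz => ?_
      obtain ⟨k, hk, hk1⟩ := (Subgroup.bot_or_exists_ne_one φ.ker).resolve_left hbot
      have sq : ∀ y ∈ Subgroup.center (SpecialLinearGroup (Fin 2) (ZMod p)), y ≠ 1 →
          (y : Matrix (Fin 2) (Fin 2) (ZMod p)) = Matrix.scalar (Fin 2) (-1) := by
        intro y hy hy1
        obtain ⟨r, hr, he⟩ := Matrix.SpecialLinearGroup.mem_center_iff.mp hy
        rw [Fintype.card_fin, sq_eq_one_iff] at hr
        rcases hr with rfl | rfl
        · exact absurd (Subtype.ext (by rw [← he, map_one]; rfl)) hy1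
        · exact he.symm
      by_cases hz1 : z = 1
      · exact hz1 ▸ one_mem _
      · rwa [show z = k from Subtype.ext ((sq z hz hz1).trans (sq k (hker hk) hk1).symm)]
    exact ⟨((QuotientGroup.quotientMulEquivOfEq heq.symm).trans (QuotientGroup.quotientKerEquivRange φ)).symm⟩

end CfsgLib.RootSub
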