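import Cfsg.Agent.Lib.RootSub.Invol

/-!
Root involutions: elements moving a point of a line while fixing another, and members with the same odd partners.
-/

set_option autoImplicit false
set_option linter.style.haveILetI false

open Cfsg

namespace CfsgLib.RootSub.Invol

variable {G : Type*} [Group G] {D : Set G}

/-- Two commuting members whose product is a member. -/
def Line (D : Set G) (a e : G) : Prop := a ∈ D ∧ e ∈ D ∧ e * a = a * e ∧ e * a ∈ D

theorem Line.symm {a e : G} (h : Line D a e) : Line D e a := ⟨h.2.1, h.1, h.2.2.1.symm, h.2.2.1 ▸ h.2.2.2⟩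

theorem Line.third (hD : IsRootInvolutionSet D) {a e : G} (h : Line D a e) : Line D (e * a) e := by
  obtain ⟨ha, he, hc, hp⟩ := h
  have e1 : e * (e * a) = a := by rw [← mul_assoc, mul_self hD he, one_mul]
  refine ⟨hp, he, ?_, e1.symm ▸ ha⟩
  rw [e1, hc, mul_assoc, mul_self hD he, mul_one]

/-- The odd partners of a member. -/
def odds (D : Set G) (u : G) : Set G := {x | OddAdj D u x}

theorem odd_ne_comm (hD : IsRootInvolutionSet D) {u x : G} (h : OddAdj D u x) : u * x ≠ x * u :=
  fun hc => h.2.2.1 (odd_comm hD h.1 h.2.1 hc h.2.2.2)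

theorem not_odd_four {u x : G} (h : OddAdj D u x) : orderOf (u * x) ≠ 4 := fun h4 => by
  have := h.2.2.2
  rw [h4] at this
  revert this
  decide

/-- The centre of a pair with product of order `4`. -/
theorem four_center (hD : IsRootInvolutionSet D) {a b : G} (ha : a ∈ D) (hb : b ∈ D) (h4 : orderOf (a * b) = 4) :
    Line D a ((a * b) ^ 2) ∧ Line D b ((a * b) ^ 2) ∧ a * b * a = b * (a * b) ^ 2 ∧
      b * a * b = a * (a * b) ^ 2 := by
  have hai := inv_eq hD ha
  have hbi := inv_eq hD hb
  have hs : (a * b) ^ 2 ∈ D := by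
    rcases hD.pair a ha b hb with h | h | ⟨-, h⟩
    · exfalso
      have h2 : (a * b) ^ 2 = 1 := by
        rw [(show Commute a b from h).mul_pow, pow_two, pow_two, mul_self hD ha, mul_self hD hb, one_mul]
      have := orderOf_dvd_of_pow_eq_one h2
      rw [h4] at this
      norm_num at this
    · exfalso
      rw [h4] at h
      revert h
      decide
    · exact h
  have hsi : (b * a) ^ 2 = (a * b) ^ 2 := by
    rw [← inv_eq hD hs, ← inv_pow, mul_inv_rev, hai, hbi]
  have e1 : a * b * a = b * (a * b) ^ 2 := by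
    rw [← hsi, pow_two, show b * (b * a * (b * a)) = (b * b) * (a * b * a) by group, mul_self hD hb, one_mul]
  have e2 : b * a * b = a * (a * b) ^ 2 := by
    rw [pow_two, show a * (a * b * (a * b)) = (a * a) * (b * a * b) by group, mul_self hD ha, one_mul]
  have c1 : (a * b) ^ 2 * a = a * (a * b) ^ 2 := by
    rw [← e2, pow_two, show a * b * (a * b) * a = a * b * a * b * a by group]
    have := congrArg (fun z => a * z) hsi
    simp only [pow_two] at this
    rw [show a * b * a * b * a = a * (b * a * (b * a)) by group, this, ← mul_assoc, ← mul_assoc, ← mul_assoc,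
      mul_self hD ha, one_mul]
  have c2 : (a * b) ^ 2 * b = b * (a * b) ^ 2 := by
    rw [← e1, pow_two, show a * b * (a * b) * b = a * b * a * (b * b) by group, mul_self hD hb, mul_one]
  refine ⟨⟨ha, hs, c1, ?_⟩, ⟨hb, hs, c2, ?_⟩, e1, e2⟩
  · rw [c1, ← e2]
    have := hD.conj_mem a ha b
    rwa [hbi] at this
  · rw [c2, ← e1]
    have := hD.conj_mem b hb a
    rwa [hai] at this

/-- A partner of one point of a line that is not opposite to a second one. -/
theorem center_line (hD : IsRootInvolutionSet D) {x c b : G} (hcx : OddAdj D c x) (hl : Line D c b)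
    (hn : ¬ OddAdj D b x) : orderOf (x * b) = 4 ∧ orderOf (c * (x * b) ^ 2) = 4 := by
  have hx := hcx.2.1
  obtain ⟨hc, hb, hbc, hp⟩ := hl
  have hxc := oddAdj_symm hD hcx
  have hncomm : x * b ≠ b * x := fun h => hxc.2.2.1 (by
    have h1 := no_odd hD hb hx hbc (hbc ▸ hp) h hxc.2.2.2
    calc x = x * c * c := by rw [mul_assoc, mul_self hD hc, mul_one]
      _ = c := by rw [h1, one_mul])
  have h4 : orderOf (x * b) = 4 := by
    rcases hD.pair x hx b hb with h | h | ⟨h, -⟩
    · exact absurd h hncomm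
    · exact absurd (oddAdj_symm hD ⟨hx, hb, fun e => hncomm (by rw [e]), h⟩) hn
    · exact h
  refine ⟨h4, ?_⟩
  obtain ⟨⟨-, hy, hyx, hyxD⟩, ⟨-, -, hyb, hybD⟩, -, -⟩ := four_center hD hx hb h4
  set y := (x * b) ^ 2
  rcases hD.pair c hc y hy with h | h | ⟨h, -⟩
  · exfalso
    have h1 := no_odd hD hy hc hyx (hyx ▸ hyxD) h hcx.2.2.2
    exact hcx.2.2.1 (by
      calc c = c * x * x := by rw [mul_assoc, mul_self hD hx, mul_one]
        _ = x := by rw [h1, one_mul])
  · exfalso
    have h1 := no_odd hD hb hc hyb.symm hybD hbc.symm h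
    have hcy : c = y := by
      calc c = c * y * y := by rw [mul_assoc, mul_self hD hy, mul_one]
        _ = y := by rw [h1, one_mul]
    exact odd_ne_comm hD hcx (hcy ▸ hyx)
  · exact h

/-- Distinct points have distinct centres with an opposite of their common partner. -/
theorem center_inj (hD : IsRootInvolutionSet D) {x c b₁ b₂ : G} (hcx : OddAdj D c x) (h₁ : Line D c b₁)
    (h₂ : Line D c b₂) (n₁ : ¬ OddAdj D b₁ x) (n₂ : ¬ OddAdj D b₂ x) (he : (x * b₁) ^ 2 = (x * b₂) ^ 2) :
    b₁ = b₂ := by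
  have hx := hcx.2.1
  have i1 := inv_eq hD h₁.2.1
  have i2 := inv_eq hD h₂.2.1
  have hconj : b₁ * x * b₁ = b₂ * x * b₂ := by
    rw [(four_center hD hx h₁.2.1 (center_line hD hcx h₁ n₁).1).2.2.2,
      (four_center hD hx h₂.2.1 (center_line hD hcx h₂ n₂).1).2.2.2, he]
  set k := b₁ * b₂ with hk
  have hkx : k * x = x * k := by
    have h := congrArg (fun z => b₁ * z * b₂) hconj
    simp only [← mul_assoc] at h
    rw [mul_self hD h₁.2.1, one_mul, mul_assoc (b₁ * b₂ * x), mul_self hD h₂.2.1, mul_one] at h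
    rw [hk, ← h, mul_assoc]
  have hkc : k * c = c * k := by
    rw [hk, mul_assoc, h₂.2.2.1, ← mul_assoc, h₁.2.2.1, mul_assoc]
  have hbk : b₁ * k * b₁ = k⁻¹ := by
    rw [hk, mul_inv_rev, i1, i2, ← mul_assoc, mul_self hD h₁.2.1, one_mul]
  have hodd : ∀ b : G, Line D c b → ¬ OddAdj D b x → Odd (orderOf (x * (b * c))) := fun b hl hn =>
    (oddAdj_symm hD ((line hD hl.1 hl.2.1 hl.2.2.1 hl.2.2.2 hcx).resolve_left hn)).2.2.2
  set p := x * (b₁ * c) with hp
  have hp1 : Odd (orderOf p) := hodd b₁ h₁ n₁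
  have hp2 : x * (b₂ * c) = p * k := by
    rw [hp, show x * (b₁ * c) * k = x * b₁ * (c * k) by group, ← hkc, hk,
      show x * b₁ * (b₁ * b₂ * c) = x * (b₁ * b₁) * (b₂ * c) by group, mul_self hD h₁.2.1, mul_one]
  have hinv : p⁻¹ * k * p = k⁻¹ := by
    have hxi := inv_eq hD hx
    have hci := inv_eq hD h₁.1
    calc p⁻¹ * k * p = c * b₁ * (x * (k * x)) * b₁ * c := by
          rw [hp, mul_inv_rev, mul_inv_rev, hci, i1, hxi]; group
      _ = c * (b₁ * k * b₁) * c := by rw [hkx, ← mul_assoc x, mul_self hD hx, one_mul]; group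
      _ = (c * k * c)⁻¹ := by rw [hbk, show (c * k * c)⁻¹ = c⁻¹ * k⁻¹ * c⁻¹ by group, hci]
      _ = k⁻¹ := by rw [← hkc, mul_assoc, mul_self hD h₁.1, mul_one]
  have hsq : (p * k) ^ 2 = p ^ 2 := by
    calc (p * k) ^ 2 = p * p * (p⁻¹ * k * p) * k := by rw [pow_two]; group
      _ = p ^ 2 := by rw [hinv, pow_two]; group
  obtain ⟨m, hm⟩ := exists_pow_eq_self_of_coprime (x := p * k) (n := 2)
    (Nat.coprime_two_left.mpr (hp2 ▸ hodd b₂ h₂ n₂))
  rw [hsq] at hm
  have hkp : k = p⁻¹ * (p ^ 2) ^ m := by rw [hm, inv_mul_cancel_left]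
  have hmem : k ∈ Subgroup.zpowers p := hkp ▸ mul_mem (inv_mem (Subgroup.mem_zpowers p))
    (pow_mem (pow_mem (Subgroup.mem_zpowers p) 2) m)
  obtain ⟨j, hj⟩ := hmem
  have hcomm : p⁻¹ * k * p = k := by
    rw [← hj]
    show p⁻¹ * p ^ j * p = p ^ j
    group
  rw [hinv] at hcomm
  have hk2 : k * k = 1 := by
    calc k * k = k⁻¹ * k := by rw [hcomm]
      _ = 1 := inv_mul_cancel k
  have hk1 : k = 1 := by
    refine CfsgLib.Invol.eq_one_of_odd_of_sq ?_ hk2
    rw [← hj]
    exact CfsgLib.Invol.odd_orderOf_of_dvd hp1 (orderOf_dvd_of_mem_zpowers ⟨j, rfl⟩)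
  calc b₁ = b₁ * b₂ * b₂ := by rw [mul_assoc, mul_self hD h₂.2.1, mul_one]
    _ = b₂ := by rw [← hk, hk1, one_mul]

/-- If an opposite of `c` is not opposite to `b`, some member fixes `b` and moves `c` on the line. -/
theorem exists_mover [Finite G] (hD : IsRootInvolutionSet D) {x c b : G} (hcx : OddAdj D c x)
    (hl : Line D c b) (hn : ¬ OddAdj D b x) : ∃ e ∈ D, e * b = b * e ∧ e * c * e = c * b := by
  classical
  set W : Set G := {b' | Line D c b' ∧ ¬ OddAdj D b' x} with hW
  have hxc := oddAdj_symm hD hcx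
  have hY : ∀ b' ∈ W, Line D x ((x * b') ^ 2) ∧ ¬ OddAdj D ((x * b') ^ 2) c := fun b' hb' =>
    ⟨(four_center hD hcx.2.1 hb'.1.2.1 (center_line hD hcx hb'.1 hb'.2).1).1, fun h =>
      not_odd_four (oddAdj_symm hD h) (center_line hD hcx hb'.1 hb'.2).2⟩
  have hback : ∀ b' ∈ W, (c * (x * b') ^ 2) ^ 2 ∈ W := fun b' hb' => by
    obtain ⟨h1, h2⟩ := hY b' hb'
    exact ⟨(four_center hD hcx.1 h1.2.1 (center_line hD hxc h1 h2).1).1, fun h =>
      not_odd_four (oddAdj_symm hD h) (center_line hD hxc h1 h2).2⟩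
  let F : W → W := fun b' => ⟨_, hback b'.1 b'.2⟩
  have hF : Function.Injective F := fun b₁ b₂ h => by
    have h' := congrArg Subtype.val h
    exact Subtype.ext (center_inj hD hcx b₁.2.1 b₂.2.1 b₁.2.2 b₂.2.2
      (center_inj hD hxc (hY _ b₁.2).1 (hY _ b₂.2).1 (hY _ b₁.2).2 (hY _ b₂.2).2 h'))
  obtain ⟨b', hb'⟩ := Finite.surjective_of_injective hF ⟨b, hl, hn⟩
  have hb'' : (c * (x * (b' : G)) ^ 2) ^ 2 = b := congrArg Subtype.val hb'
  obtain ⟨h1, h2⟩ := hY _ b'.2
  obtain ⟨-, hl2, -, he⟩ := four_center hD hcx.1 h1.2.1 (center_line hD hxc h1 h2).1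
  rw [hb''] at he hl2
  exact ⟨_, h1.2.1, hl2.2.2.1.symm, he⟩

/-- A member moving the centre of a pair is opposite to one of the pair. -/
theorem odd_of_mover (hD : IsRootInvolutionSet D) {a b e : G} (ha : a ∈ D) (hb : b ∈ D) (he : e ∈ D)
    (h4 : orderOf (a * b) = 4) (heb : e * b = b * e)
    (hec : e * (a * b) ^ 2 * e = (a * b) ^ 2 * b) : OddAdj D a e := by
  obtain ⟨⟨-, hcD, -, -⟩, ⟨-, -, hcb, -⟩, e1, -⟩ := four_center hD ha hb h4
  set c := (a * b) ^ 2 with hc
  have hb1 : b ≠ 1 := fun h => by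
    have := hD.orderOf_eq b hb
    rw [h, orderOf_one] at this
    omega
  have heb' : e * b * e = b := by rw [heb, mul_assoc, mul_self hD he, mul_one]
  have hbc : e * (b * c) * e = c := by
    calc e * (b * c) * e = (e * b * e) * (e * c * e) := by
          rw [show e * b * e * (e * c * e) = e * b * (e * e) * c * e by group, mul_self hD he, mul_one]
          group
      _ = b * (c * b) := by rw [heb', hec]
      _ = c := by rw [hcb, ← mul_assoc, mul_self hD hb, one_mul]
  have hbc' : b * c ≠ c := fun h => hb1 (mul_eq_right.mp h)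
  rcases hD.pair a ha e he with h | h | ⟨h, -⟩
  · exfalso
    refine hbc' ?_
    calc b * c = a * b * a := e1.symm
      _ = (e * e) * (a * b * a) := by rw [mul_self hD he, one_mul]
      _ = e * (e * a) * (b * a) := by group
      _ = e * (a * (e * b)) * a := by rw [← h]; group
      _ = e * (a * b) * (e * a) := by rw [heb]; group
      _ = e * (a * b * a) * e := by rw [← h]; group
      _ = c := by rw [e1, hbc]
  · exact ⟨ha, he, fun e' => by
      subst e'
      have h2 : (a * b) ^ 2 = 1 := by
        rw [(show Commute a b from heb).mul_pow, pow_two, pow_two, mul_self hD ha, mul_self hD hb, one_mul]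
      have := orderOf_dvd_of_pow_eq_one h2
      rw [h4] at this
      norm_num at this, h⟩
  · exfalso
    obtain ⟨⟨-, hwD, hwa, -⟩, -, -, e4⟩ := four_center hD ha he h
    set w := (a * e) ^ 2
    have key : w * (b * c) * w = c := by
      calc w * (b * c) * w = w * a * b * (a * w) := by rw [← e1]; group
        _ = (a * w) * b * (a * w) := by rw [hwa]
        _ = (e * a * e) * b * (e * a * e) := by rw [e4]
        _ = e * a * (e * b * e) * a * e := by group
        _ = c := by rw [heb', ← hbc, ← e1]; group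
    have key2 : w * c * w = b * c := by
      conv_lhs => rw [← key]
      rw [show w * (w * (b * c) * w) * w = w * w * (b * c) * (w * w) by group, mul_self hD hwD, one_mul, mul_one]
    have hwb : w * b * w = b := by
      calc w * b * w = (w * (b * c) * w) * (w * c * w) := by
            rw [show w * (b * c) * w * (w * c * w) = w * (b * c) * (w * w) * c * w by group, mul_self hD hwD,
              mul_one, show w * (b * c) * c * w = w * b * (c * c) * w by group, mul_self hD hcD, mul_one]
        _ = c * (b * c) := by rw [key, key2]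
        _ = b := by rw [← mul_assoc, hcb, mul_assoc, mul_self hD hcD, mul_one]
    have cwa : Commute w a := hwa
    have cwb : Commute w b := by
      show w * b = b * w
      calc w * b = w * b * (w * w) := by rw [mul_self hD hwD, mul_one]
        _ = b * w := by rw [← mul_assoc, hwb]
    refine hbc' ?_
    rw [← key2, ((cwa.mul_right cwb).pow_right 2).eq, mul_assoc, mul_self hD hwD, mul_one]

theorem odds_conj (hD : IsRootInvolutionSet D) (g u : G) :
    odds D (g * u * g⁻¹) = (fun x => g * x * g⁻¹) '' odds D u := by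
  ext x
  constructor
  · intro hx
    refine ⟨g⁻¹ * x * g, ?_, by group⟩
    have := conj_oddAdj hD g⁻¹ hx
    rwa [show g⁻¹ * (g * u * g⁻¹) * g⁻¹⁻¹ = u by group, inv_inv] at this
  · rintro ⟨y, hy, rfl⟩
    exact conj_oddAdj hD g hy

variable [Finite G] (hD : IsRootInvolutionSet D) (hclass : ∀ a ∈ D, ∀ b ∈ D, ∃ g : G, b = g * a * g⁻¹)
include hD hclass

theorem odds_eq_of_subset {u v : G} (hu : u ∈ D) (hv : v ∈ D) (h : odds D u ⊆ odds D v) : odds D u = odds D v := by
  refine Set.eq_of_subset_of_ncard_le h (le_of_eq ?_)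
  obtain ⟨g, rfl⟩ := hclass u hu v hv
  rw [odds_conj hD, Set.ncard_image_of_injective _ fun x y h' => by simpa using h']

theorem odds_third {a e : G} (hl : Line D a e) (h : odds D a = odds D e) : odds D (e * a) = odds D e := by
  obtain ⟨hp, he, hc, hq⟩ := hl.third hD
  refine odds_eq_of_subset hD hclass hp he fun x hx => ?_
  rcases line hD hp he hc hq hx with h' | h'
  · exact h'
  · rw [← mul_assoc, mul_self hD he, one_mul] at h'
    show x ∈ odds D e
    rw [← h]
    exact h'

/-- A pair with product of order `4` has different odd partners. -/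
theorem odds_ne_of_four {a b : G} (ha : a ∈ D) (hb : b ∈ D) (h4 : orderOf (a * b) = 4) :
    odds D a ≠ odds D b := by
  intro hab
  obtain ⟨-, hlb, e1, -⟩ := four_center hD ha hb h4
  have e3 : odds D ((a * b) ^ 2 * b) = odds D b := by
    rw [hlb.2.2.1, ← e1]
    conv_lhs => rw [show a * b * a = a * b * a⁻¹ by rw [inv_eq hD ha]]
    rw [odds_conj hD, ← hab, ← odds_conj hD, mul_inv_cancel_right]
  have hl' : Line D b ((a * b) ^ 2 * b) := by
    have h1 := hlb.symm.third hD
    rw [← hlb.2.2.1] at h1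
    exact h1.symm
  have hc : odds D ((a * b) ^ 2) = odds D b := by
    have h1 := odds_third hD hclass hl' e3.symm
    rw [mul_assoc, mul_self hD hb, mul_one] at h1
    exact h1.trans e3
  set B : Set G := {u | u ∈ D ∧ odds D u = odds D a} with hB
  set P := Subgroup.closure B with hP
  have hBconj : ∀ u ∈ B, ∀ v ∈ B, u * v * u⁻¹ ∈ B := fun u hu v hv => ⟨hD.conj_mem v hv.1 u, by
    rw [odds_conj hD, hv.2, ← hu.2, ← odds_conj hD, mul_inv_cancel_right, hu.2]⟩
  have hPconj : ∀ g ∈ P, ∀ v ∈ B, g * v * g⁻¹ ∈ B := by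
    intro g hg
    induction hg using Subgroup.closure_induction with
    | mem u hu => exact hBconj u hu
    | one => intro v hv; simpa using hv
    | mul u v _ _ h1 h2 =>
      intro w hw
      rw [show u * v * w * (u * v)⁻¹ = u * (v * w * v⁻¹) * u⁻¹ by group]
      exact h1 _ (h2 w hw)
    | inv u _ h1 =>
      intro v hv
      haveI : Finite B := inferInstance
      have hs := Finite.surjective_of_injective (f := fun w : B => (⟨u * w.1 * u⁻¹, h1 w.1 w.2⟩ : B))
        (fun x y h => Subtype.ext (by simpa using congrArg Subtype.val h))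
      obtain ⟨w, hw⟩ := hs ⟨v, hv⟩
      have hw' : u * w.1 * u⁻¹ = v := congrArg Subtype.val hw
      rw [inv_inv, ← hw', show u⁻¹ * (u * w.1 * u⁻¹) * u = w.1 by group]
      exact w.2
  -- `P` is a `2`-group
  let D' : Set P := {p | (p : G) ∈ B}
  have hD' : IsRootInvolutionSet D' := by
    refine ⟨fun d hd => by rw [← Subgroup.orderOf_coe]; exact hD.orderOf_eq _ hd.1,
      Subgroup.closure_closure_coe_preimage (k := B), fun d hd g => hPconj g g.2 d hd, fun u hu v hv => ?_⟩
    rcases hD.pair u hu.1 v hv.1 with h | h | ⟨h, -⟩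
    · exact Or.inl (Subtype.ext h)
    · exact Or.inr (Or.inl (by rw [← Subgroup.orderOf_coe]; exact h))
    · refine Or.inr (Or.inr ⟨by rw [← Subgroup.orderOf_coe]; exact h, ?_⟩)
      show ((u : G) * v) ^ 2 ∈ B
      obtain ⟨-, hlv, f1, -⟩ := four_center hD hu.1 hv.1 h
      refine ⟨hlv.2.1, ?_⟩
      have f3 : odds D (((u : G) * v) ^ 2 * v) = odds D a := by
        rw [hlv.2.2.1, ← f1, show (u : G) * v * u = u * v * (u : G)⁻¹ by rw [inv_eq hD hu.1]]
        exact (hBconj u hu v hv).2
      have hlv' : Line D (v : G) (((u : G) * v) ^ 2 * v) := by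
        have h1 := hlv.symm.third hD
        rw [← hlv.2.2.1] at h1
        exact h1.symm
      have h1 := odds_third hD hclass hlv' (hv.2.trans f3.symm)
      rw [mul_assoc, mul_self hD hv.1, mul_one] at h1
      exact h1.trans f3
  have hiso : ∀ d ∈ D', IsIsolatedElem (OddAdj D') D' d := fun d hd => by
    refine ⟨hd, fun e => ?_⟩
    have key : ∀ x y : P, OddAdj D' x y → False := fun x y h => by
      have hxy : OddAdj D (x : G) y := ⟨h.1.1, h.2.1.1, fun e => h.2.2.1 (Subtype.ext e),
        by rw [← Subgroup.coe_mul, Subgroup.orderOf_coe]; exact h.2.2.2⟩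
      have h1 : (y : G) ∈ odds D (x : G) := hxy
      rw [h.1.2, ← h.2.1.2] at h1
      exact h1.2.2.1 rfl
    exact ⟨key d e, key e d⟩
  have h2P : IsPGroup 2 P := by
    have hle : (⊤ : Subgroup P) ≤ pCore 2 P := by
      rw [← hD'.generates, Subgroup.closure_le]
      exact fun d hd => isolated_mem_pCore hD' (hiso d hd)
    exact IsPGroup.of_surjective ((CfsgLib.Fitting.pCore_isPGroup (G := P) 2).to_le hle)
      (⊤ : Subgroup P).subtype fun x => ⟨⟨x, trivial⟩, rfl⟩
  -- every generator is a commutator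
  have haB : a ∈ B := ⟨ha, rfl⟩
  have hbB : b ∈ B := ⟨hb, hab.symm⟩
  have hcB : (a * b) ^ 2 ∈ B := ⟨hlb.2.1, hc.trans hab.symm⟩
  have hle : P ≤ ⁅P, P⁆ := by
    rw [hP, Subgroup.closure_le]
    intro u hu
    obtain ⟨g, hg⟩ := hclass _ hcB.1 u hu.1
    have hgB : P.map (MulAut.conj g).toMonoidHom ≤ P := by
      rw [hP, MonoidHom.map_closure, Subgroup.closure_le]
      rintro _ ⟨v, hv, rfl⟩
      refine Subgroup.subset_closure ⟨hD.conj_mem v hv.1 g, ?_⟩
      show odds D (g * v * g⁻¹) = _
      rw [odds_conj hD, hv.2, ← hcB.2, ← odds_conj hD, ← hg, hu.2, hcB.2]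
    have h1 : (a * b) ^ 2 ∈ ⁅P, P⁆ := by
      rw [show (a * b) ^ 2 = a * b * a⁻¹ * b⁻¹ by rw [inv_eq hD ha, inv_eq hD hb, pow_two]; group]
      exact Subgroup.commutator_mem_commutator (Subgroup.subset_closure haB) (Subgroup.subset_closure hbB)
    have h2 : u ∈ ⁅P, P⁆.map (MulAut.conj g).toMonoidHom := ⟨_, h1, hg.symm⟩
    rw [Subgroup.map_commutator] at h2
    exact Subgroup.commutator_mono hgB hgB h2
  have hne : P ≠ ⊥ := fun h => by
    have : a ∈ P := Subgroup.subset_closure haB
    rw [h, Subgroup.mem_bot] at this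
    have := hD.orderOf_eq a ha
    simp_all
  haveI : Nontrivial P := (Subgroup.nontrivial_iff_ne_bot P).mpr hne
  haveI : Group.IsNilpotent P := h2P.isNilpotent
  have htop : commutator P = ⊤ := by
    apply Subgroup.map_injective P.subtype_injective
    rw [commutator_def, Subgroup.map_commutator, ← MonoidHom.range_eq_map, Subgroup.range_subtype]
    exact le_antisymm (Subgroup.commutator_le_self P) hle
  exact (Group.IsSolvable.commutator_lt_top_of_nontrivial P).ne htop

theorem exists_mover_of_odds_ne {a e : G} (hl : Line D a e) (h : odds D a ≠ odds D e) :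
    ∃ m ∈ D, m * e = e * m ∧ m * a * m = a * e := by
  obtain ⟨x, hx, hx'⟩ : ∃ x ∈ odds D a, x ∉ odds D e := Set.not_subset.mp fun hs =>
    h (odds_eq_of_subset hD hclass hl.1 hl.2.1 hs)
  exact exists_mover hD hx hl hx'

/-- Members with the same odd partners centralise the same members. -/
theorem comm_of_odds_eq {u v d : G} (hu : u ∈ D) (hv : v ∈ D) (huv : odds D u = odds D v) (hd : d ∈ D)
    (hdu : d * u = u * d) : d * v = v * d := by
  have hnuv : ¬ OddAdj D u v := fun h => by
    have h1 : v ∈ odds D u := h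
    rw [huv] at h1
    exact h1.2.2.1 rfl
  have hcuv : u * v = v * u := by
    rcases hD.pair u hu v hv with h | h | ⟨h, -⟩
    · exact h
    · by_cases e : u = v
      · rw [e]
      · exact absurd ⟨hu, hv, e, h⟩ hnuv
    · exact absurd huv (odds_ne_of_four hD hclass hu hv h)
  rcases hD.pair v hv d hd with h | h | ⟨h, -⟩
  · exact h.symm
  · by_cases e : v = d
    · rw [e]
    · have h1 : d ∈ odds D v := ⟨hv, hd, e, h⟩
      rw [← huv] at h1
      exact absurd hdu.symm (odd_ne_comm hD h1)
  · exfalso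
    obtain ⟨hlv, hld, -, e2⟩ := four_center hD hv hd h
    set c := (v * d) ^ 2 with hc
    have hvc : odds D (c * v) = odds D v := by
      rw [hlv.2.2.1, ← e2, show d * v * d = d * v * d⁻¹ by rw [inv_eq hD hd], odds_conj hD, ← huv,
        ← odds_conj hD, show d * u * d⁻¹ = u by rw [hdu, mul_inv_cancel_right]]
    have hlv' : Line D v (c * v) := by
      have h1 := hlv.symm.third hD
      rw [← hlv.2.2.1] at h1
      exact h1.symm
    have hcv : odds D c = odds D v := by
      have h1 := odds_third hD hclass hlv' hvc.symm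
      rw [mul_assoc, mul_self hD hv, mul_one] at h1
      exact h1.trans hvc
    have hcd : odds D c ≠ odds D d := fun e => odds_ne_of_four hD hclass hv hd h (hcv.symm.trans e)
    obtain ⟨m, hm, hmd, hmc⟩ := exists_mover_of_odds_ne hD hclass hld.symm hcd
    have hvm : m ∈ odds D v := odd_of_mover hD hv hd hm h hmd hmc
    rw [← hcv] at hvm
    have hsq : (m * c) ^ 2 = d := by
      rw [pow_two, show m * c * (m * c) = m * c * m * c by group, hmc, hld.2.2.1, mul_assoc,
        mul_self hD hld.2.1, mul_one]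
    have hodd : Odd (orderOf (m * c)) := (oddAdj_symm hD hvm).2.2.2
    have h4 : (m * c) ^ 4 = 1 := by
      rw [show (4 : ℕ) = 2 * 2 from rfl, pow_mul, hsq, pow_two, mul_self hD hd]
    have h1 : orderOf (m * c) = 1 := by
      obtain ⟨i, -, hi⟩ := (Nat.dvd_prime_pow Nat.prime_two).mp
        ((orderOf_dvd_of_pow_eq_one h4).trans (show 4 ∣ 2 ^ 2 by norm_num))
      rw [hi] at hodd ⊢
      rcases Nat.eq_zero_or_pos i with h0 | h0
      · rw [h0, pow_zero]
      · exact absurd hodd (Nat.not_odd_iff_even.mpr (even_two.pow_of_ne_zero h0.ne'))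
    have := hD.orderOf_eq d hd
    rw [← hsq, orderOf_eq_one_iff.mp h1, one_pow, orderOf_one] at this
    omega

omit hclass [Finite G] in
theorem odds_subset_of_comm {u v : G} (hu : u ∈ D) (hv : v ∈ D)
    (h : commutingMembers D u = commutingMembers D v) : odds D u ⊆ odds D v := by
  intro x hx
  have hxD := hx.2.1
  have hu' : u * v = v * u := (h ▸ (show u ∈ commutingMembers D u from ⟨hu, rfl⟩) : u ∈ commutingMembers D v).2
  rcases hD.pair v hv x hxD with h' | h' | ⟨h', -⟩
  · have h1 : x ∈ commutingMembers D v := ⟨hxD, h'.symm⟩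
    rw [← h] at h1
    exact absurd h1.2.symm (odd_ne_comm hD hx)
  · refine ⟨hv, hxD, fun e => ?_, h'⟩
    subst e
    exact odd_ne_comm hD hx hu'
  · exfalso
    obtain ⟨hlv, hlx, -, -⟩ := four_center hD hv hxD h'
    have h1 : (v * x) ^ 2 ∈ commutingMembers D v := ⟨hlv.2.1, hlv.2.2.1⟩
    rw [← h] at h1
    have h2 := no_odd hD hlx.2.1 hu hlx.2.2.1 (hlx.2.2.1 ▸ hlx.2.2.2) h1.2.symm hx.2.2.2
    exact hx.2.2.1 (by
      calc u = u * x * x := by rw [mul_assoc, mul_self hD hxD, mul_one]
        _ = x := by rw [h2, one_mul])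

theorem sameClass_iff {u v : G} (hu : u ∈ D) (hv : v ∈ D) :
    commutingMembers D u = commutingMembers D v ↔ odds D u = odds D v := by
  refine ⟨fun h => odds_eq_of_subset hD hclass hu hv (odds_subset_of_comm hD hu hv h), fun h => ?_⟩
  ext d
  exact ⟨fun hd => ⟨hd.1, comm_of_odds_eq hD hclass hu hv h hd.1 hd.2⟩,
    fun hd => ⟨hd.1, comm_of_odds_eq hD hclass hv hu h.symm hd.1 hd.2⟩⟩

/-- A partner of a point on a line outside its class gives a product of order `3`. -/
theorem exists_four_partner_three {a b : G} (hl : Line D a b)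
    (hne : commutingMembers D a ≠ commutingMembers D b) :
    ∃ x ∈ D, orderOf (b * x) = 4 ∧ orderOf (a * x) = 3 := by
  have hl' := hl
  obtain ⟨ha, hb, hba, -⟩ := hl
  have hne' : odds D a ≠ odds D b := fun h => hne ((sameClass_iff hD hclass ha hb).mpr h)
  obtain ⟨e, he, heb, hea⟩ := exists_mover_of_odds_ne hD hclass hl' hne'
  have hbi := inv_eq hD hb
  have hei := inv_eq hD he
  have hb1 : b ≠ 1 := fun h => by
    have := hD.orderOf_eq b hb
    rw [h, orderOf_one] at this
    omega
  have hsq : (a * e) ^ 2 = b := by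
    rw [pow_two, show a * e * (a * e) = a * (e * a * e) by group, hea, ← mul_assoc, mul_self hD ha, one_mul]
  have four : ∀ p q : G, p ∈ D → q ∈ D → (∃ r ∈ D, (p * q) ^ 2 = r) → orderOf (p * q) = 4 := by
    rintro p q hp hq ⟨r, hr, hpq⟩
    rcases hD.pair p hp q hq with h | h | ⟨h, -⟩
    · exfalso
      have h2 : (p * q) ^ 2 = 1 := by
        rw [(show Commute p q from h).mul_pow, pow_two, pow_two, mul_self hD hp, mul_self hD hq, one_mul]
      have := hD.orderOf_eq r hr
      rw [← hpq, h2, orderOf_one] at this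
      omega
    · exfalso
      have h4 : (p * q) ^ 4 = 1 := by
        rw [show (4 : ℕ) = 2 * 2 from rfl, pow_mul, hpq, pow_two, mul_self hD hr]
      have h1 : orderOf (p * q) ∣ 4 := orderOf_dvd_of_pow_eq_one h4
      have : orderOf (p * q) = 1 := Nat.eq_one_of_dvd_coprimes
        ((Nat.coprime_two_left.mpr h).pow_left 2 |> Nat.Coprime.symm) dvd_rfl (h1.trans (by norm_num))
      have := hD.orderOf_eq r hr
      rw [← hpq, orderOf_eq_one_iff.mp ‹orderOf (p * q) = 1›, one_pow, orderOf_one] at this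
      omega
    · exact h
  have h4 : orderOf (a * e) = 4 := four a e ha he ⟨b, hb, hsq⟩
  obtain ⟨-, hle, e1, -⟩ := four_center hD ha he h4
  rw [hsq] at hle e1
  -- `b` and `e` are not in one class
  have hbe : odds D b ≠ odds D e := fun h => by
    have hae := comm_of_odds_eq hD hclass hb he h ha hba.symm
    have h2 : (a * e) ^ 2 = 1 := by
      rw [(show Commute a e from hae).mul_pow, pow_two, pow_two, mul_self hD ha, mul_self hD he, one_mul]
    exact hb1 (hsq.symm.trans h2)
  obtain ⟨x, hx, hxe, hxb⟩ := exists_mover_of_odds_ne hD hclass hle.symm hbe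
  have hbx : (b * x) ^ 2 = e := by
    rw [pow_two, show b * x * (b * x) = b * (x * b * x) by group, hxb, ← mul_assoc, mul_self hD hb, one_mul]
  refine ⟨x, hx, four b x hb hx ⟨e, he, hbx⟩, ?_⟩
  have hax : OddAdj D a x := odd_of_mover hD ha he hx h4 hxe (hsq.symm ▸ hxb)
  have hai := inv_eq hD ha
  have hxi := inv_eq hD hx
  have haD : ∀ p ∈ D, a * p * a ∈ D := fun p hp => by
    have := hD.conj_mem p hp a
    rwa [hai] at this
  have hxD : ∀ p ∈ D, x * p * x ∈ D := fun p hp => by
    have := hD.conj_mem p hp x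
    rwa [hxi] at this
  have hab' : a * b * a = b := by rw [← hba, mul_assoc, mul_self hD ha, mul_one]
  have hxe' : x * e * x = e := by rw [hxe, mul_assoc, mul_self hD hx, mul_one]
  have hbbe : b * (e * b) = e := by
    rw [← hle.2.2.1, ← mul_assoc, mul_self hD hb, one_mul]
  set u := a * x * a with hu
  set v := x * a * x with hv
  -- both move `b` to `e`
  have hub : u * b * u = e := by
    calc u * b * u = a * x * (a * b * a) * x * a := by rw [hu]; group
      _ = a * (b * e) * a := by rw [hab', ← hxb]; group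
      _ = (a * b * a) * (a * e * a) := by
        rw [show a * b * a * (a * e * a) = a * b * (a * a) * e * a by group, mul_self hD ha, mul_one]; group
      _ = e := by rw [hab', e1, hbbe]
  have hvb : v * b * v = e := by
    calc v * b * v = x * a * (x * b * x) * a * x := by rw [hv]; group
      _ = x * ((a * b * a) * (a * e * a)) * x := by
        rw [hxb, show a * b * a * (a * e * a) = a * b * (a * a) * e * a by group, mul_self hD ha, mul_one]; group
      _ = e := by rw [hab', e1, hbbe, hxe']
  -- hence both centralise the third point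
  have huD : u ∈ D := haD x hx
  have hvD : v ∈ D := hxD a ha
  have third : ∀ w ∈ D, w * b * w = e → w * (e * b) = (e * b) * w ∧ (w * b) ^ 2 = e * b := by
    intro w hw hwb
    have h1 : w * e * w = b := by
      rw [← hwb, show w * (w * b * w) * w = w * w * b * (w * w) by group, mul_self hD hw, one_mul, mul_one]
    refine ⟨?_, by rw [pow_two, show w * b * (w * b) = w * b * w * b by group, hwb]⟩
    have h2 : w * (e * b) * w = b * e := by
      calc w * (e * b) * w = (w * e * w) * (w * b * w) := by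
            rw [show w * e * w * (w * b * w) = w * e * (w * w) * b * w by group, mul_self hD hw, mul_one]; group
        _ = b * e := by rw [h1, hwb]
    calc w * (e * b) = w * (e * b) * w * w := by rw [mul_assoc (w * (e * b)), mul_self hD hw, mul_one]
      _ = e * b * w := by rw [h2, hle.2.2.1]
  have hlz : Line D v (e * b) := by
    have h1 := (third v hvD hvb).2
    rw [← h1]
    exact (four_center hD hvD hb (four v b hvD hb ⟨e * b, hle.2.2.1 ▸ hle.2.2.2, h1⟩)).1
  have hodd : Odd (orderOf (u * v)) := by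
    rw [show u * v = (a * x) ^ 3 by rw [hu, hv, pow_succ, pow_two]; group]
    exact CfsgLib.Invol.odd_orderOf_of_dvd hax.2.2.2 (orderOf_pow_dvd 3)
  have huv := no_odd hD hlz.2.1 huD hlz.2.2.1 (hlz.2.2.1 ▸ hlz.2.2.2) (third u huD hub).1 hodd
  refine orderOf_eq_prime ?_ (fun h => hax.2.2.1 ?_)
  · rw [← huv, hu, hv, pow_succ, pow_two]; group
  · calc a = a * x * x := by rw [mul_assoc, mul_self hD hx, mul_one]
      _ = x := by rw [h, one_mul]

omit hclass in
/-- Connectedness of the odd graph gives a single class. -/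
theorem class_of_connected (hc : IsConnectedSet (OddAdj D) D) {a b : G} (ha : a ∈ D) (hb : b ∈ D) :
    ∃ g : G, b = g * a * g⁻¹ := by
  induction hc a ha b hb with
  | refl => exact ⟨1, by simp⟩
  | tail _ h ih =>
    obtain ⟨g, rfl⟩ := ih h.1
    obtain ⟨k, hk⟩ := CfsgLib.Invol.exists_zpow_conj_of_odd (hD.orderOf_eq _ h.1) (hD.orderOf_eq _ h.2.1) h.2.2.2
    rename_i c' _
    exact ⟨(g * a * g⁻¹ * c') ^ k * g, hk.symm.trans (by group)⟩

end CfsgLib.RootSub.Invol

namespace CfsgLib.RootSub.Invol

variable {G : Type*} [Group G] {D : Set G}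

theorem mem_comm_four_iff (hD : IsRootInvolutionSet D) {u x : G} (hu : u ∈ D) :
    x ∈ commutingMembers D u ∪ fourPartners D u ↔ x ∈ D ∧ x ∉ odds D u := by
  constructor
  · rintro (⟨hx, hc⟩ | ⟨hx, h4⟩)
    · exact ⟨hx, fun h => odd_ne_comm hD h hc.symm⟩
    · exact ⟨hx, fun h => not_odd_four h h4⟩
  · rintro ⟨hx, hn⟩
    rcases hD.pair u hu x hx with h | h | ⟨h, -⟩
    · exact Or.inl ⟨hx, h.symm⟩
    · refine Or.inl ⟨hx, ?_⟩
      by_cases e : u = x
      · rw [e]
      · exact absurd ⟨hu, hx, e, h⟩ hn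
    · exact Or.inr ⟨hx, h⟩

theorem union_eq_iff (hD : IsRootInvolutionSet D) {u v : G} (hu : u ∈ D) (hv : v ∈ D) :
    commutingMembers D u ∪ fourPartners D u = commutingMembers D v ∪ fourPartners D v ↔
      odds D u = odds D v := by
  simp only [Set.ext_iff, mem_comm_four_iff hD hu, mem_comm_four_iff hD hv]
  refine forall_congr' fun x => ?_
  have h1 : x ∈ odds D u → x ∈ D := fun h => h.2.1
  have h2 : x ∈ odds D v → x ∈ D := fun h => h.2.1
  tauto

end CfsgLib.RootSub.Invol
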