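import Cfsg.Agent.Lib.Classical.OrthOmega
import Cfsg.Agent.Lib.Classical.OrthForms
import Cfsg.Agent.Lib.RootSub.Concrete
import Cfsg.Agent.Lib.RootSub.MapHom

/-!
The Siegel transformations of the totally singular lines form a family of root subgroups.
-/

set_option autoImplicit false
set_option linter.unusedSectionVars false

namespace CfsgLib.RootSub.SiegelLines

open CfsgLib.Orth Matrix Cfsg
open scoped commutatorElement

variable {F : Type*} [Field F] {ι : Type} [Fintype ι] [DecidableEq ι]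
variable {Q : QuadraticForm F (ι → F)}

local notation "B" => QuadraticMap.polar (DFunLike.coe Q)

/-- The isometries fixing the perpendicular of the pair `p, r`. -/
def Root (Q : QuadraticForm F (ι → F)) (p r : ι → F) : Subgroup (Grp Q) :=
  Subgroup.closure {σ : Grp Q | ∀ v : ι → F, Q (v + p) - Q v - Q p = 0 → Q (v + r) - Q v - Q r = 0 →
    ((σ : Matrix.GeneralLinearGroup ι F) : Matrix ι ι F) *ᵥ v = v}

/-- The family attached to all totally singular lines. -/
def Fam (Q : QuadraticForm F (ι → F)) : Set (Subgroup (Grp Q)) :=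
  {A | ∃ p r : ι → F, LinearIndependent F ![p, r] ∧ Q p = 0 ∧ Q r = 0 ∧ Q (p + r) = 0 ∧ A = Root Q p r}

/-- A totally singular line. -/
structure Line (Q : QuadraticForm F (ι → F)) (p r : ι → F) : Prop where
  indep : LinearIndependent F ![p, r]
  qp : Q p = 0
  qr : Q r = 0
  orth : QuadraticMap.polar Q p r = 0

theorem mem_fam {A : Subgroup (Grp Q)} : A ∈ Fam Q ↔ ∃ p r, Line Q p r ∧ A = Root Q p r := by
  constructor
  · rintro ⟨p, r, h, hp, hr, hpr, rfl⟩
    exact ⟨p, r, ⟨h, hp, hr, by rw [QuadraticMap.polar, hpr, hp, hr, sub_zero, sub_zero]⟩, rfl⟩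
  · rintro ⟨p, r, ⟨h, hp, hr, ho⟩, rfl⟩
    exact ⟨p, r, h, hp, hr, by rw [q_add, hp, hr, ho, add_zero, add_zero], rfl⟩

theorem root_congr {p r p' r' : ι → F}
    (h : ∀ v, (B v p = 0 ∧ B v r = 0) ↔ (B v p' = 0 ∧ B v r' = 0)) : Root Q p r = Root Q p' r' := by
  refine congrArg Subgroup.closure (Set.ext fun σ => ?_)
  exact ⟨fun H v a b => H v ((h v).2 ⟨a, b⟩).1 ((h v).2 ⟨a, b⟩).2,
    fun H v a b => H v ((h v).1 ⟨a, b⟩).1 ((h v).1 ⟨a, b⟩).2⟩

theorem root_comm' (p r : ι → F) : Root Q p r = Root Q r p :=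
  root_congr fun _ => and_comm

/-- Changing the basis of a line. -/
theorem root_basis {p r : ι → F} {a b c d : F} (h : a * d - b * c ≠ 0) :
    Root Q p r = Root Q (a • p + b • r) (c • p + d • r) := by
  refine root_congr fun v => ⟨fun ⟨h1, h2⟩ => ?_, fun ⟨h1, h2⟩ => ?_⟩
  · simp [b_add_right, b_smul_right, h1, h2]
  · simp only [b_add_right, b_smul_right] at h1 h2
    exact ⟨(mul_eq_zero.1 (show (a * d - b * c) * B v p = 0 by linear_combination d * h1 - b * h2)).resolve_left h,
      (mul_eq_zero.1 (show (a * d - b * c) * B v r = 0 by linear_combination a * h2 - c * h1)).resolve_left h⟩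

theorem line_basis {p r : ι → F} (L : Line Q p r) {a b c d : F} (h : a * d - b * c ≠ 0) :
    Line Q (a • p + b • r) (c • p + d • r) := by
  obtain ⟨hi, hp, hr, ho⟩ := L
  refine ⟨?_, ?_, ?_, ?_⟩
  · rw [LinearIndependent.pair_iff]
    intro s t e
    have e' : (s * a + t * c) • p + (s * b + t * d) • r = 0 := by rw [← e]; module
    obtain ⟨h1, h2⟩ := LinearIndependent.pair_iff.1 hi _ _ e'
    exact ⟨(mul_eq_zero.1 (show (a * d - b * c) * s = 0 by linear_combination d * h1 - c * h2)).resolve_left h,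
      (mul_eq_zero.1 (show (a * d - b * c) * t = 0 by linear_combination a * h2 - b * h1)).resolve_left h⟩
  · simp [q_add, q_smul, hp, hr, ho, b_smul_left, b_smul_right]
  · simp [q_add, q_smul, hp, hr, ho, b_smul_left, b_smul_right]
  · simp [b_add_left, b_add_right, b_smul_left, b_smul_right, ho, b_comm r p, b_self_zero hp,
      b_self_zero hr]

theorem Line.not_mem {p r : ι → F} (L : Line Q p r) :
    p ∉ Submodule.span F {r} ∧ r ∉ Submodule.span F {p} := by
  constructor <;> intro h <;> obtain ⟨c, hc⟩ := Submodule.mem_span_singleton.1 h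
  · exact one_ne_zero (LinearIndependent.pair_iff.1 L.indep (-1) c (by rw [hc]; module) |>.1 |>
      neg_eq_zero.1)
  · exact one_ne_zero (LinearIndependent.pair_iff.1 L.indep c (-1) (by rw [hc]; module) |>.2 |>
      neg_eq_zero.1)

theorem exists_duals (hB : Nondeg Q) {p r : ι → F} (L : Line Q p r) :
    ∃ s t, B p s = 1 ∧ B r s = 0 ∧ B p t = 0 ∧ B r t = 1 := by
  obtain ⟨s, hs, hs1⟩ := exists_orth_one hB L.not_mem.1
  obtain ⟨t, ht, ht1⟩ := exists_orth_one hB L.not_mem.2
  exact ⟨s, t, hs1, mem_orth_span.1 hs r rfl, mem_orth_span.1 ht p rfl, ht1⟩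

theorem mem_root (hB : Nondeg Q) {p r : ι → F} (L : Line Q p r) {g : Grp Q} :
    g ∈ Root Q p r ↔ ∃ k : F, IsSiegel p (k • r) g := by
  constructor
  · intro hg
    induction hg using Subgroup.closure_induction with
    | one => exact ⟨0, by rw [zero_smul]; exact siegel_one L.qp⟩
    | mul x y _ _ hx hy =>
      obtain ⟨a, ha⟩ := hx
      obtain ⟨b, hb⟩ := hy
      exact ⟨a + b, by rw [add_smul]; exact siegel_mul ha hb⟩
    | inv x _ hx =>
      obtain ⟨a, ha⟩ := hx
      obtain ⟨y, hy⟩ := exists_siegel hB L.qp (v := (-a) • r) (by rw [b_smul_right, L.orth, mul_zero])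
      have := siegel_mul ha hy
      rw [← add_smul, add_neg_cancel, zero_smul] at this
      exact ⟨-a, inv_eq_of_mul_eq_one_right (siegel_unique this (siegel_one L.qp)) ▸ hy⟩
    | mem σ hσ =>
      obtain ⟨s, t, hps, hrs, hpt, hrt⟩ := exists_duals hB L
      have hfix : ∀ v, B v p = 0 → B v r = 0 → ap σ v = v := hσ
      have fp : ap σ p = p := hfix p (b_self_zero L.qp) L.orth
      have fr : ap σ r = r := hfix r (by rw [b_comm]; exact L.orth) (b_self_zero L.qr)
      have hperp : ∀ x, ∃ a b : F, ap σ x - x = a • p + b • r := by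
        intro x
        refine ⟨B (ap σ x - x) s, B (ap σ x - x) t,
          sub_eq_zero.1 (hB _ fun y => ?_)⟩
        set w := y - B y p • s - B y r • t with hw
        have w1 : B w p = 0 := by
          simp [hw, b_sub_left, b_smul_left, b_comm s p, b_comm t p, hps, hpt]
        have w2 : B w r = 0 := by
          simp [hw, b_sub_left, b_smul_left, b_comm s r, b_comm t r, hrs, hrt]
        have w3 : B (ap σ x - x) w = 0 := by
          rw [b_sub_left]
          conv_lhs => arg 1; rw [← hfix w w1 w2, ap_b]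
          exact sub_self _
        have e : B (ap σ x - x) y =
            B y p * B (ap σ x - x) s + B y r * B (ap σ x - x) t := by
          have : y = w + B y p • s + B y r • t := by rw [hw]; module
          conv_lhs => rw [this]
          rw [b_add_right, b_add_right, w3, b_smul_right, b_smul_right, zero_add]
        simp only [b_sub_left (ap σ x - x), b_add_left, b_smul_left, e, b_comm y p, b_comm y r]
        ring
      obtain ⟨a, b, hsa⟩ := hperp s
      obtain ⟨c, d, htc⟩ := hperp t
      rw [sub_eq_iff_eq_add'] at hsa htc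
      have hsp : B s p = 1 := by rw [b_comm, hps]
      have hsr : B s r = 0 := by rw [b_comm, hrs]
      have htp : B t p = 0 := by rw [b_comm, hpt]
      have htr : B t r = 1 := by rw [b_comm, hrt]
      have ha : a = 0 := by
        have h := ap_q σ s
        rw [hsa] at h
        simpa [q_add, q_smul, L.qp, L.qr, b_add_right, b_smul_left, b_smul_right, L.orth, hsp, hsr] using h
      have hd : d = 0 := by
        have h := ap_q σ t
        rw [htc] at h
        simpa [q_add, q_smul, L.qp, L.qr, b_add_right, b_smul_left, b_smul_right, L.orth, htp, htr] using h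
      subst ha; subst hd
      have hc : c = -b := by
        have h := ap_b σ s t
        rw [hsa, htc] at h
        simp [b_add_left, b_add_right, b_smul_left, b_smul_right, L.orth, hsp, hrt, b_self_zero L.qr,
          b_comm r p] at h
        linear_combination h
      refine ⟨b, L.qp, by rw [b_smul_right, L.orth, mul_zero], fun x => ?_⟩
      set w := x - B x p • s - B x r • t with hw
      have w1 : B w p = 0 := by simp [hw, b_sub_left, b_smul_left, hsp, htp]
      have w2 : B w r = 0 := by simp [hw, b_sub_left, b_smul_left, hsr, htr]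
      have : x = w + B x p • s + B x r • t := by rw [hw]; module
      conv_lhs => rw [this]
      rw [ap_add, ap_add, ap_smul, ap_smul, hfix w w1 w2, hsa, htc, hc, b_smul_right, q_smul, L.qr]
      conv_rhs => arg 1; arg 1; arg 1; rw [this]
      module
  · rintro ⟨k, hk⟩
    exact Subgroup.subset_closure fun v a b => siegel_fix hk a
      (by rw [b_smul_right, show B v r = 0 from b, mul_zero])

theorem swap_siegel {u a : ι → F} {g : Grp Q} (h : IsSiegel u a g) (ha : Q a = 0) :
    IsSiegel a (-u) g := by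
  refine ⟨ha, by rw [← neg_one_smul F u, b_smul_right, b_comm, h.2.1, mul_zero], fun x => ?_⟩
  rw [h.2.2, ha, QuadraticMap.map_neg, h.1, ← neg_one_smul F u, b_smul_right]
  module

theorem inv_two {a b c d : F} (h : a * d - b * c ≠ 0) :
    d / (a * d - b * c) * a + -c / (a * d - b * c) * b = 1 ∧
    -b / (a * d - b * c) * a + a / (a * d - b * c) * b = 0 ∧
    d / (a * d - b * c) * c + -c / (a * d - b * c) * d = 0 ∧
    -b / (a * d - b * c) * c + a / (a * d - b * c) * d = 1 ∧
    d / (a * d - b * c) * (a / (a * d - b * c)) -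
      -c / (a * d - b * c) * (-b / (a * d - b * c)) ≠ 0 := by
  generalize hD : a * d - b * c = D at h ⊢
  refine ⟨?_, ?_, ?_, ?_, ?_⟩
  · field_simp; linear_combination hD
  · field_simp; ring
  · field_simp; ring
  · field_simp; linear_combination hD
  · rw [show d / D * (a / D) - -c / D * (-b / D) = D⁻¹ by field_simp; linear_combination hD]
    exact inv_ne_zero h

variable (hB : Nondeg Q)
include hB

theorem root_abelian {p r : ι → F} (L : Line Q p r) : IsMulCommutative (Root Q p r) := by
  refine ⟨⟨fun a b => Subtype.ext ?_⟩⟩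
  obtain ⟨x, hx⟩ := (mem_root hB L).1 a.2
  obtain ⟨y, hy⟩ := (mem_root hB L).1 b.2
  refine siegel_unique (siegel_mul hx hy) ?_
  rw [add_comm]
  exact siegel_mul hy hx

theorem root_ne_bot {p r : ι → F} (L : Line Q p r) : Root Q p r ≠ ⊥ := by
  intro e
  obtain ⟨s, t, hps, hrs, hpt, hrt⟩ := exists_duals hB L
  obtain ⟨g, hg⟩ := exists_siegel hB L.qp (v := (1 : F) • r) (by rw [b_smul_right, L.orth, mul_zero])
  have h : g ∈ Root Q p r := (mem_root hB L).2 ⟨1, hg⟩
  rw [e, Subgroup.mem_bot] at h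
  have h2 := hg.2.2 s
  rw [h, ap_one, b_comm s p, hps, b_smul_right, b_comm s r, hrs, q_smul, L.qr] at h2
  refine L.not_mem.2 ?_
  rw [show r = 0 by linear_combination (norm := module) -h2]
  exact Submodule.zero_mem _

theorem conj_root {p r : ι → F} (L : Line Q p r) (s : Grp Q) :
    conjBy (Root Q p r) s = Root Q (ap s p) (ap s r) ∧ Line Q (ap s p) (ap s r) := by
  have L' : Line Q (ap s p) (ap s r) := by
    refine ⟨?_, by rw [ap_q, L.qp], by rw [ap_q, L.qr], by rw [ap_b, L.orth]⟩
    rw [LinearIndependent.pair_iff]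
    intro a b e
    rw [← ap_smul, ← ap_smul, ← ap_add] at e
    refine LinearIndependent.pair_iff.1 L.indep a b (ap_inj s ?_)
    rw [e, show (0 : ι → F) = (0 : F) • (0 : ι → F) by rw [zero_smul], ap_smul, zero_smul, zero_smul]
  refine ⟨?_, L'⟩
  ext g
  constructor
  · rintro ⟨y, hy, rfl⟩
    obtain ⟨k, hk⟩ := (mem_root hB L).1 hy
    refine (mem_root hB L').2 ⟨k, ?_⟩
    rw [← ap_smul]
    exact siegel_conj hk s
  · intro hg
    obtain ⟨k, hk⟩ := (mem_root hB L').1 hg
    obtain ⟨y, hy⟩ := exists_siegel hB L.qp (v := k • r) (by rw [b_smul_right, L.orth, mul_zero])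
    refine ⟨y, (mem_root hB L).2 ⟨k, hy⟩, siegel_unique (siegel_conj hy s) ?_⟩
    rwa [ap_smul]

theorem commute_root {p r s t : ι → F} (L : Line Q p r) (M : Line Q s t) (h1 : B p s = 0)
    (h2 : B p t = 0) (h3 : B r s = 0) (h4 : B r t = 0) : ⁅Root Q p r, Root Q s t⁆ = ⊥ := by
  rw [eq_bot_iff, Subgroup.commutator_le]
  intro a ha b hb
  obtain ⟨x, hx⟩ := (mem_root hB L).1 ha
  obtain ⟨y, hy⟩ := (mem_root hB M).1 hb
  rw [Subgroup.mem_bot, commutatorElement_eq_one_iff_mul_comm]
  have h := siegel_conj hy a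
  rw [siegel_fix hx (by rw [b_comm]; exact h1) (by rw [b_smul_right, b_comm, h3, mul_zero]), ap_smul,
    siegel_fix hx (by rw [b_comm]; exact h2) (by rw [b_smul_right, b_comm, h4, mul_zero])] at h
  exact mul_inv_eq_iff_eq_mul.1 (siegel_unique h hy)

/-- The commutator of two Siegel transformations of lines meeting in rank one. -/
theorem comm_eq {p r s t : ι → F} (L : Line Q p r) (M : Line Q s t) (hps : B p s = 1) (hpt : B p t = 0)
    (hrs : B r s = 0) (hrt : B r t = 0) {a b : F} {g h : Grp Q} (hg : IsSiegel p (a • r) g)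
    (hh : IsSiegel s (b • t) h) : IsSiegel r ((a * b) • t) ⁅g, h⁆ := by
  have e1 : ap h p = p + b • t := by
    rw [hh.2.2, hps, b_smul_right, hpt, q_smul, M.qr]; module
  have e2 : ap h r = r := siegel_fix hh hrs (by rw [b_smul_right, hrt, mul_zero])
  have s1 : IsSiegel r ((-a) • p) g := by
    have h1 := swap_siegel hg (by rw [q_smul, L.qr, mul_zero])
    obtain ⟨k, hk⟩ := exists_siegel hB L.qr (v := -p)
      (by rw [← neg_one_smul F p, b_smul_right, b_comm, L.orth, mul_zero])
    have := siegel_smul hk a h1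
    rwa [smul_neg, ← neg_smul] at this
  obtain ⟨g', hg'⟩ := exists_siegel hB L.qr (v := a • p) (by rw [b_smul_right, b_comm, L.orth, mul_zero])
  have hinv : g' = g⁻¹ := by
    have := siegel_mul s1 hg'
    rw [← add_smul, neg_add_cancel, zero_smul] at this
    exact eq_inv_of_mul_eq_one_right (siegel_unique this (siegel_one L.qr))
  have h2 := siegel_conj hg' h
  rw [e2, ap_smul, e1, hinv] at h2
  have h3 := siegel_mul s1 h2
  rw [commutatorElement_def, show g * h * g⁻¹ * h⁻¹ = g * (h * g⁻¹ * h⁻¹) by group]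
  convert h3 using 1
  module

theorem rank_one {p r s t : ι → F} (L : Line Q p r) (M : Line Q s t) (hps : B p s = 1) (hpt : B p t = 0)
    (hrs : B r s = 0) (hrt : B r t = 0) :
    ⁅Root Q p r, Root Q s t⁆ = ⊥ ∨ RootCommutatorCase (Fam Q) (Root Q p r) (Root Q s t) := by
  by_cases hi : LinearIndependent F ![r, t]
  swap
  · left
    rw [eq_bot_iff, Subgroup.commutator_le]
    intro g hg h hh
    obtain ⟨a, ha⟩ := (mem_root hB L).1 hg
    obtain ⟨b, hb⟩ := (mem_root hB M).1 hh
    have hc := comm_eq hB L M hps hpt hrs hrt ha hb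
    rw [LinearIndependent.pair_iff] at hi
    push Not at hi
    obtain ⟨x, y, e, hxy⟩ := hi
    have hy : y ≠ 0 := fun h0 => by
      rw [h0, zero_smul, add_zero, smul_eq_zero] at e
      exact e.elim (fun hx => hxy hx h0) fun hr => L.not_mem.2 (hr ▸ Submodule.zero_mem _)
    have ht : t = (-x / y) • r := by
      have : y • t = (-x) • r := by linear_combination (norm := module) e
      rw [div_eq_inv_mul, mul_smul, ← this, smul_smul, inv_mul_cancel₀ hy, one_smul]
    have h1 := siegel_add_self (siegel_one (Q := Q) L.qr) (a * b * (-x / y))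
    rw [zero_add] at h1
    rw [ht, smul_smul] at hc
    rw [Subgroup.mem_bot]
    exact siegel_unique hc h1
  right
  have N : Line Q r t := ⟨hi, L.qr, M.qr, hrt⟩
  have hin : ∀ g ∈ Root Q p r, ∀ h ∈ Root Q s t, ⁅g, h⁆ ∈ Root Q r t := fun g hg h hh => by
    obtain ⟨a, ha⟩ := (mem_root hB L).1 hg
    obtain ⟨b, hb⟩ := (mem_root hB M).1 hh
    exact (mem_root hB N).2 ⟨a * b, comm_eq hB L M hps hpt hrs hrt ha hb⟩
  have hout1 : ∀ g ∈ Root Q p r, g ≠ 1 → ∀ z ∈ Root Q r t, ∃ h ∈ Root Q s t, ⁅g, h⁆ = z := by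
    intro g hg hg1 z hz
    obtain ⟨a, ha⟩ := (mem_root hB L).1 hg
    have ha0 : a ≠ 0 := fun e => hg1 (by rw [e, zero_smul] at ha; exact siegel_unique ha (siegel_one L.qp))
    obtain ⟨c, hc⟩ := (mem_root hB N).1 hz
    obtain ⟨h, hh⟩ := exists_siegel hB M.qp (v := (c / a) • t) (by rw [b_smul_right, M.orth, mul_zero])
    have := comm_eq hB L M hps hpt hrs hrt ha hh
    rw [mul_div_cancel₀ _ ha0] at this
    exact ⟨h, (mem_root hB M).2 ⟨_, hh⟩, siegel_unique this hc⟩
  have hout2 : ∀ h ∈ Root Q s t, h ≠ 1 → ∀ z ∈ Root Q r t, ∃ g ∈ Root Q p r, ⁅g, h⁆ = z := by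
    intro h hh hh1 z hz
    obtain ⟨b, hb⟩ := (mem_root hB M).1 hh
    have hb0 : b ≠ 0 := fun e => hh1 (by rw [e, zero_smul] at hb; exact siegel_unique hb (siegel_one M.qp))
    obtain ⟨c, hc⟩ := (mem_root hB N).1 hz
    obtain ⟨g, hg⟩ := exists_siegel hB L.qp (v := (c / b) • r) (by rw [b_smul_right, L.orth, mul_zero])
    have := comm_eq hB L M hps hpt hrs hrt hg hb
    rw [div_mul_cancel₀ _ hb0] at this
    exact ⟨g, (mem_root hB L).2 ⟨_, hg⟩, siegel_unique this hc⟩
  have heq : ⁅Root Q p r, Root Q s t⁆ = Root Q r t := by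
    refine le_antisymm (Subgroup.commutator_le.2 hin) fun z hz => ?_
    obtain ⟨g, hg⟩ := exists_siegel hB L.qp (v := (1 : F) • r) (by rw [b_smul_right, L.orth, mul_zero])
    obtain ⟨c, hc⟩ := (mem_root hB N).1 hz
    obtain ⟨h, hh⟩ := exists_siegel hB M.qp (v := c • t) (by rw [b_smul_right, M.orth, mul_zero])
    have := comm_eq hB L M hps hpt hrs hrt hg hh
    rw [one_mul] at this
    rw [← siegel_unique this hc]
    exact Subgroup.commutator_mem_commutator ((mem_root hB L).2 ⟨_, hg⟩) ((mem_root hB M).2 ⟨_, hh⟩)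
  refine ⟨heq ▸ mem_fam.2 ⟨r, t, N, rfl⟩, ?_, ?_, ?_⟩
  · rw [heq]
    intro c hc x hx
    have c1 := commute_root hB N L (by rw [b_comm]; exact L.orth) (b_self_zero L.qr)
      (by rw [b_comm]; exact hpt) (by rw [b_comm]; exact hrt)
    have c2 := commute_root hB N M hrs hrt (by rw [b_comm]; exact M.orth) (b_self_zero M.qr)
    have hle : Root Q p r ⊔ Root Q s t ≤ Subgroup.centralizer ({c} : Set (Grp Q)) :=
      sup_le (fun y hy => Subgroup.mem_centralizer_singleton_iff.2 (commute_of_eq_bot c1 c hc y hy).symm)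
        (fun y hy => Subgroup.mem_centralizer_singleton_iff.2 (commute_of_eq_bot c2 c hc y hy).symm)
    exact (Subgroup.mem_centralizer_singleton_iff.1 (hle hx)).symm
  · intro g hg hg1
    rw [heq]
    refine le_antisymm ((Subgroup.closure_le _).2 ?_) fun z hz => ?_
    · rintro _ ⟨h, hh, rfl⟩; exact hin g hg h hh
    · obtain ⟨h, hh, rfl⟩ := hout1 g hg hg1 z hz
      exact Subgroup.subset_closure ⟨h, hh, (commutatorElement_def g h).symm⟩
  · intro h hh hh1
    rw [heq]
    refine le_antisymm ((Subgroup.closure_le _).2 ?_) fun z hz => ?_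
    · rintro _ ⟨g, hg, rfl⟩; exact hin g hg h hh
    · obtain ⟨g, hg, rfl⟩ := hout2 h hh hh1 z hz
      exact Subgroup.subset_closure ⟨g, hg, (commutatorElement_def g h).symm⟩

/-- The linear map of a two by two matrix at two hyperbolic pairs. -/
def act (p r s t : ι → F) (N : Matrix (Fin 2) (Fin 2) F) : (ι → F) →ₗ[F] (ι → F) :=
  LinearMap.id + ((N 0 0 - 1) • QuadraticMap.polarBilin Q s + N 0 1 • QuadraticMap.polarBilin Q r).smulRight p
    + (N 1 0 • QuadraticMap.polarBilin Q s + (N 1 1 - 1) • QuadraticMap.polarBilin Q r).smulRight t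
    + ((N 0 0 - 1) • QuadraticMap.polarBilin Q t - N 0 1 • QuadraticMap.polarBilin Q p).smulRight r
    + ((N 1 1 - 1) • QuadraticMap.polarBilin Q p - N 1 0 • QuadraticMap.polarBilin Q t).smulRight s

omit hB in
theorem act_apply (p r s t : ι → F) (N : Matrix (Fin 2) (Fin 2) F) (x : ι → F) :
    act (Q := Q) p r s t N x = x + ((N 0 0 - 1) * B x s + N 0 1 * B x r) • p
      + (N 1 0 * B x s + (N 1 1 - 1) * B x r) • t + ((N 0 0 - 1) * B x t - N 0 1 * B x p) • r
      + ((N 1 1 - 1) * B x p - N 1 0 * B x t) • s := by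
  simp [act, b_comm p x, b_comm r x, b_comm s x, b_comm t x]

theorem rank_two {p r s t : ι → F} (L : Line Q p r) (M : Line Q s t) (hps : B p s = 1) (hpt : B p t = 0)
    (hrs : B r s = 0) (hrt : B r t = 1) :
    ∃ φ : Matrix.SpecialLinearGroup (Fin 2) F →* Grp Q, Function.Injective φ ∧
      (upperUnipotentSL2 F).map φ = Root Q p r ∧ (lowerUnipotentSL2 F).map φ = Root Q s t := by
  have hsp : B s p = 1 := by rw [b_comm, hps]
  have htp : B t p = 0 := by rw [b_comm, hpt]
  have hsr : B s r = 0 := by rw [b_comm, hrs]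
  have htr : B t r = 1 := by rw [b_comm, hrt]
  have pp := b_self_zero L.qp
  have rr := b_self_zero L.qr
  have ss := b_self_zero M.qp
  have tt := b_self_zero M.qr
  have rp : B r p = 0 := by rw [b_comm, L.orth]
  have ts : B t s = 0 := by rw [b_comm, M.orth]
  have hiso : ∀ (N : Matrix.SpecialLinearGroup (Fin 2) F) x, Q (act (Q := Q) p r s t N.1 x) = Q x := by
    intro N x
    have hd : N.1 0 0 * N.1 1 1 - N.1 0 1 * N.1 1 0 = 1 := by
      rw [← Matrix.det_fin_two]; exact N.2
    rw [act_apply]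
    simp only [q_add, q_smul, L.qp, L.qr, M.qp, M.qr, b_add_left, b_smul_left, b_smul_right, L.orth,
      M.orth, hps, hpt, hrs, hrt, htp, htr, hsp, hsr, rp, ts]
    linear_combination (B x p * B x s + B x r * B x t) * hd
  choose f hf using fun N => exists_iso hB _ (hiso N)
  have hmul : ∀ N N', f (N * N') = f N * f N' := fun N N' => ext_ap fun x => by
    rw [ap_mul, hf, hf, hf, act_apply, act_apply, act_apply]
    simp only [Matrix.SpecialLinearGroup.coe_mul, Matrix.mul_apply, Fin.sum_univ_two, b_add_left,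
      b_smul_left, pp, rr, ss, tt, L.orth, M.orth, hps, hpt, hrs, hrt, hsp, hsr, htp, htr, rp, ts]
    module
  refine ⟨MonoidHom.mk' f hmul, fun N N' e => ?_, ?_, ?_⟩
  · have e' : ∀ x, act (Q := Q) p r s t N.1 x = act (Q := Q) p r s t N'.1 x := fun x => by
      rw [← hf, ← hf]
      exact congrArg (fun g => ap g x) e
    have p1 := congrArg (fun y => B y s) (e' p)
    have p2 := congrArg (fun y => B y r) (e' p)
    have t1 := congrArg (fun y => B y s) (e' t)
    have t2 := congrArg (fun y => B y r) (e' t)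
    simp only [act_apply, b_add_left, b_smul_left, pp, tt, ss, rr, L.orth, M.orth, hps, hpt, hrs,
      hrt, hsp, hsr, htp, htr, rp, ts] at p1 p2 t1 t2
    apply Subtype.ext
    ext i j
    fin_cases i <;> fin_cases j
    · show N.1 0 0 = N'.1 0 0; linear_combination p1
    · show N.1 0 1 = N'.1 0 1; linear_combination t1
    · show N.1 1 0 = N'.1 1 0; linear_combination p2
    · show N.1 1 1 = N'.1 1 1; linear_combination t2
  · have key : ∀ c : F, IsSiegel p ((-c) • r) (f (Unitri.upm c)) := fun c =>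
      ⟨L.qp, by rw [b_smul_right, L.orth, mul_zero], fun x => by
        rw [hf, act_apply, b_smul_right, q_smul, L.qr]
        simp [Unitri.upm_coe]
        module⟩
    ext g
    constructor
    · rintro ⟨N, hN, rfl⟩
      obtain ⟨c, rfl⟩ := Unitri.mem_upper.1 hN
      exact (mem_root hB L).2 ⟨-c, key c⟩
    · intro hg
      obtain ⟨k, hk⟩ := (mem_root hB L).1 hg
      refine ⟨_, Unitri.mem_upper.2 ⟨-k, rfl⟩, siegel_unique ?_ hk⟩
      have := key (-k)
      rwa [neg_neg] at this
  · have key : ∀ c : F, IsSiegel s (c • t) (f (Unitri.lom c)) := fun c =>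
      ⟨M.qp, by rw [b_smul_right, M.orth, mul_zero], fun x => by
        rw [hf, act_apply, b_smul_right, q_smul, M.qr]
        simp [Unitri.lom_coe]
        module⟩
    ext g
    constructor
    · rintro ⟨N, hN, rfl⟩
      obtain ⟨c, rfl⟩ := Unitri.mem_lower.1 hN
      exact (mem_root hB M).2 ⟨c, key c⟩
    · intro hg
      obtain ⟨k, hk⟩ := (mem_root hB M).1 hg
      exact ⟨_, Unitri.mem_lower.2 ⟨k, rfl⟩, siegel_unique (key k) hk⟩

theorem trichotomy {A A' : Subgroup (Grp Q)} (hA : A ∈ Fam Q) (hA' : A' ∈ Fam Q) :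
    Tri F (Fam Q) A A' := by
  obtain ⟨p, r, L, rfl⟩ := mem_fam.1 hA
  obtain ⟨s, t, M, rfl⟩ := mem_fam.1 hA'
  set a := B p s
  set b := B p t
  set c := B r s
  set d := B r t
  by_cases hdet : a * d - b * c = 0
  swap
  · obtain ⟨i1, i2, i3, i4, hne⟩ := inv_two hdet
    have M' := line_basis M hne
    rw [root_basis (Q := Q) (p := s) (r := t) hne]
    refine Or.inr (Or.inl (rank_two hB L M' ?_ ?_ ?_ ?_)) <;>
      simp only [b_add_right, b_smul_right] <;> assumption
  by_cases h0 : a = 0 ∧ b = 0 ∧ c = 0 ∧ d = 0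
  · exact Or.inl (commute_root hB L M h0.1 h0.2.1 h0.2.2.1 h0.2.2.2)
  -- rank one
  have key : ∀ p r s t : ι → F, Line Q p r → Line Q s t →
      B p s * B r t - B p t * B r s = 0 → B p s ≠ 0 →
      Tri F (Fam Q) (Root Q p r) (Root Q s t) := by
    intro p r s t L M hdet h
    have hne1 : (1 : F) * 1 - 0 * (-(B r s) / B p s) ≠ 0 := by simp
    have hne2 : (B p s)⁻¹ * 1 - 0 * (-(B p t) / B p s) ≠ 0 := by simpa using inv_ne_zero h
    rw [root_basis (Q := Q) (p := p) (r := r) hne1, root_basis (Q := Q) (p := s) (r := t) hne2]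
    rcases rank_one hB (line_basis L hne1) (line_basis M hne2)
        (by simp only [b_add_left, b_add_right, b_smul_left, b_smul_right]; field_simp; ring)
        (by simp only [b_add_left, b_add_right, b_smul_left, b_smul_right]; field_simp; ring)
        (by simp only [b_add_left, b_add_right, b_smul_left, b_smul_right]; field_simp; ring)
        (by simp only [b_add_left, b_add_right, b_smul_left, b_smul_right]; field_simp
            linear_combination hdet) with h | h
    exacts [Or.inl h, Or.inr (Or.inr h)]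
  have Ls : Line Q r p := ⟨LinearIndependent.pair_symm_iff.1 L.indep, L.qr, L.qp, by rw [b_comm, L.orth]⟩
  have Ms : Line Q t s := ⟨LinearIndependent.pair_symm_iff.1 M.indep, M.qr, M.qp, by rw [b_comm, M.orth]⟩
  by_cases ha : a = 0
  · by_cases hb : b = 0
    · by_cases hc : c = 0
      · rw [root_comm' p r, root_comm' s t]
        exact key r p t s Ls Ms (by linear_combination hdet) fun hd => h0 ⟨ha, hb, hc, hd⟩
      · rw [root_comm' p r]
        exact key r p s t Ls M (by linear_combination -hdet) hc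
    · rw [root_comm' s t]
      exact key p r t s L Ms (by linear_combination -hdet) hb
  · exact key p r s t L M hdet ha

theorem adj_of {p r s t : ι → F} (L : Line Q p r) (M : Line Q s t)
    (h : B p s * B r t - B p t * B r s ≠ 0) :
    FAdj (Fam Q) (Root Q p r) (Root Q s t) ∧ FAdj (Fam Q) (Root Q s t) (Root Q p r) := by
  obtain ⟨i1, i2, i3, i4, hne⟩ := inv_two h
  obtain ⟨φ, hφ, e1, e2⟩ := rank_two hB L (line_basis M hne)
    (by simp only [b_add_right, b_smul_right]; exact i1)
    (by simp only [b_add_right, b_smul_right]; exact i2)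
    (by simp only [b_add_right, b_smul_right]; exact i3)
    (by simp only [b_add_right, b_smul_right]; exact i4)
  rw [← root_basis (Q := Q) (p := s) (r := t) hne] at e2
  have hp := pair_of_hom φ hφ
  rw [e1, e2] at hp
  exact ⟨⟨mem_fam.2 ⟨p, r, L, rfl⟩, mem_fam.2 ⟨s, t, M, rfl⟩, hp⟩,
    mem_fam.2 ⟨s, t, M, rfl⟩, mem_fam.2 ⟨p, r, L, rfl⟩, RootPair hp⟩
where
  RootPair {A A' : Subgroup (Grp Q)} (h : IsRankOnePair A A') : IsRankOnePair A' A :=
    Cfsg.RankOnePair_symm h

omit hB in
theorem reach_orth (hB : Nondeg Q) {p r r' : ι → F} (L : Line Q p r) (L' : Line Q p r')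
    (ho : B r r' = 0) : Relation.ReflTransGen (FAdj (Fam Q)) (Root Q p r) (Root Q p r') := by
  by_cases hd : r' ∈ Submodule.span F ({p, r} : Set (ι → F))
  · obtain ⟨a, b, e⟩ := Submodule.mem_span_pair.1 hd
    have hb : b ≠ 0 := fun h0 => L'.not_mem.2 (Submodule.mem_span_singleton.2 ⟨a, by
      rw [← e, h0, zero_smul, add_zero]⟩)
    rw [root_basis (Q := Q) (p := p) (r := r) (a := 1) (b := 0) (c := a) (d := b)
      (by simpa using hb), one_smul, zero_smul, add_zero, e]
  have hr : r ∉ Submodule.span F ({p, r' - r} : Set (ι → F)) := by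
    intro h
    obtain ⟨a, b, e⟩ := Submodule.mem_span_pair.1 h
    rcases eq_or_ne b 0 with rfl | hb
    · exact L.not_mem.2 (Submodule.mem_span_singleton.2 ⟨a, by simpa using e⟩)
    · refine hd (Submodule.mem_span_pair.2 ⟨-a / b, (1 + b) / b, ?_⟩)
      have e' : b • r' = (-a) • p + (1 + b) • r := by linear_combination (norm := module) e
      rw [div_eq_inv_mul, div_eq_inv_mul, mul_smul, mul_smul, ← smul_add, ← e', smul_smul,
        inv_mul_cancel₀ hb, one_smul]
  obtain ⟨z, hz, hz1⟩ := exists_orth_one hB hr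
  have zp : B p z = 0 := mem_orth_span.1 hz p (Set.mem_insert _ _)
  have zr' : B r' z = 1 := by
    have := mem_orth_span.1 hz (r' - r) (Set.mem_insert_of_mem _ rfl)
    rwa [b_sub_left, hz1, sub_eq_zero] at this
  set t := z - Q z • r
  have qt : Q t = 0 := by
    rw [q_sub, q_smul, L.qr, b_smul_right, b_comm z r, hz1]; ring
  have tp : B p t = 0 := by rw [b_sub_right, zp, b_smul_right, L.orth]; ring
  have tr : B r t = 1 := by rw [b_sub_right, hz1, b_smul_right, b_self_zero L.qr]; ring
  have tr' : B r' t = 1 := by rw [b_sub_right, zr', b_smul_right, b_comm r' r, ho]; ring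
  have hpt : p ∉ Submodule.span F {t} := by
    intro h
    obtain ⟨c, hc⟩ := Submodule.mem_span_singleton.1 h
    have := L.orth
    rw [← hc, b_smul_left, b_comm, tr, mul_one] at this
    rw [this, zero_smul] at hc
    exact L.not_mem.1 (hc ▸ Submodule.zero_mem _)
  obtain ⟨y, hy, hy1⟩ := exists_orth_one hB hpt
  set s := y - Q y • p
  have qs : Q s = 0 := by rw [q_sub, q_smul, L.qp, b_smul_right, b_comm y p, hy1]; ring
  have sp : B p s = 1 := by rw [b_sub_right, hy1, b_smul_right, b_self_zero L.qp]; ring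
  have st : B t s = 0 := by
    rw [b_sub_right, mem_orth_span.1 hy t rfl, b_smul_right, b_comm t p, tp]; ring
  have M : Line Q s t := by
    refine ⟨LinearIndependent.pair_iff.2 fun a b e => ?_, qs, qt, by rw [b_comm, st]⟩
    have h1 := congrArg (B p) e
    have h2 := congrArg (B r) e
    simp [b_add_right, b_smul_right, sp, tp, tr, b_zero_right] at h1 h2
    subst h1
    exact ⟨rfl, by simpa using h2⟩
  exact Relation.ReflTransGen.tail
    (.single (adj_of hB L M (by rw [sp, tr, tp]; simp)).1)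
    (adj_of hB L' M (by rw [sp, tr', tp]; simp)).2

omit hB in
theorem reach_point (hB : Nondeg Q) {M : ℕ} (hM : 3 ≤ M) (U : Submodule F (ι → F))
    (hU : Module.finrank F U = M) (hUq : ∀ u ∈ U, Q u = 0) {p r r' : ι → F} (L : Line Q p r)
    (L' : Line Q p r') : Relation.ReflTransGen (FAdj (Fam Q)) (Root Q p r) (Root Q p r') := by
  have hUb : ∀ u ∈ U, ∀ v ∈ U, B u v = 0 := fun u hu v hv => le_orth_of_singular hUq hv u hu
  have hker : ∀ (W : Submodule F (ι → F)) (x : ι → F), Module.finrank F W ≤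
      Module.finrank F ↥(W ⊓ LinearMap.ker (QuadraticMap.polarBilin Q x)) + 1 := by
    intro W x
    have h1 := LinearMap.finrank_range_add_finrank_ker
      ((QuadraticMap.polarBilin Q x).comp W.subtype)
    have h2 := Submodule.finrank_le (LinearMap.range ((QuadraticMap.polarBilin Q x).comp W.subtype))
    rw [Module.finrank_self] at h2
    rw [LinearMap.ker_comp, ← Submodule.finrank_map_subtype_eq, Submodule.map_comap_subtype] at h1
    omega
  -- a singular subspace through `p`
  obtain ⟨W, hW, hpW, hWq⟩ : ∃ W : Submodule F (ι → F), 3 ≤ Module.finrank F W ∧ p ∈ W ∧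
      ∀ u ∈ W, Q u = 0 := by
    by_cases hp : p ∈ U
    · exact ⟨U, by omega, hp, hUq⟩
    set U₁ := U ⊓ LinearMap.ker (QuadraticMap.polarBilin Q p)
    refine ⟨U₁ ⊔ Submodule.span F {p}, ?_, Submodule.mem_sup_right (Submodule.mem_span_singleton_self p),
      fun u hu => ?_⟩
    · have h1 := hker U p
      have h2 : U₁ < U₁ ⊔ Submodule.span F {p} := lt_of_le_of_ne le_sup_left fun e =>
        hp ((e.ge.trans inf_le_left) (Submodule.mem_sup_right (Submodule.mem_span_singleton_self p)))
      have h3 := Submodule.finrank_lt_finrank_of_lt h2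
      change Module.finrank F U ≤ Module.finrank F ↥U₁ + 1 at h1
      omega
    · obtain ⟨x, hx, y, hy, rfl⟩ := Submodule.mem_sup.1 hu
      obtain ⟨c, rfl⟩ := Submodule.mem_span_singleton.1 hy
      have hx2 : B x p = 0 := by rw [b_comm]; exact hx.2
      rw [q_add, q_smul, L.qp, hUq x hx.1, b_smul_right, hx2]; ring
  have hWb : ∀ u ∈ W, ∀ v ∈ W, B u v = 0 := fun u hu v hv => le_orth_of_singular hWq hv u hu
  have pick : ∀ x, ∃ y ∈ W, B x y = 0 ∧ y ∉ Submodule.span F {p} := by
    intro x
    have h1 := hker W x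
    obtain ⟨y, hy, hyp⟩ := SetLike.not_le_iff_exists.1 (fun hle : W ⊓ LinearMap.ker
        (QuadraticMap.polarBilin Q x) ≤ Submodule.span F {p} => by
      have := Submodule.finrank_mono hle
      have h2 : Module.finrank F (Submodule.span F {p}) ≤ 1 := by
        have := finrank_span_le_card (R := F) ({p} : Set (ι → F))
        simpa using this
      omega)
    exact ⟨y, hy.1, hy.2, hyp⟩
  have mk : ∀ y ∈ W, y ∉ Submodule.span F {p} → Line Q p y := fun y hy hyp =>
    ⟨LinearIndependent.pair_iff.2 fun a b e => by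
      have hb : b = 0 := by
        by_contra hb
        refine hyp (Submodule.mem_span_singleton.2 ⟨-a / b, ?_⟩)
        have : b • y = (-a) • p := by linear_combination (norm := module) e
        rw [div_eq_inv_mul, mul_smul, ← this, smul_smul, inv_mul_cancel₀ hb, one_smul]
      subst hb
      rw [zero_smul, add_zero, smul_eq_zero] at e
      exact ⟨e.resolve_right fun h0 => L.not_mem.1 (h0 ▸ Submodule.zero_mem _), rfl⟩,
      L.qp, hWq y hy, hWb p hpW y hy⟩
  obtain ⟨y₁, hy₁, b₁, n₁⟩ := pick r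
  obtain ⟨y₂, hy₂, b₂, n₂⟩ := pick r'
  exact ((reach_orth hB L (mk y₁ hy₁ n₁) b₁).trans
    (reach_orth hB (mk y₁ hy₁ n₁) (mk y₂ hy₂ n₂) (hWb y₁ hy₁ y₂ hy₂))).trans
    (reach_orth hB (mk y₂ hy₂ n₂) L' (by rw [b_comm]; exact b₂))

omit hB in
theorem connected (hB : Nondeg Q) {M : ℕ} (hM : 3 ≤ M) (U : Submodule F (ι → F))
    (hU : Module.finrank F U = M) (hUq : ∀ u ∈ U, Q u = 0) :
    IsConnectedFamily (FAdj (Fam Q)) (Fam Q) := by
  intro A hA A' hA'
  obtain ⟨p, r, L, rfl⟩ := mem_fam.1 hA
  obtain ⟨s, t, L', rfl⟩ := mem_fam.1 hA'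
  obtain ⟨a, b, hab, hne⟩ : ∃ a b : F, a * B p s + b * B p t = 0 ∧ (a ≠ 0 ∨ b ≠ 0) := by
    by_cases h : B p s = 0
    · exact ⟨1, 0, by simp [h], Or.inl one_ne_zero⟩
    · exact ⟨B p t, -B p s, by ring, Or.inr (neg_ne_zero.2 h)⟩
  obtain ⟨c, d, hcd⟩ : ∃ c d : F, a * d - b * c ≠ 0 := by
    rcases hne with h | h
    · exact ⟨0, 1, by simpa using h⟩
    · exact ⟨1, 0, by simpa using h⟩
  rw [root_basis (Q := Q) (p := s) (r := t) hcd]
  have L'' := line_basis L' hcd
  set u := a • s + b • t
  set w := c • s + d • t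
  have hpu : B p u = 0 := by rw [b_add_right, b_smul_right, b_smul_right]; exact hab
  by_cases hdep : u ∈ Submodule.span F {p}
  · obtain ⟨k, hk⟩ := Submodule.mem_span_singleton.1 hdep
    have hk0 : k ≠ 0 := fun e => by
      rw [e, zero_smul] at hk
      exact L''.not_mem.1 (hk ▸ Submodule.zero_mem _)
    have hne' : k⁻¹ * 1 - 0 * 0 ≠ 0 := by simpa using inv_ne_zero hk0
    have e := root_basis (Q := Q) (p := u) (r := w) hne'
    have L3 := line_basis L'' hne'
    have hk' : k⁻¹ • u + (0 : F) • w = p := by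
      rw [zero_smul, add_zero, ← hk, smul_smul, inv_mul_cancel₀ hk0, one_smul]
    rw [hk', zero_smul, zero_add, one_smul] at e L3
    rw [e]
    exact reach_point hB hM U hU hUq L L3
  · have L2 : Line Q p u := ⟨LinearIndependent.pair_iff.2 fun x y e => by
      have hy : y = 0 := by
        by_contra hy
        refine hdep (Submodule.mem_span_singleton.2 ⟨-x / y, ?_⟩)
        have : y • u = (-x) • p := by linear_combination (norm := module) e
        rw [div_eq_inv_mul, mul_smul, ← this, smul_smul, inv_mul_cancel₀ hy, one_smul]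
      subst hy
      rw [zero_smul, add_zero, smul_eq_zero] at e
      exact ⟨e.resolve_right fun h0 => L.not_mem.1 (h0 ▸ Submodule.zero_mem _), rfl⟩,
      L.qp, L''.qp, hpu⟩
    have L2' : Line Q u p := ⟨LinearIndependent.pair_symm_iff.1 L2.indep, L2.qr, L2.qp,
      by rw [b_comm, hpu]⟩
    refine (reach_point hB hM U hU hUq L L2).trans ?_
    rw [root_comm' p u]
    exact reach_point hB hM U hU hUq L2' L''

omit hB in
theorem main (hB : Nondeg Q) {M : ℕ} (hM : 3 ≤ M) (U : Submodule F (ι → F))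
    (hU : Module.finrank F U = M) (hUq : ∀ u ∈ U, Q u = 0) :
    IsKRootSubgroupSet F ((fun A : Subgroup (Grp Q) => A.subgroupOf (⨆ A' ∈ Fam Q, A')) '' Fam Q) ∧
      IsConnectedFamily (FAdj (Fam Q)) (Fam Q) := by
  refine ⟨?_, connected hB hM U hU hUq⟩
  set X : Subgroup (Grp Q) := ⨆ A' ∈ Fam Q, A'
  set S := (fun A : Subgroup (Grp Q) => A.subgroupOf X) '' Fam Q
  have le_X : ∀ {A : Subgroup (Grp Q)}, A ∈ Fam Q → A ≤ X := fun hA => le_iSup₂_of_le _ hA le_rfl
  have hmap : ∀ {A : Subgroup (Grp Q)}, A ∈ Fam Q → (A.subgroupOf X).map X.subtype = A := fun hA =>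
    Subgroup.map_subgroupOf_eq_of_le (le_X hA)
  have hSimg : (fun Y : Subgroup X => Y.map X.subtype) '' S = Fam Q := by
    rw [Set.image_image]
    exact (Set.image_congr fun A hA => hmap hA).trans (Set.image_id' _)
  have htri : ∀ A ∈ S, ∀ B' ∈ S, Tri F S A B' := by
    rintro _ ⟨A, hA, rfl⟩ _ ⟨A', hA', rfl⟩
    rcases trichotomy hB hA hA' with h | ⟨φ, hφ, e1, e2⟩ | h
    · left
      refine Subgroup.map_injective X.subtype_injective ?_
      rw [Subgroup.map_commutator, hmap hA, hmap hA', h, Subgroup.map_bot]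
    · right; left
      have hle : ∀ N, φ N ∈ X := fun N => by
        have : N ∈ upperUnipotentSL2 F ⊔ lowerUnipotentSL2 F := by
          rw [sup_comm, Unitri.generate]; trivial
        have h2 := Subgroup.mem_map_of_mem φ this
        rw [Subgroup.map_sup, e1, e2] at h2
        exact sup_le (le_X hA) (le_X hA') h2
      have hc : ∀ H : Subgroup (Matrix.SpecialLinearGroup (Fin 2) F),
          (H.map (φ.codRestrict X hle)).map X.subtype = H.map φ := fun H => by
        rw [Subgroup.map_map, show X.subtype.comp (φ.codRestrict X hle) = φ from MonoidHom.ext fun _ => rfl]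
      exact ⟨φ.codRestrict X hle, fun N N' e => hφ (congrArg Subtype.val e),
        Subgroup.map_injective X.subtype_injective ((hc _).trans (e1.trans (hmap hA).symm)),
        Subgroup.map_injective X.subtype_injective ((hc _).trans (e2.trans (hmap hA').symm))⟩
    · right; right
      rw [← case_map_iff X.subtype X.subtype_injective, hSimg, hmap hA, hmap hA']
      exact h
  refine kRootSet_of (rootSet_of (k := F) ?_ ?_ ?_ ?_ htri) htri
  · rintro _ ⟨A, hA, rfl⟩
    obtain ⟨p, r, L, rfl⟩ := mem_fam.1 hA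
    have := root_abelian hB L
    refine ⟨⟨fun a b => Subtype.ext (Subtype.ext ?_)⟩⟩
    show ((a.1 : Grp Q) * (b.1 : Grp Q)) = (b.1 : Grp Q) * (a.1 : Grp Q)
    exact congrArg (fun x : Root Q p r => (x : Grp Q)) (this.1.1 ⟨(a.1 : Grp Q), a.2⟩ ⟨(b.1 : Grp Q), b.2⟩)
  · rintro _ ⟨A, hA, rfl⟩ e
    have h1 := congrArg (Subgroup.map X.subtype) e
    rw [hmap hA, Subgroup.map_bot] at h1
    obtain ⟨p, r, L, rfl⟩ := mem_fam.1 hA
    exact root_ne_bot hB L h1
  · refine Subgroup.map_injective X.subtype_injective ?_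
    rw [← MonoidHom.range_eq_map, Subgroup.range_subtype, Subgroup.map_iSup]
    simp only [Subgroup.map_iSup]
    refine le_antisymm (iSup₂_le fun A hA => ?_) (iSup₂_le fun A hA => ?_)
    · rintro _ ⟨x, -, rfl⟩
      exact x.2
    · exact le_iSup₂_of_le (A.subgroupOf X) ⟨A, hA, rfl⟩ (hmap hA).ge
  · rintro _ ⟨A, hA, rfl⟩ g
    obtain ⟨p, r, L, rfl⟩ := mem_fam.1 hA
    obtain ⟨e, L'⟩ := conj_root hB L (g : Grp Q)
    have hA' : Root Q (ap (g : Grp Q) p) (ap (g : Grp Q) r) ∈ Fam Q := mem_fam.2 ⟨_, _, L', rfl⟩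
    refine ⟨_, hA', Subgroup.map_injective X.subtype_injective ?_⟩
    rw [hmap hA', map_cj, hmap hA, Subgroup.coe_subtype, e]

end CfsgLib.RootSub.SiegelLines
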