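/-
Normal subgroups of groups generated by a connected set of root subgroups.
-/
import Mathlib
import Cfsg.Prelude.Def_RootSubgroups
import Cfsg.Agent.Lib.RootSub.Lines
import Cfsg.Agent.Lib.RootSub.ClassBasic
import Cfsg.Agent.Lib.RootSub.Perfect

set_option autoImplicit false
set_option linter.unusedSectionVars false

open Cfsg
open scoped commutatorElement

namespace CfsgLib.RootSub

variable {G : Type*} [Group G] {S : Set (Subgroup G)}

theorem connected_class (hS : IsRootSubgroupSet S) (hc : IsConnectedFamily (FAdj S) S) (hne : S.Nonempty) :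
    IsRootSubgroupClass S := by
  refine ⟨hS, hne, fun C hC E hE => ?_⟩
  have hr := hc C hC E hE
  clear hE
  induction hr with
  | refl => exact ⟨1, (cj_one C).symm⟩
  | tail _ hbc ih =>
    obtain ⟨g, hg⟩ := ih
    obtain ⟨x, -, hx⟩ := right_mem_unip hbc.2.2
    exact ⟨x * g, by rw [hx, hg, cj_cj]⟩

theorem connected_partner (hc : IsConnectedFamily (FAdj S) S) (h2 : ∃ A ∈ S, ∃ B ∈ S, A ≠ B) :
    ∀ Y ∈ S, ∃ P ∈ S, IsRankOnePair Y P := by
  intro Y hY
  obtain ⟨A, hA, B, hB, hne⟩ := h2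
  obtain ⟨Z, hZ, hYZ⟩ : ∃ Z ∈ S, Y ≠ Z := by
    by_cases h : Y = A
    · exact ⟨B, hB, h ▸ hne⟩
    · exact ⟨A, hA, h⟩
  rcases Relation.ReflTransGen.cases_head (hc Y hY Z hZ) with e | ⟨P, hP, -⟩
  · exact absurd e hYZ
  · exact ⟨P, hP.2.1, hP.2.2⟩

/-- A normal subgroup of a group with a connected set of root subgroups is central or everything. -/
theorem normal_cases (hS : IsRootSubgroupSet S) (h2 : ∃ A ∈ S, ∃ B ∈ S, A ≠ B)
    (hc : IsConnectedFamily (FAdj S) S)
    (hdist : ∀ A ∈ S, ∀ C ∈ S, A ≠ C → centralizingMembers S A ≠ centralizingMembers S C)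
    (h3 : IsDegenerateRootSet S → ∀ A ∈ S, 3 < ENat.card A)
    (h4 : ∀ A ∈ S, ∀ B ∈ rankOnePartners S A, IsSpecialRankOnePair A B) (N : Subgroup G) (hN : N.Normal) :
    N ≤ Subgroup.center G ∨ N = ⊤ := by
  have hpart := connected_partner hc h2
  have hclass := connected_class hS hc (by obtain ⟨A, hA, -⟩ := h2; exact ⟨A, hA⟩)
  have toTop : ∀ C ∈ S, C ≤ N → N = ⊤ := by
    intro C hC hle
    rw [eq_top_iff, ← hS.generates]
    refine iSup₂_le fun E hE => ?_
    obtain ⟨g, rfl⟩ := hclass.2.2 C hC E hE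
    rintro _ ⟨c, hc, rfl⟩
    exact hN.conj_mem c (hle hc) g
  -- elements of a rank one group moving an end
  have toTop2 : ∀ C ∈ S, ∀ D ∈ S, IsRankOnePair C D → ∀ x ∈ N, x ∈ C ⊔ D → conjBy C x ≠ C → N = ⊤ := by
    intro C hC D hD h x hxN hx hmove
    set M := N ⊓ (C ⊔ D)
    have hMn : C ⊔ D ≤ Subgroup.normalizer (M : Set G) := by
      intro y hy
      rw [Subgroup.mem_normalizer_iff]
      intro z
      constructor
      · intro hz
        obtain ⟨h1, h2⟩ := Subgroup.mem_inf.mp hz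
        exact Subgroup.mem_inf.mpr ⟨hN.conj_mem z h1 y, mul_mem (mul_mem hy h2) (inv_mem hy)⟩
      · intro hz
        obtain ⟨h1, h2⟩ := Subgroup.mem_inf.mp hz
        refine Subgroup.mem_inf.mpr ⟨?_, ?_⟩
        · have := hN.conj_mem _ h1 y⁻¹
          simpa [mul_assoc] using this
        · have := mul_mem (mul_mem (inv_mem hy) h2) hy
          simpa [mul_assoc] using this
    have hMC : C ⊔ D ≤ M ⊔ C := by
      rcases le_sup_or_commute h (inf_le_right : M ≤ _) hMn with h1 | h1
      · exact h1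
      · refine absurd (cj_eq_self.mpr (Subgroup.centralizer_le_normalizer _ ?_)) hmove
        exact Subgroup.mem_centralizer_iff.mpr fun c hc => (h1 x ⟨hxN, hx⟩ c (Subgroup.mem_sup_left hc)).symm
    set π := QuotientGroup.mk' N
    have hπC : ∀ y ∈ C ⊔ D, π y ∈ C.map π := by
      intro y hy
      have h1 : (M ⊔ C).map π ≤ C.map π := by
        rw [Subgroup.map_sup, sup_le_iff]
        refine ⟨?_, le_rfl⟩
        rintro _ ⟨m, hm, rfl⟩
        rw [show π m = 1 from (QuotientGroup.eq_one_iff m).mpr hm.1]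
        exact one_mem _
      exact h1 ⟨y, hMC hy, rfl⟩
    by_cases hdeg : IsDegenerateRootSet S
    · -- the rank one group is perfect
      have hperf := rank_one_perfect hS hC hD (h4 C hC D ⟨hD, h⟩) (h3 hdeg)
      refine toTop C hC (le_trans (le_trans le_sup_left hperf.ge) ?_)
      haveI := hS.commutative C hC
      rw [Subgroup.commutator_le]
      intro y hy z hz
      refine (QuotientGroup.eq_one_iff _).mp ?_
      obtain ⟨c, hc, ec⟩ := hπC y hy
      obtain ⟨c', hc', ec'⟩ := hπC z hz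
      have : π ⁅y, z⁆ = 1 := by
        rw [map_commutatorElement, ← ec, ← ec', ← map_commutatorElement,
          commutatorElement_eq_one_iff_mul_comm.mpr (congrArg Subtype.val (mul_comm' (⟨c, hc⟩ : C) ⟨c', hc'⟩)),
          map_one]
      exact this
    · have hnd : IsNondegenerateRootSet S := by
        simp only [IsDegenerateRootSet, not_forall, not_not] at hdeg
        obtain ⟨U, hU, V, hV, hk⟩ := hdeg
        obtain ⟨P, hP, hUP⟩ := hpart U hU
        refine ⟨⟨U, hU, ⁅U, V⁆, hk.1, ne_commutator hS hP hUP hk, ?_⟩, ⟨U, hU, P, hP, hUP⟩, ⟨U, hU, V, hV, hk⟩⟩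
        rw [Subgroup.commutator_comm]
        exact (mem_linePartners hS hP hUP hU hV hk).1.2.2
      obtain ⟨E, hE, -, hk, -, -⟩ := nondeg_pair hclass hnd hC hD h
      refine toTop _ hk.1 (Subgroup.commutator_le.mpr fun e he d hd => (QuotientGroup.eq_one_iff _).mp ?_)
      obtain ⟨c, hc, ec⟩ := hπC d (Subgroup.mem_sup_right hd)
      have hce : ⁅e, c⁆ = 1 := commutatorElement_eq_one_iff_mul_comm.mpr (line_comm hE c hc e he).symm
      have : π ⁅e, d⁆ = 1 := by
        rw [map_commutatorElement, ← ec, ← map_commutatorElement, hce, map_one]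
      exact this
  -- two members congruent modulo `N`, only one of them centralized by `P`
  have sep : ∀ U ∈ S, ∀ V ∈ S, ∀ P ∈ S, (∀ u ∈ U, ∃ v ∈ V, u * v⁻¹ ∈ N) →
      (∀ v ∈ V, ∀ p ∈ P, v * p = p * v) → ¬ (∀ u ∈ U, ∀ p ∈ P, u * p = p * u) → N = ⊤ := by
    intro U hU V hV P hP hcong hVP hUP
    have hmem : ∀ u ∈ U, ∀ p ∈ P, ⁅u, p⁆ ∈ N := by
      intro u hu p hp
      obtain ⟨v, hv, huv⟩ := hcong u hu
      refine (QuotientGroup.eq_one_iff _).mp ?_
      have e : QuotientGroup.mk' N u = QuotientGroup.mk' N v := by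
        rw [← mul_inv_eq_one, ← map_inv, ← map_mul]
        exact (QuotientGroup.eq_one_iff _).mpr huv
      change QuotientGroup.mk' N ⁅u, p⁆ = 1
      rw [map_commutatorElement, e, ← map_commutatorElement,
        commutatorElement_eq_one_iff_mul_comm.mpr (hVP v hv p hp), map_one]
    rcases member_cases hS hU hP with h | h | h
    · exact absurd h hUP
    · obtain ⟨u, hu, hu1⟩ := exists_ne_one h
      obtain ⟨p, hp, hp1⟩ := exists_ne_one (pair_symm h)
      refine toTop2 U hU P hP h ⁅u, p⁆ (hmem u hu p hp) ?_ fun e => ?_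
      · rw [commutatorElement_def]
        exact mul_mem (mul_mem (mul_mem (Subgroup.mem_sup_left hu) (Subgroup.mem_sup_right hp))
          (inv_mem (Subgroup.mem_sup_left hu))) (inv_mem (Subgroup.mem_sup_right hp))
      · have hU' : conjBy U p⁻¹ ≠ U := fun e' =>
          hp1 (inv_eq_one.mp (eq_one_of_normalizes (pair_symm h) (inv_mem hp) (cj_eq_self.mp e')))
        have hpair := (pair_of_unip h left_mem_unip (cj_mem_unip left_mem_unip
          (Subgroup.mem_sup_right (inv_mem hp))) (Ne.symm hU')).1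
        refine hu1 (inv_eq_one.mp (eq_one_of_normalizes hpair (inv_mem hu) (cj_eq_self.mp ?_)))
        have e2 : conjBy (conjBy (conjBy U p⁻¹) u⁻¹) (u * p) = U := by
          rw [cj_cj, cj_cj]
          rw [commutatorElement_def] at e
          convert e using 2
        rw [cj_eq_iff, mul_inv_rev, ← cj_cj, cj_of_mem (inv_mem hu)] at e2
        exact e2
    · exact toTop _ h.1 (Subgroup.commutator_le.mpr hmem)
  by_cases hmove : ∃ g ∈ N, ∃ A ∈ S, conjBy A g ≠ A
  · right
    obtain ⟨g, hg, A, hA, hne⟩ := hmove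
    have hA' := hS.conj_mem A hA g
    have hc1 : ∀ u ∈ A, ∃ v ∈ conjBy A g, u * v⁻¹ ∈ N := fun u hu => by
      refine ⟨g * u * g⁻¹, conj_mem_cj g hu, ?_⟩
      rw [show u * (g * u * g⁻¹)⁻¹ = (u * g * u⁻¹) * g⁻¹ by group]
      exact mul_mem (hN.conj_mem g hg u) (inv_mem hg)
    have hc2 : ∀ v ∈ conjBy A g, ∃ u ∈ A, v * u⁻¹ ∈ N := fun v hv => by
      refine ⟨g⁻¹ * v * g, mem_cj.mp hv, ?_⟩
      rw [show v * (g⁻¹ * v * g)⁻¹ = (v * g⁻¹ * v⁻¹) * g by group]
      exact mul_mem (hN.conj_mem _ (inv_mem hg) v) hg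
    rcases member_cases hS hA hA' with h | h | h
    · have hd := hdist A hA _ hA' (Ne.symm hne)
      obtain ⟨P, hP⟩ : ∃ P, ¬ (P ∈ centralizingMembers S A ↔ P ∈ centralizingMembers S (conjBy A g)) := by
        by_contra hcon; push Not at hcon; exact hd (Set.ext hcon)
      have hiff : ∀ {U : Subgroup G}, P ∈ centralizingMembers S U ↔ P ∈ S ∧ ∀ u ∈ U, ∀ p ∈ P, u * p = p * u :=
        fun {U} => ⟨fun hP => ⟨hP.1, fun u hu p hp => Subgroup.mem_centralizer_iff.mp (hP.2 hp) u hu⟩,
          fun hP => ⟨hP.1, fun p hp => Subgroup.mem_centralizer_iff.mpr fun u hu => hP.2 u hu p hp⟩⟩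
      by_cases hPA : P ∈ centralizingMembers S A
      · obtain ⟨hPS, hcA⟩ := hiff.mp hPA
        exact sep _ hA' A hA P hPS hc2 hcA fun h' => hP (iff_of_true hPA (hiff.mpr ⟨hPS, h'⟩))
      · have hPA' : P ∈ centralizingMembers S (conjBy A g) := by
          by_contra h'; exact hP (iff_of_false hPA h')
        obtain ⟨hPS, hcA⟩ := hiff.mp hPA'
        exact sep A hA _ hA' P hPS hc1 hcA fun h' => hPA (hiff.mpr ⟨hPS, h'⟩)
    · obtain ⟨a, ha, ha1⟩ := exists_ne_one h
      refine toTop2 A hA _ hA' h (a⁻¹ * (g * a * g⁻¹)) ?_ ?_ ?_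
      · rw [show a⁻¹ * (g * a * g⁻¹) = (a⁻¹ * g * a) * g⁻¹ by group]
        exact mul_mem (by simpa using hN.conj_mem g hg a⁻¹) (inv_mem hg)
      · exact mul_mem (Subgroup.mem_sup_left (inv_mem ha)) (Subgroup.mem_sup_right (conj_mem_cj g ha))
      · intro e
        rw [← cj_cj, cj_eq_iff, inv_inv, cj_of_mem ha] at e
        have h1 := eq_one_of_normalizes (pair_symm h) (conj_mem_cj g ha) (cj_eq_self.mp e)
        exact ha1 (conj_eq_one_iff.mp h1)
    · refine toTop _ h.1 (Subgroup.commutator_le.mpr fun a ha v hv => (QuotientGroup.eq_one_iff _).mp ?_)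
      obtain ⟨u, hu, huv⟩ := hc2 v hv
      have e : QuotientGroup.mk' N v = QuotientGroup.mk' N u := by
        rw [← mul_inv_eq_one, ← map_inv, ← map_mul]
        exact (QuotientGroup.eq_one_iff _).mpr huv
      haveI := hS.commutative A hA
      change QuotientGroup.mk' N ⁅a, v⁆ = 1
      rw [map_commutatorElement, e, ← map_commutatorElement,
        commutatorElement_eq_one_iff_mul_comm.mpr (congrArg Subtype.val (mul_comm' (⟨a, ha⟩ : A) ⟨u, hu⟩)),
        map_one]
  · left
    push Not at hmove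
    intro g hg
    rw [Subgroup.mem_center_iff]
    intro y
    have hle : (⊤ : Subgroup G) ≤ Subgroup.centralizer ({g} : Set G) := by
      rw [← hS.generates]
      refine iSup₂_le fun A hA a ha => Subgroup.mem_centralizer_singleton_iff.mpr ?_
      obtain ⟨P, hP, hAP⟩ := hpart A hA
      refine (commute_of_fixes hAP (fun U hU => ?_) (Subgroup.mem_sup_left ha)).symm
      obtain ⟨z, -, rfl⟩ := hU
      exact hmove g hg _ (hS.conj_mem A hA z)
    exact Subgroup.mem_centralizer_singleton_iff.mp (hle (Subgroup.mem_top y))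

theorem center_ne_top (hS : IsRootSubgroupSet S) (hpart : ∀ Y ∈ S, ∃ P ∈ S, IsRankOnePair Y P)
    {A : Subgroup G} (hA : A ∈ S) : ¬ Subgroup.center G = ⊤ := fun hz => by
  obtain ⟨P, hP, h⟩ := hpart A hA
  obtain ⟨a, ha, ha1⟩ := exists_ne_one h
  exact ha1 (eq_one_of_mem_center h ha (hz ▸ Subgroup.mem_top a))

theorem commutator_top (hS : IsRootSubgroupSet S) (h2 : ∃ A ∈ S, ∃ B ∈ S, A ≠ B)
    (hc : IsConnectedFamily (FAdj S) S)
    (hdist : ∀ A ∈ S, ∀ C ∈ S, A ≠ C → centralizingMembers S A ≠ centralizingMembers S C)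
    (h3 : IsDegenerateRootSet S → ∀ A ∈ S, 3 < ENat.card A)
    (h4 : ∀ A ∈ S, ∀ B ∈ rankOnePartners S A, IsSpecialRankOnePair A B) : commutator G = ⊤ := by
  rcases normal_cases hS h2 hc hdist h3 h4 (commutator G) inferInstance with h | h
  · exfalso
    have hpart := connected_partner hc h2
    obtain ⟨A, hA, -⟩ := h2
    obtain ⟨P, hP, hAP⟩ := hpart A hA
    refine not_nilpotent hAP ?_
    haveI : Group.IsNilpotent G := by
      rw [Subgroup.nilpotent_iff_lowerCentralSeries]
      refine ⟨2, (Subgroup.eq_bot_iff_forall _).mpr ?_⟩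
      have h1 : (⊤ : Subgroup G).lowerCentralSeries 2 ≤ ⊥ := by
        rw [Subgroup.lowerCentralSeries_succ, Subgroup.commutator_le]
        intro x hx y _
        rw [Subgroup.top_lowerCentralSeries_one] at hx
        rw [Subgroup.mem_bot, commutatorElement_eq_one_iff_mul_comm]
        exact (Subgroup.mem_center_iff.mp (h hx) y).symm
      exact fun x hx => h1 hx
    exact Subgroup.isNilpotent (A ⊔ P)
  · exact h

end CfsgLib.RootSub
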