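/-
The transvection groups of a symplectic group form a degenerate class of root subgroups over the
ground field.
-/
import Cfsg.Agent.Lib.RootSub.TransvSL
import Cfsg.Agent.Lib.Classical.SympTrans

set_option autoImplicit false

open Matrix Cfsg
open scoped commutatorElement

namespace CfsgLib.RootSub.TSp

open CfsgLib.Classical.SympTrans

variable {F : Type*} [Field F] {m : ℕ}

local notation "G" => Matrix.symplecticGroup (Fin m) F
local notation "V" => (Fin m ⊕ Fin m → F)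
local notation "ω" => sympForm m F

/-- The transvection group of a point. -/
def Root (p : V) : Subgroup G :=
  Subgroup.closure {g : G | ∃ c : F, ∀ v : V,
    (g : Matrix (Fin m ⊕ Fin m) (Fin m ⊕ Fin m) F) *ᵥ v = v + (c * (v ⬝ᵥ (Matrix.J (Fin m) F *ᵥ p))) • p}

/-- All transvection groups. -/
def Fam (F : Type*) [Field F] (m : ℕ) : Set (Subgroup (Matrix.symplecticGroup (Fin m) F)) :=
  {A | ∃ p : Fin m ⊕ Fin m → F, p ≠ 0 ∧ A = Root p}

theorem mem_root {p : V} {g : G} : g ∈ Root p ↔ ∃ c, g = T p c := by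
  refine ⟨fun hg => ?_, fun ⟨c, e⟩ => Subgroup.subset_closure ⟨c, fun v => by rw [e]; exact app_T p c v⟩⟩
  induction hg using Subgroup.closure_induction with
  | mem x hx =>
    obtain ⟨c, hc⟩ := hx
    exact ⟨c, ext_app fun v => (hc v).trans (app_T p c v).symm⟩
  | one => exact ⟨0, (T_zero p).symm⟩
  | mul x y _ _ hx hy =>
    obtain ⟨a, rfl⟩ := hx
    obtain ⟨b, rfl⟩ := hy
    exact ⟨a + b, T_mul p a b⟩
  | inv x _ hx =>
    obtain ⟨a, rfl⟩ := hx
    exact ⟨-a, inv_eq_of_mul_eq_one_right (by rw [T_mul, add_neg_cancel, T_zero])⟩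

theorem root_comm (p : V) : IsMulCommutative (Root p) := by
  refine ⟨⟨fun a b => Subtype.ext ?_⟩⟩
  obtain ⟨x, hx⟩ := mem_root.1 a.2
  obtain ⟨y, hy⟩ := mem_root.1 b.2
  show (a : G) * b = b * a
  rw [hx, hy, T_mul, T_mul, add_comm]

theorem root_ne_bot {p : V} (hp : p ≠ 0) : Root p ≠ ⊥ := by
  obtain ⟨x, hx⟩ : ∃ x, ω x p ≠ 0 := by
    by_contra h
    push_neg at h
    exact hp (eq_zero_of_f p fun v => by rw [f_swap v p, h, neg_zero])
  intro e
  have h1 : T p (1 : F) ∈ Root p := mem_root.2 ⟨1, rfl⟩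
  rw [e, Subgroup.mem_bot] at h1
  have h2 := congrArg (fun g : G => app g x) h1
  simp only [app_T, app_one, one_mul, add_eq_left, smul_eq_zero] at h2
  exact h2.elim hx hp

theorem cj_root (g : G) (p : V) : conjBy (Root p) g = Root (app g p) := by
  ext x
  constructor
  · rintro ⟨y, hy, rfl⟩
    obtain ⟨c, rfl⟩ := mem_root.1 hy
    exact mem_root.2 ⟨c, conj_T g p c⟩
  · intro hx
    obtain ⟨c, rfl⟩ := mem_root.1 hx
    exact ⟨T p c, mem_root.2 ⟨c, rfl⟩, conj_T g p c⟩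

theorem root_smul {p : V} {a : F} (ha : a ≠ 0) : Root (a • p) = Root p := by
  ext x
  simp only [mem_root, T_smul]
  exact ⟨fun ⟨c, e⟩ => ⟨_, e⟩, fun ⟨c, e⟩ => ⟨(a * a)⁻¹ * c, by rw [e, ← mul_assoc,
    mul_inv_cancel₀ (mul_ne_zero ha ha), one_mul]⟩⟩

theorem root_comm_bot {p q : V} (h : ω p q = 0) : ⁅Root p, Root q⁆ = ⊥ := by
  rw [eq_bot_iff, Subgroup.commutator_le]
  intro a ha b hb
  obtain ⟨x, rfl⟩ := mem_root.1 ha
  obtain ⟨y, rfl⟩ := mem_root.1 hb
  rw [Subgroup.mem_bot, commutatorElement_eq_one_iff_mul_comm]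
  refine ext_app fun v => ?_
  simp only [app_mul, app_T, f_add_left, f_smul_left, h, f_swap p q, neg_zero, mul_zero, add_zero]
  module

/-- The embedding of `SL₂` at a hyperbolic pair. -/
noncomputable def hom (u w : V) (h : ω u w = 1) :
    Matrix.SpecialLinearGroup (Fin 2) F →* Matrix.SpecialLinearGroup (Fin m ⊕ Fin m) F :=
  TSL.sl2Hom u w (-(Matrix.J (Fin m) F *ᵥ u)) (Matrix.J (Fin m) F *ᵥ w)
    (by rw [neg_dotProduct, dotProduct_comm]; exact neg_eq_zero.2 (f_self u))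
    (by rw [dotProduct_comm]; exact f_self w)
    (by rw [neg_dotProduct, dotProduct_comm]; show -ω w u = 1; rw [f_swap u w, neg_neg, h])
    (by rw [dotProduct_comm]; exact h)

theorem hom_mulVec (u w : V) (h : ω u w = 1) (N : Matrix.SpecialLinearGroup (Fin 2) F) (x : V) :
    ((hom u w h N : Matrix.SpecialLinearGroup (Fin m ⊕ Fin m) F) :
      Matrix (Fin m ⊕ Fin m) (Fin m ⊕ Fin m) F) *ᵥ x =
      x + ((N.1 0 0 - 1) * ω x w - N.1 0 1 * ω x u) • u
        + (N.1 1 0 * ω x w - (N.1 1 1 - 1) * ω x u) • w := by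
  rw [hom, TSL.sl2Hom_val]
  have e1 : (Matrix.J (Fin m) F *ᵥ w) ⬝ᵥ x = ω x w := dotProduct_comm _ _
  have e2 : (-(Matrix.J (Fin m) F *ᵥ u)) ⬝ᵥ x = -ω x u := by rw [neg_dotProduct, dotProduct_comm]; rfl
  simp only [add_mulVec, one_mulVec, smul_mulVec, vecMulVec_mulVec, op_smul_eq_smul, e1, e2, smul_smul]
  module

theorem hom_mem (u w : V) (h : ω u w = 1) (N : Matrix.SpecialLinearGroup (Fin 2) F) :
    ((hom u w h N : Matrix.SpecialLinearGroup (Fin m ⊕ Fin m) F) :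
      Matrix (Fin m ⊕ Fin m) (Fin m ⊕ Fin m) F) ∈ G := by
  refine mem_iff_f.2 fun x y => ?_
  rw [hom_mulVec, hom_mulVec]
  simp only [f_add_left, f_add_right, f_smul_left, f_smul_right, f_self, f_swap u w, h, f_swap y u, f_swap y w]
  have hd : N.1 0 0 * N.1 1 1 - N.1 0 1 * N.1 1 0 = 1 := by
    rw [← Matrix.det_fin_two]; exact N.2
  linear_combination (ω y w * ω x u - ω x w * ω y u) * hd

/-- The same, into the symplectic group. -/
noncomputable def hom' (u w : V) (h : ω u w = 1) : Matrix.SpecialLinearGroup (Fin 2) F →* G :=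
  { toFun := fun N => ⟨_, hom_mem u w h N⟩
    map_one' := Subtype.ext (by simp only [map_one]; rfl)
    map_mul' := fun N N' => Subtype.ext (by simp only [map_mul]; rfl) }

theorem hom'_injective (u w : V) (h : ω u w = 1) : Function.Injective (hom' u w h) := by
  intro N N' e
  have e' : ((hom' u w h N : G) : Matrix (Fin m ⊕ Fin m) (Fin m ⊕ Fin m) F) = (hom' u w h N' : G) := by rw [e]
  have e'' : hom u w h N = hom u w h N' := Subtype.ext e'
  exact TSL.sl2Hom_injective _ _ _ _ e''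

theorem app_hom' (u w : V) (h : ω u w = 1) (N : Matrix.SpecialLinearGroup (Fin 2) F) (x : V) :
    app (hom' u w h N) x = x + ((N.1 0 0 - 1) * ω x w - N.1 0 1 * ω x u) • u
        + (N.1 1 0 * ω x w - (N.1 1 1 - 1) * ω x u) • w := hom_mulVec u w h N x

theorem hom'_upm (u w : V) (h : ω u w = 1) (c : F) : hom' u w h (Unitri.upm c) = T u (-c) :=
  ext_app fun x => by
    rw [app_hom', app_T]
    simp [Unitri.upm_coe]

theorem hom'_lom (u w : V) (h : ω u w = 1) (c : F) : hom' u w h (Unitri.lom c) = T w c :=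
  ext_app fun x => by
    rw [app_hom', app_T]
    simp [Unitri.lom_coe]

theorem hom'_upper (u w : V) (h : ω u w = 1) : (upperUnipotentSL2 F).map (hom' u w h) = Root u := by
  ext g
  constructor
  · rintro ⟨N, hN, rfl⟩
    obtain ⟨c, rfl⟩ := Unitri.mem_upper.1 hN
    exact mem_root.2 ⟨-c, hom'_upm u w h c⟩
  · intro hg
    obtain ⟨c, rfl⟩ := mem_root.1 hg
    exact ⟨_, Unitri.mem_upper.2 ⟨-c, rfl⟩, by rw [hom'_upm, neg_neg]⟩

theorem hom'_lower (u w : V) (h : ω u w = 1) : (lowerUnipotentSL2 F).map (hom' u w h) = Root w := by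
  ext g
  constructor
  · rintro ⟨N, hN, rfl⟩
    obtain ⟨c, rfl⟩ := Unitri.mem_lower.1 hN
    exact mem_root.2 ⟨c, hom'_lom u w h c⟩
  · intro hg
    obtain ⟨c, rfl⟩ := mem_root.1 hg
    exact ⟨_, Unitri.mem_lower.2 ⟨c, rfl⟩, hom'_lom u w h c⟩

theorem pair_of_ne {p q : V} (h : ω p q ≠ 0) : ∃ φ : Matrix.SpecialLinearGroup (Fin 2) F →* G,
    Function.Injective φ ∧ (upperUnipotentSL2 F).map φ = Root p ∧ (lowerUnipotentSL2 F).map φ = Root q := by
  have h1 : ω p ((ω p q)⁻¹ • q) = 1 := by rw [f_smul_right, inv_mul_cancel₀ h]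
  exact ⟨hom' p _ h1, hom'_injective _ _ h1, hom'_upper _ _ h1, by rw [hom'_lower, root_smul (inv_ne_zero h)]⟩

theorem two_cases {A B : Subgroup G} (hA : A ∈ Fam F m) (hB : B ∈ Fam F m) : ⁅A, B⁆ = ⊥ ∨
    ∃ φ : Matrix.SpecialLinearGroup (Fin 2) F →* G,
      Function.Injective φ ∧ (upperUnipotentSL2 F).map φ = A ∧ (lowerUnipotentSL2 F).map φ = B := by
  obtain ⟨p, -, rfl⟩ := hA
  obtain ⟨q, -, rfl⟩ := hB
  by_cases h : ω p q = 0
  exacts [Or.inl (root_comm_bot h), Or.inr (pair_of_ne h)]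

theorem fam_rootSet : IsRootSubgroupSet (Fam F m) := by
  refine rootSet_of (k := F) ?_ ?_ ?_ ?_ fun A hA B hB => ?_
  · rintro A ⟨p, -, rfl⟩
    exact root_comm p
  · rintro A ⟨p, hp, rfl⟩
    exact root_ne_bot hp
  · rw [eq_top_iff, ← gen_univ, gen, Subgroup.closure_le]
    rintro A ⟨v, -, c, rfl⟩
    rcases eq_or_ne v 0 with rfl | hv
    · rw [T_zero']; exact one_mem _
    · exact Subgroup.mem_iSup_of_mem (Root v) (Subgroup.mem_iSup_of_mem ⟨v, hv, rfl⟩ (mem_root.2 ⟨c, rfl⟩))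
  · rintro A ⟨p, hp, rfl⟩ g
    exact ⟨_, app_ne_zero g hp, cj_root g p⟩
  · exact (two_cases hA hB).imp id Or.inl

theorem exists_common {p q : V} (hp : p ≠ 0) (hq : q ≠ 0) : ∃ w, ω p w ≠ 0 ∧ ω q w ≠ 0 := by
  obtain ⟨a, ha⟩ : ∃ a, ω p a ≠ 0 := by
    by_contra h; push_neg at h; exact hp (eq_zero_of_f p h)
  obtain ⟨b, hb⟩ : ∃ b, ω q b ≠ 0 := by
    by_contra h; push_neg at h; exact hq (eq_zero_of_f q h)
  by_cases ha' : ω q a = 0
  · by_cases hb' : ω p b = 0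
    · exact ⟨a + b, by rw [f_add_right, hb', add_zero]; exact ha, by rw [f_add_right, ha', zero_add]; exact hb⟩
    · exact ⟨b, hb', hb⟩
  · exact ⟨a, ha, ha'⟩

theorem connected : IsConnectedFamily (FAdj (Fam F m)) (Fam F m) := by
  rintro A ⟨p, hp, rfl⟩ B ⟨q, hq, rfl⟩
  obtain ⟨w, h1, h2⟩ := exists_common hp hq
  have hw : w ≠ 0 := fun e => h1 (by rw [e, f_zero_right])
  have adj : ∀ a b : V, a ≠ 0 → b ≠ 0 → ω a b ≠ 0 → FAdj (Fam F m) (Root a) (Root b) := by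
    intro a b ha hb h
    obtain ⟨φ, hφ, e1, e2⟩ := pair_of_ne h
    exact ⟨⟨a, ha, rfl⟩, ⟨b, hb, rfl⟩, e1 ▸ e2 ▸ pair_of_hom φ hφ⟩
  exact .tail (.single (adj p w hp hw h1)) (adj w q hw hq fun e => h2 (by rw [f_swap w q, e, neg_zero]))

theorem main (hm : 0 < m) : IsRootSubgroupClass (Fam F m) ∧ IsDegenerateRootSet (Fam F m) ∧
    IsKRootSubgroupSet F (Fam F m) ∧ IsConnectedFamily (FAdj (Fam F m)) (Fam F m) := by
  have hS := fam_rootSet (F := F) (m := m)
  refine ⟨⟨hS, ⟨Root (Pi.single (.inl ⟨0, hm⟩) 1), _, by simp, rfl⟩, ?_⟩,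
    degenerate_of hS fun A hA B hB => (two_cases hA hB).imp id fun ⟨φ, hφ, e1, e2⟩ => e1 ▸ e2 ▸ pair_of_hom φ hφ,
    kRootSet_of hS fun A hA B hB => (two_cases hA hB).imp id Or.inl, connected⟩
  rintro A ⟨p, hp, rfl⟩ B ⟨q, hq, rfl⟩
  obtain ⟨g, hg⟩ := exists_app_eq hp hq
  exact ⟨g, by rw [cj_root, hg]⟩

end CfsgLib.RootSub.TSp
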